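import Cfsg.Agent.SectRankFour.L32.Cases
import Cfsg.Agent.S0243
import Cfsg.Agent.Classical.Transvections

/-!
`O₂(X)` for two-constrained `X` with `X/O₂(X) ≅ L₃(2)` in sectional rank four.
-/

set_option autoImplicit false
set_option linter.style.haveILetI false

namespace CfsgLib.L32

open Subgroup

universe u

variable {X : Type u} [Group X] [Finite X]

theorem sqs_eq_frat : sqs (Cfsg.pCore 2 X) = SectRankFour.frat X := by
  classical
  haveI : Fact (Nat.Prime 2) := ⟨Nat.prime_two⟩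
  set Q := Cfsg.pCore 2 X with hQdef
  have hQ : IsPGroup 2 Q := CfsgLib.Solvable.isPGroup_pCore 2
  haveI : Q.Normal := CfsgLib.Solvable.pCore_normal 2
  obtain ⟨-, hsqF⟩ := CfsgLib.PGroupBasic.commutator_pow_le_frattini (p := 2) hQ
  refine le_antisymm ((closure_le _).2 ?_) ?_
  · rintro - ⟨r, hr, rfl⟩
    exact ⟨(⟨r, hr⟩ : Q) ^ 2, hsqF _, by rw [Subgroup.subtype_apply, SubmonoidClass.coe_pow, pow_two]⟩
  · haveI hn : (sqs Q).Normal := sqs_normal Q
    haveI : ((sqs Q).subgroupOf Q).Normal := inferInstance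
    have hle : frattini Q ≤ (sqs Q).subgroupOf Q := CfsgLib.PGroupBasic.frattini_le_of_elementary (p := 2) _
      (by
        rw [_root_.commutator_def]
        refine commutator_le.2 fun a _ b _ => ?_
        show ((a : X) * b * (a : X)⁻¹ * (b : X)⁻¹) ∈ sqs Q
        exact comm_mem_sqs a.2 b.2)
      (fun a => by
        show (a : X) ^ 2 ∈ sqs Q
        rw [pow_two]; exact mem_sqs a.2)
    refine (map_mono hle).trans ?_
    rw [subgroupOf_map_subtype]
    exact inf_le_left

theorem setting_pCore (hc : Cfsg.IsPConstrained 2 X) (hO : Cfsg.oddCore X = ⊥)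
    (h4 : Cfsg.SectionalPRankLE 2 4 X) [(Cfsg.pCore 2 X).Normal] {L : Type*} [Group L] [Finite L] [IsSimpleGroup L]
    (e : X ⧸ Cfsg.pCore 2 X ≃* L) (hL : Nat.card L = 168) : Setting (Cfsg.pCore 2 X) := by
  haveI : (SectRankFour.frat X).Normal := SectRankFour.frat_normal
  obtain ⟨-, -, -, -, hC⟩ := SectRankFour.exists_module hc hO (SectRankFour.sectional_subgroup h4 _)
  haveI : IsSimpleGroup (X ⧸ Cfsg.pCore 2 X) := (MulEquiv.isSimpleGroup_congr e).2 inferInstance
  refine ⟨⟨inferInstance, ?_, fun K hK hle => ?_⟩, h4, CfsgLib.Solvable.isPGroup_pCore 2, fun y hy => ?_⟩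
  · rw [index_eq_card, Nat.card_congr e.toEquiv, hL]
  · set π := QuotientGroup.mk' (Cfsg.pCore 2 X)
    have hk : (K.map π).comap π = K := comap_map_eq_self (by rw [QuotientGroup.ker_mk']; exact hle)
    rcases (hK.map π (QuotientGroup.mk'_surjective _)).eq_bot_or_eq_top with h | h
    · exact Or.inl (by rw [← hk, h, MonoidHom.comap_bot, QuotientGroup.ker_mk'])
    · exact Or.inr (by rw [← hk, h, comap_top])
  · set π := QuotientGroup.mk' (SectRankFour.frat X)
    have hmem : π y ∈ (Cfsg.pCore 2 X).map π := hC (by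
      rintro - ⟨v, hv, rfl⟩
      have h : π (y * v * y⁻¹ * v⁻¹) = 1 := (QuotientGroup.eq_one_iff _).2 (sqs_eq_frat (X := X) ▸ hy v hv)
      rw [map_mul, map_mul, map_mul, map_inv, map_inv, mul_inv_eq_one, mul_inv_eq_iff_eq_mul] at h
      exact h.symm)
    obtain ⟨r, hr, he⟩ := hmem
    have := SectRankFour.frat_le ((QuotientGroup.eq).1 he)
    have h := mul_mem hr this
    rwa [mul_inv_cancel_left] at h

theorem zmod_four_cases : ∀ j : ZMod 4, j = 0 ∨ j = 1 ∨ j = 2 ∨ j = 3 := by decide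

/-- The structure of a good group of order thirty-two. -/
theorem nonempty_iso {R : Subgroup X} (hR : R.Normal) (hcomm : ∀ a ∈ R, ∀ b ∈ R, a * b = b * a)
    (hc : Nat.card R = 32) (hP : Nat.card (sqs R) = 2) :
    Nonempty (↥R ≃* Multiplicative (ZMod 4) × (Fin 3 → Multiplicative (ZMod 2))) := by
  classical
  haveI := hR
  haveI : (sqs R).Normal := sqs_normal R
  obtain ⟨hPsq, Om, hOm, hOmn, hOmc⟩ := exists_sqrt_subgroup hcomm ⊥ bot_le
  rw [card_bot, mul_one, hP, hc] at hOmc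
  have hOmR : Om ≤ R := fun a ha => ((hOm a).1 ha).1
  have hO2 : ∀ a ∈ Om, a * a = 1 := fun a ha => mem_bot.1 ((hOm a).1 ha).2
  have hPinv : ∀ x ∈ sqs R, x * x = 1 := fun x hx => by
    have := pow_card_eq_one' (G := sqs R) (x := ⟨x, hx⟩)
    rw [hP, pow_two] at this
    exact congrArg Subtype.val this
  have hPO : sqs R ≤ Om := fun x hx => (hOm x).2 ⟨sqs_le R hx, mem_bot.2 (hPinv x hx)⟩
  obtain ⟨w, hw, hww⟩ : ∃ w ∈ R, w * w ≠ 1 := by
    by_contra h; push Not at h
    have : sqs R ≤ ⊥ := (closure_le _).2 (by rintro - ⟨a, ha, rfl⟩; exact mem_bot.2 (h a ha))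
    rw [le_bot_iff.1 this, card_bot] at hP; norm_num at hP
  have hw4 : w ^ 4 = 1 := by
    rw [← hPinv _ (mem_sqs hw)]; simp [pow_succ, mul_assoc]
  obtain ⟨p, hpm, hps, hpk⟩ := exists_coord hPO (fun a ha => by rw [hO2 a ha]; exact one_mem _) (by omega)
  obtain ⟨a0, hm0, hpa0⟩ := hps (1, 0, 0)
  obtain ⟨a1, hm1, hpa1⟩ := hps (0, 1, 0)
  obtain ⟨a2, hm2, hpa2⟩ := hps (0, 0, 1)
  let lft : Vec (ZMod 2) → X := fun v => a0 ^ v.1.val * a1 ^ v.2.1.val * a2 ^ v.2.2.val
  have hlm : ∀ v, lft v ∈ Om := fun v => mul_mem (mul_mem (pow_mem hm0 _) (pow_mem hm1 _)) (pow_mem hm2 _)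
  have hpw : ∀ q ∈ Om, ∀ i j : ZMod 2, q ^ (i + j).val = q ^ i.val * q ^ j.val := fun q hq i j => by
    rcases zmod_two_cases i with rfl | rfl <;> rcases zmod_two_cases j with rfl | rfl <;>
      simp [show ((1 : ZMod 2) + 1) = 0 by decide, hO2 q hq, ZMod.val_one]
  have hla : ∀ v v', lft (v + v') = lft v * lft v' := fun v v' => by
    have e1 := hcomm _ (hOmR (pow_mem hm1 v.2.1.val)) _ (hOmR (pow_mem hm0 v'.1.val))
    have e2 := hcomm _ (hOmR (pow_mem hm2 v.2.2.val)) _ (hOmR (mul_mem (pow_mem hm0 v'.1.val) (pow_mem hm1 v'.2.1.val)))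
    show a0 ^ (v.1 + v'.1).val * a1 ^ (v.2.1 + v'.2.1).val * a2 ^ (v.2.2 + v'.2.2).val = _
    rw [hpw a0 hm0, hpw a1 hm1, hpw a2 hm2]
    calc a0 ^ v.1.val * a0 ^ v'.1.val * (a1 ^ v.2.1.val * a1 ^ v'.2.1.val) * (a2 ^ v.2.2.val * a2 ^ v'.2.2.val)
        = a0 ^ v.1.val * (a0 ^ v'.1.val * a1 ^ v.2.1.val) * a1 ^ v'.2.1.val * a2 ^ v.2.2.val * a2 ^ v'.2.2.val := by group
      _ = a0 ^ v.1.val * a1 ^ v.2.1.val * (a0 ^ v'.1.val * a1 ^ v'.2.1.val * a2 ^ v.2.2.val) * a2 ^ v'.2.2.val := by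
        rw [← e1]; group
      _ = lft v * lft v' := by rw [← e2]; simp only [lft, mul_assoc]
  have hp1 : p 1 = 0 := by simpa using hpm 1 (one_mem _) 1 (one_mem _)
  have hlp : ∀ v, p (lft v) = v := by
    rintro ⟨a, b, c⟩
    show p (_ * _ * _) = _
    rw [hpm _ (mul_mem (pow_mem hm0 _) (pow_mem hm1 _)) _ (pow_mem hm2 _), hpm _ (pow_mem hm0 _) _ (pow_mem hm1 _)]
    rcases zmod_two_cases a with rfl | rfl <;> rcases zmod_two_cases b with rfl | rfl <;>
      rcases zmod_two_cases c with rfl | rfl <;>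
      simp [hp1, hpa0, hpa1, hpa2, ZMod.val_one, Prod.ext_iff]
  let vec : (Fin 3 → Multiplicative (ZMod 2)) → Vec (ZMod 2) := fun g => ((g 0).toAdd, (g 1).toAdd, (g 2).toAdd)
  let Φ : Multiplicative (ZMod 4) × (Fin 3 → Multiplicative (ZMod 2)) →* R :=
    MonoidHom.mk' (fun x => ⟨w ^ x.1.toAdd.val * lft (vec x.2), mul_mem (pow_mem hw _) (hOmR (hlm _))⟩) fun x y => by
      refine Subtype.ext ?_
      show w ^ (x.1.toAdd + y.1.toAdd).val * lft (vec x.2 + vec y.2) = w ^ x.1.toAdd.val * lft (vec x.2) * (w ^ y.1.toAdd.val * lft (vec y.2))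
      rw [pow_val_add4 hw4, hla]
      calc w ^ x.1.toAdd.val * w ^ y.1.toAdd.val * (lft (vec x.2) * lft (vec y.2))
          = w ^ x.1.toAdd.val * (w ^ y.1.toAdd.val * lft (vec x.2)) * lft (vec y.2) := by group
        _ = w ^ x.1.toAdd.val * (lft (vec x.2) * w ^ y.1.toAdd.val) * lft (vec y.2) := by
          rw [hcomm _ (pow_mem hw _) _ (hOmR (hlm _))]
        _ = _ := by group
  have hinj : Function.Injective Φ := by
    refine (injective_iff_map_eq_one _).2 fun ⟨i, g⟩ h => ?_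
    have h : w ^ i.toAdd.val * lft (vec g) = 1 := congrArg Subtype.val h
    have hl : lft (vec g) = (w ^ i.toAdd.val)⁻¹ := eq_inv_of_mul_eq_one_right h
    have hi : lo i.toAdd = 0 := by
      have h2 := hO2 _ (hlm (vec g))
      rw [hl, ← mul_inv_rev, inv_eq_one, ← pow_add] at h2
      generalize i.toAdd = j at h2 ⊢
      rcases zmod_four_cases j with rfl | rfl | rfl | rfl
      · decide
      · refine absurd ?_ hww
        rw [← pow_two]; exact h2
      · decide
      · refine absurd ?_ hww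
        rw [← pow_two]
        calc w ^ 2 = w ^ 2 * w ^ 4 := by rw [hw4, mul_one]
          _ = 1 := by rw [← pow_add]; exact h2
    have hwP : w ^ i.toAdd.val ∈ sqs R := by
      generalize i.toAdd = j at hi ⊢
      rcases zmod_four_cases j with rfl | rfl | rfl | rfl
      · rw [ZMod.val_zero, pow_zero]; exact one_mem _
      · exact absurd hi (by decide)
      · show w ^ 2 ∈ sqs R; rw [pow_two]; exact mem_sqs hw
      · exact absurd hi (by decide)
    have hv : vec g = 0 := by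
      rw [← hlp (vec g)]
      exact (hpk _ (hlm _)).2 (hl ▸ inv_mem hwP)
    have hl1 : lft (vec g) = 1 := by rw [hv]; simp [lft]
    rw [hl1, mul_one] at h
    have hi0 : i.toAdd = 0 := by
      generalize i.toAdd = j at h hi ⊢
      rcases zmod_four_cases j with rfl | rfl | rfl | rfl
      · rfl
      · exact absurd hi (by decide)
      · exact absurd (by rw [← pow_two]; exact h) hww
      · exact absurd hi (by decide)
    refine Prod.ext hi0 (funext fun k => ?_)
    simp only [vec, Prod.mk_eq_zero] at hv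
    fin_cases k
    · exact hv.1
    · exact hv.2.1
    · exact hv.2.2
  have hbij : Function.Bijective Φ := (Nat.bijective_iff_injective_and_card _).2 ⟨hinj, by
    rw [hc, Nat.card_prod, Nat.card_pi, Nat.card_eq_fintype_card, Fintype.card_multiplicative, ZMod.card]
    simp [Fin.prod_univ_three]⟩
  exact ⟨(MulEquiv.ofBijective Φ hbij).symm⟩

end CfsgLib.L32
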