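import Cfsg.Agent.SectRankFour.L32.Kill

/-!
`(ℤ/4)³ × ℤ/2` with a moved involution outside the squares, extended by `GL(3,2)`, has an elementary abelian
section of order above sixteen.
-/

set_option autoImplicit false
set_option linter.style.haveILetI false
set_option linter.unusedSectionVars false
set_option linter.unusedSimpArgs false

namespace CfsgLib.L32

open Subgroup

universe u

variable {Y : Type u} [Group Y] [Finite Y] {R : Subgroup Y} {F : Frame R} {A : Subgroup Y}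
  {p : Y → Vec (ZMod 2)}

/-- The combined coordinates. -/
def psi (f : Vec (ZMod 4) → Y) (c : Y) (x : Vec (ZMod 4) × ZMod 2) : Y := f x.1 * c ^ x.2.val

/-- The map induced by a lift of the involution. -/
def genT (M : Mat (ZMod 4)) (k u : Vec (ZMod 2)) (x : Vec (ZMod 4) × ZMod 2) : Vec (ZMod 4) × ZMod 2 :=
  (mv M x.1 + (if x.2 = 1 then vmap dbl u else 0),
    k.1 * lo x.1.1 + k.2.1 * lo x.1.2.1 + k.2.2 * lo x.1.2.2 + x.2)

/-- A word in the induced maps. -/
def genWd (M : Mat (ZMod 4)) (k u : Vec (ZMod 2)) : List Bool → Vec (ZMod 4) × ZMod 2 → Vec (ZMod 4) × ZMod 2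
  | [], x => x
  | b :: l, x => let y := genWd M k u l x
    if b then (mv sigF y.1, y.2) else genT M k u y

theorem small_facts : mmap lo sigF = sig ∧ (∀ e : Vec (ZMod 2), ∃ w, mv sig w + w = e) ∧
    vmap lo (0 : Vec (ZMod 4)) = 0 ∧ vmap dbl (0 : Vec (ZMod 2)) = 0 ∧
    (∀ a b : Vec (ZMod 2), vmap dbl (a + b) = vmap dbl a + vmap dbl b) := by decide +kernel

theorem vmap_lo_add (a b : Vec (ZMod 4)) : vmap lo (a + b) = vmap lo a + vmap lo b := by simp [vmap]

theorem genWd_ext {M : Mat (ZMod 4)} (hM : mmap lo M = tau) (k u : Vec (ZMod 2)) (l : List Bool)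
    (x : Vec (ZMod 4) × ZMod 2) :
    (vmap lo (genWd M k u l x).1, (genWd M k u l x).2) = extWd k l (vmap lo x.1, x.2) := by
  induction l with
  | nil => rfl
  | cons b l ih =>
    set y := genWd M k u l x with hy
    have e1 : genWd M k u (b :: l) x = if b then (mv sigF y.1, y.2) else genT M k u y := rfl
    rw [e1, extWd, ← ih]
    cases b
    · refine Prod.ext ?_ rfl
      show vmap lo (mv M y.1 + if y.2 = 1 then vmap dbl u else 0) = mv tau (vmap lo y.1)
      rw [vmap_lo_add, vmap_mv, hM]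
      split
      · rw [up_facts.2.2.2.2.1, add_zero]
      · rw [small_facts.2.2.1, add_zero]
    · refine Prod.ext ?_ rfl
      show vmap lo (mv sigF y.1) = mv sig (vmap lo y.1)
      rw [vmap_mv, small_facts.1]

theorem genWd_aff {M : Mat (ZMod 4)} (hM : mmap lo M = tau) (k u : Vec (ZMod 2)) (l : List Bool) (v : Vec (ZMod 2)) :
    genWd M k u l (vmap dbl v, 1) = (vmap dbl (affWd u l v), 1) := by
  induction l with
  | nil => rfl
  | cons b l ih =>
    rw [genWd, ih, affWd]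
    cases b
    · have e : ∀ a, lo (dbl a) = 0 := dbl_facts.2.2.1
      refine Prod.ext ?_ ?_
      · show mv M (vmap dbl _) + (if (1 : ZMod 2) = 1 then vmap dbl u else 0) = vmap dbl (mv tau _ + u)
        rw [if_pos rfl, mv_dbl, hM, small_facts.2.2.2.2]
      · show k.1 * lo (dbl _) + k.2.1 * lo (dbl _) + k.2.2 * lo (dbl _) + 1 = 1
        simp [e]
    · refine Prod.ext ?_ rfl
      show mv sigF (vmap dbl _) = vmap dbl (mv sig _)
      rw [mv_dbl, small_facts.1]

theorem genWd_big (M : Mat (ZMod 4)) (l : List Bool) (x : Vec (ZMod 4) × ZMod 2) :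
    genWd M (0, 0, 1) (1, 0, 1) l x = bigWd M l x := by
  induction l with
  | nil => rfl
  | cons b l ih =>
    rw [genWd, bigWd, ih]
    cases b
    · simp [genT, bigT]
    · rfl

/-- An extension of `(ℤ/4)³ × ℤ/2` with moved involution has sectional rank above four. -/
theorem false_of_moved (hrank : Cfsg.SectionalPRankLE 2 4 Y) (hR : Top R) (h : Four F A p) (hcen : ∀ r ∈ R, ∀ a ∈ A, r * a = a * r) {c0 : Y}
    (hc0 : c0 ∈ A) (hc2 : c0 * c0 = 1) (hns : ∀ b ∈ A, b * b ≠ c0)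
    (hker : ∀ a ∈ A, p a = 0 → ∃ b ∈ A, a = b * b ∨ a = b * b * c0)
    (hmov : ∀ b ∈ A, ∃ y, y * (b * b * c0) * y⁻¹ ≠ b * b * c0)
    (hd : ∀ y, F.φ y = wd sig tau wG → y ^ 4 ∈ A ∨ ∃ b ∈ A, y ^ 4 * y ^ 4 = b * b * c0) : False := by
  haveI := h.normal
  obtain ⟨u1, u2, u3, u4, u5, u6⟩ := up_facts
  obtain ⟨s, hs⟩ := F.exists_sigma
  obtain ⟨t, ht⟩ := F.exists_tau
  obtain ⟨v0, hv0, hpv0⟩ := h.sec.surj e0
  have hcj : ∀ y, ∀ a ∈ A, y * a * y⁻¹ ∈ A := fun y a ha => Subgroup.Normal.conj_mem inferInstance a ha y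
  have hsqA : ∀ b ∈ A, p (b * b) = 0 := fun b hb => by
    rw [h.sec.mul _ hb _ hb]
    generalize p b = w
    revert w; decide +kernel
  have hpc : p c0 = 0 := h.inv _ hc0 hc2
  -- coordinates of a general element
  have hA : ∀ {v : Y} (hv : v ∈ A) (hpv : p v = e0) {c : Y}, (∃ b ∈ A, c = b * b * c0) →
      ∀ a ∈ A, ∃ x, psi (co (v, s * v * s⁻¹, s * (s * v * s⁻¹) * s⁻¹)) c x = a := by
    intro v hv hpv c hc a ha
    have C := h.coord hs hv hpv
    set f := co (v, s * v * s⁻¹, s * (s * v * s⁻¹) * s⁻¹)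
    have hsq : ∀ b ∈ A, f (vmap dbl (p b)) = b * b := fun b hb => by
      set k := (f (up (p b)))⁻¹ * b with hk
      have hkm : k ∈ A := mul_mem (inv_mem (C.mem _)) hb
      have hpk : p k = 0 := by
        have := h.sec.mul _ (C.mem (up (p b))) _ hkm
        rw [hk, mul_inv_cancel_left, C.red, u1] at this
        simpa using this.symm
      have hk2 : k * k = 1 := by
        obtain ⟨d, hd', e | e⟩ := hker k hkm hpk <;> rw [e]
        · exact h.four d hd'
        · rw [show d * d * c0 * (d * d * c0) = d * d * (c0 * (d * d)) * c0 by group,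
            h.comm c0 hc0 _ (mul_mem hd' hd'), show d * d * (d * d * c0) * c0 = d * d * (d * d) * (c0 * c0) by group,
            hc2, h.four d hd', one_mul]
      have e : b = f (up (p b)) * k := by rw [hk, mul_inv_cancel_left]
      generalize f (up (p b)) = q, C.mem (up (p b)) = hq, C.add (up (p b)) (up (p b)) = hqq at e
      rw [← u2, hqq]
      calc q * q = q * q * (k * k) := by rw [hk2, mul_one]
        _ = q * (q * k) * k := by group
        _ = q * (k * q) * k := by rw [h.comm _ hq _ hkm]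
        _ = b * b := by rw [e]; group
    obtain ⟨b0, hb0, rfl⟩ := hc
    set a' := (f (up (p a)))⁻¹ * a with ha'
    have ha'm : a' ∈ A := mul_mem (inv_mem (C.mem _)) ha
    have hp' : p a' = 0 := by
      have := h.sec.mul _ (C.mem (up (p a))) _ ha'm
      rw [ha', mul_inv_cancel_left, C.red, u1] at this
      simpa using this.symm
    obtain ⟨b, hb, e | e⟩ := hker a' ha'm hp'
    · refine ⟨(up (p a) + vmap dbl (p b), 0), ?_⟩
      show f _ * _ ^ (0 : ZMod 2).val = a
      rw [ZMod.val_zero, pow_zero, mul_one, C.add, hsq b hb, ← e, ha', mul_inv_cancel_left]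
    · refine ⟨(up (p a) + vmap dbl (p b) + vmap dbl (p b0), 1), ?_⟩
      show f _ * _ ^ (1 : ZMod 2).val = a
      rw [ZMod.val_one, pow_one, C.add, C.add, hsq b hb, hsq b0 hb0,
        show f (up (p a)) * (b * b) * (b0 * b0) * (b0 * b0 * c0) = f (up (p a)) * (b * b * (b0 * b0 * (b0 * b0)) * c0) by group,
        h.four b0 hb0, mul_one, ← e, ha', mul_inv_cancel_left]
  -- a lift fixed by `s`
  obtain ⟨c, hcA, hc2', hcns, hcs, hcform⟩ : ∃ c, c ∈ A ∧ c * c = 1 ∧ (∀ b ∈ A, b * b ≠ c) ∧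
      s * c * s⁻¹ = c ∧ ∃ b ∈ A, c = b * b * c0 := by
    have C := h.coord hs hv0 hpv0
    set f := co (v0, s * v0 * s⁻¹, s * (s * v0 * s⁻¹) * s⁻¹)
    obtain ⟨⟨w, j⟩, hw⟩ := hA hv0 hpv0 (c := c0) ⟨1, one_mem _, by group⟩ _ (hcj s c0 hc0)
    have hw : f w * c0 ^ j.val = s * c0 * s⁻¹ := hw
    have hpw : vmap lo w = 0 := by
      have := h.sec.conj s c0 hc0
      rw [hpc, mv_zero, ← hw] at this
      rcases zmod_two_cases j with rfl | rfl
      · rwa [ZMod.val_zero, pow_zero, mul_one, C.red] at this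
      · rwa [ZMod.val_one, pow_one, h.sec.mul _ (C.mem w) _ hc0, C.red, hpc, add_zero] at this
    have hwe := u4 w hpw
    have hj : j = 1 := by
      rcases zmod_two_cases j with rfl | rfl
      · exfalso
        rw [ZMod.val_zero, pow_zero, mul_one, hwe, ← u2, C.add] at hw
        refine hns (s⁻¹ * f (up (vmap hi w)) * s⁻¹⁻¹) (hcj s⁻¹ _ (C.mem _)) ?_
        calc s⁻¹ * f (up (vmap hi w)) * s⁻¹⁻¹ * (s⁻¹ * f (up (vmap hi w)) * s⁻¹⁻¹)
            = s⁻¹ * (f (up (vmap hi w)) * f (up (vmap hi w))) * s := by group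
          _ = c0 := by rw [hw]; group
      · rfl
    subst hj
    rw [ZMod.val_one, pow_one] at hw
    obtain ⟨e, he⟩ := small_facts.2.1 (vmap hi w)
    set d := f (up e) * f (up e)
    have hdA : d ∈ A := mul_mem (C.mem _) (C.mem _)
    refine ⟨d * c0, mul_mem hdA hc0, ?_, ?_, ?_, f (up e), C.mem _, rfl⟩
    · rw [show d * c0 * (d * c0) = d * (c0 * d) * c0 by group, h.comm c0 hc0 _ hdA,
        show d * (d * c0) * c0 = d * d * (c0 * c0) by group, hc2, mul_one]
      exact h.four _ (C.mem _)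
    · intro b hb e'
      refine hns (b * f (up e)) (mul_mem hb (C.mem _)) ?_
      calc b * f (up e) * (b * f (up e)) = b * (f (up e) * b) * f (up e) := by group
        _ = b * (b * f (up e)) * f (up e) := by rw [h.comm _ (C.mem _) b hb]
        _ = b * b * d := by simp only [d]; group
        _ = c0 := by
          rw [e', h.comm d hdA c0 hc0, mul_assoc, show d * d = 1 from h.four _ (C.mem _), mul_one]
    · have hsd : s * d * s⁻¹ = f (vmap dbl (mv sig e)) := by
        have hm := hcj s _ (C.mem (up e))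
        obtain ⟨⟨x, i⟩, hx⟩ := hA hv0 hpv0 (c := c0) ⟨1, one_mem _, by group⟩ _ hm
        have hx : f x * c0 ^ i.val = s * f (up e) * s⁻¹ := hx
        have hlox : vmap lo x = mv sig e := by
          have := h.sec.conj s _ (C.mem (up e))
          rw [← hx, C.red, u1, hs] at this
          rcases zmod_two_cases i with rfl | rfl
          · rwa [ZMod.val_zero, pow_zero, mul_one, C.red] at this
          · rwa [ZMod.val_one, pow_one, h.sec.mul _ (C.mem x) _ hc0, C.red, hpc, add_zero] at this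
        have hxx : x + x = vmap dbl (vmap lo x) := by
          obtain ⟨a, b, c⟩ := x; simp [vmap, ← dbl_facts.1, two_mul]
        rw [show s * d * s⁻¹ = s * f (up e) * s⁻¹ * (s * f (up e) * s⁻¹) by simp only [d]; group, ← hx,
          ← hlox, ← hxx, C.add]
        rcases zmod_two_cases i with rfl | rfl
        · simp
        · rw [ZMod.val_one, pow_one, show f x * c0 * (f x * c0) = f x * (c0 * f x) * c0 by group,
            h.comm c0 hc0 _ (C.mem x), show f x * (f x * c0) * c0 = f x * f x * (c0 * c0) by group, hc2, mul_one]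
      rw [show s * (d * c0) * s⁻¹ = s * d * s⁻¹ * (s * c0 * s⁻¹) by group, hsd, ← hw, ← mul_assoc, ← C.add,
        hwe, ← small_facts.2.2.2.2]
      have e2 : mv sig e + vmap hi w = e := by
        have hq : ∀ q e z : Vec (ZMod 2), q + e = z → q + z = e := by decide +kernel
        exact hq _ _ _ he
      rw [e2, ← u2, C.add]
  have hpc' : p c = 0 := h.inv _ hcA hc2'
  have hc : ∀ (i j : ZMod 2), c ^ (i + j).val = c ^ i.val * c ^ j.val := fun i j => by
    rcases zmod_two_cases i with rfl | rfl <;> rcases zmod_two_cases j with rfl | rfl <;>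
      simp [show ((1 : ZMod 2) + 1) = 0 by decide, ZMod.val_one, hc2']
  -- adjust the lift
  obtain ⟨v, hv, hpv, a, hva⟩ : ∃ v, ∃ (_ : v ∈ A) (_ : p v = e0), ∃ a,
      s * co (v, s * v * s⁻¹, s * (s * v * s⁻¹) * s⁻¹) (0, 0, 1) * s⁻¹ =
        co (v, s * v * s⁻¹, s * (s * v * s⁻¹) * s⁻¹) a := by
    have C := h.coord hs hv0 hpv0
    obtain ⟨⟨a, η⟩, ha⟩ := hA hv0 hpv0 hcform _ (hcj s _ (C.mem (0, 0, 1)))
    rcases zmod_two_cases η with rfl | rfl
    · exact ⟨v0, hv0, hpv0, a, by simpa [psi] using ha.symm⟩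
    have hloa : vmap lo a = (1, 1, 0) := by
      have := h.sec.conj s _ (C.mem (0, 0, 1))
      rw [← ha, C.red, hs, psi] at this
      simp only [ZMod.val_one, pow_one] at this
      rw [h.sec.mul _ (C.mem a) _ hcA, C.red, hpc', add_zero] at this
      exact this.trans (by decide +kernel)
    have hcc : ∀ x ∈ A, Commute x c := fun x hx => h.comm x hx c hcA
    refine ⟨v0 * c, mul_mem hv0 hcA, by rw [h.sec.mul _ hv0 _ hcA, hpv0, hpc', add_zero], a, ?_⟩
    set b1 := s * v0 * s⁻¹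
    set b2 := s * b1 * s⁻¹
    have hb1 : b1 ∈ A := hcj s v0 hv0
    have hb2 : b2 ∈ A := hcj s b1 hb1
    have e1 : s * (v0 * c) * s⁻¹ = b1 * c := by
      rw [show s * (v0 * c) * s⁻¹ = b1 * (s * c * s⁻¹) by simp only [b1]; group, hcs]
    have e2 : s * (s * (v0 * c) * s⁻¹) * s⁻¹ = b2 * c := by
      rw [e1, show s * (b1 * c) * s⁻¹ = b2 * (s * c * s⁻¹) by simp only [b2]; group, hcs]
    rw [e2, e1]
    have hcn : ∀ n : ℕ, c ^ n = c ^ (n : ZMod 2).val := fun n => by
      rw [ZMod.val_natCast]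
      exact pow_eq_pow_mod n (by rw [pow_two]; exact hc2')
    have hl : ∀ w : Vec (ZMod 4), co (v0 * c, b1 * c, b2 * c) w = co (v0, b1, b2) w * c ^ (lo w.1 + lo w.2.1 + lo w.2.2).val := by
      intro w
      have hz : ∀ z : ZMod 4, ((z.val : ℕ) : ZMod 2) = lo z := by decide +kernel
      have k1 := ((hcc _ (pow_mem hb1 w.2.1.val)).pow_right w.1.val).eq
      have k2 := ((hcc _ (pow_mem hb2 w.2.2.val)).pow_right (w.1.val + w.2.1.val)).eq
      show (v0 * c) ^ w.1.val * (b1 * c) ^ w.2.1.val * (b2 * c) ^ w.2.2.val = _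
      rw [(hcc _ hv0).mul_pow, (hcc _ hb1).mul_pow, (hcc _ hb2).mul_pow,
        ← hz w.1, ← hz w.2.1, ← hz w.2.2, ← Nat.cast_add, ← Nat.cast_add, ← hcn]
      calc v0 ^ w.1.val * c ^ w.1.val * (b1 ^ w.2.1.val * c ^ w.2.1.val) * (b2 ^ w.2.2.val * c ^ w.2.2.val)
          = v0 ^ w.1.val * (c ^ w.1.val * b1 ^ w.2.1.val) * c ^ w.2.1.val * b2 ^ w.2.2.val * c ^ w.2.2.val := by group
        _ = v0 ^ w.1.val * b1 ^ w.2.1.val * (c ^ (w.1.val + w.2.1.val) * b2 ^ w.2.2.val) * c ^ w.2.2.val := by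
          rw [← k1, pow_add]; group
        _ = _ := by rw [← k2, pow_add c (w.1.val + w.2.1.val)]; simp only [co, mul_assoc]
    rw [hl, hl]
    have hs2 : (lo (a.1) + lo a.2.1 + lo a.2.2) = 0 := by
      simp only [vmap, Prod.mk.injEq] at hloa
      rw [hloa.1, hloa.2.1, hloa.2.2]; decide
    have hs3 : lo (((0, 0, 1) : Vec (ZMod 4)).1) + lo ((0, 0, 1) : Vec (ZMod 4)).2.1 + lo ((0, 0, 1) : Vec (ZMod 4)).2.2 = 1 := by
      decide +kernel
    rw [hs2, hs3, ZMod.val_zero, pow_zero, mul_one, ZMod.val_one, pow_one,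
      show ∀ z : Y, s * (z * c) * s⁻¹ = s * z * s⁻¹ * (s * c * s⁻¹) from fun z => by group, hcs, ← ha, psi]
    simp only [ZMod.val_one, pow_one]
    rw [mul_assoc, hc2', mul_one]
  have C := h.coord hs hv hpv
  set f := co (v, s * v * s⁻¹, s * (s * v * s⁻¹) * s⁻¹)
  have hS := acts_sigma h hcen hs C hva
  have hsur : ∀ b ∈ A, ∃ x, psi f c x = b := hA hv hpv hcform
  have hψadd : ∀ x y, psi f c (x + y) = psi f c x * psi f c y := fun x y => by
    show f (x.1 + y.1) * c ^ (x.2 + y.2).val = f x.1 * c ^ x.2.val * (f y.1 * c ^ y.2.val)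
    rw [C.add, hc, show f x.1 * c ^ x.2.val * (f y.1 * c ^ y.2.val) = f x.1 * (c ^ x.2.val * f y.1) * c ^ y.2.val by group,
      h.comm _ (pow_mem hcA x.2.val) _ (C.mem y.1)]
    group
  have hψinj : Function.Injective (psi f c) := by
    rintro ⟨w, i⟩ ⟨z, j⟩ e
    have e : f w * c ^ i.val = f z * c ^ j.val := e
    have key : ∀ w z : Vec (ZMod 4), f w ≠ f z * c := fun w z e => by
      have e' : f (w - z) = c := by
        have := C.add (w - z) z
        rw [sub_add_cancel, e, h.comm _ (C.mem z) c hcA] at this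
        exact (mul_right_cancel this).symm
      have hl : vmap lo (w - z) = 0 := by rw [← C.red, e', hpc']
      rw [u4 _ hl, ← u2, C.add] at e'
      exact hcns _ (C.mem _) e'
    rcases zmod_two_cases i with rfl | rfl <;> rcases zmod_two_cases j with rfl | rfl <;>
      simp only [ZMod.val_zero, ZMod.val_one, pow_zero, pow_one, mul_one] at e
    · rw [C.inj e]
    · exact (key w z e).elim
    · exact (key z w e.symm).elim
    · rw [C.inj (mul_right_cancel e)]
  have hψp : ∀ x, p (psi f c x) = vmap lo x.1 := fun x => by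
    rcases zmod_two_cases x.2 with e | e <;> simp only [psi, e, ZMod.val_zero, ZMod.val_one, pow_zero, pow_one, mul_one]
    · exact C.red _
    · rw [h.sec.mul _ (C.mem _) _ hcA, C.red, hpc', add_zero]
  -- the images under `t`
  obtain ⟨⟨x0, k0⟩, hx0⟩ := hsur _ (hcj t _ (C.mem (1, 0, 0)))
  obtain ⟨⟨x1, k1⟩, hx1⟩ := hsur _ (hcj t _ (C.mem (0, 1, 0)))
  obtain ⟨⟨x2, k2⟩, hx2⟩ := hsur _ (hcj t _ (C.mem (0, 0, 1)))
  obtain ⟨⟨xc, kc⟩, hxc⟩ := hsur _ (hcj t _ hcA)
  have hxc0 : vmap lo xc = 0 := by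
    have := h.sec.conj t c hcA
    rw [← hxc, hψp, hpc', mv_zero] at this
    exact this
  have hkc : kc = 1 := by
    rcases zmod_two_cases kc with rfl | rfl
    · exfalso
      have hxc : f xc * c ^ (0 : ZMod 2).val = t * c * t⁻¹ := hxc
      rw [ZMod.val_zero, pow_zero, mul_one, u4 _ hxc0, ← u2, C.add] at hxc
      refine hcns (t⁻¹ * f (up (vmap hi xc)) * t⁻¹⁻¹) (hcj t⁻¹ _ (C.mem _)) ?_
      calc t⁻¹ * f (up (vmap hi xc)) * t⁻¹⁻¹ * (t⁻¹ * f (up (vmap hi xc)) * t⁻¹⁻¹)
          = t⁻¹ * (f (up (vmap hi xc)) * f (up (vmap hi xc))) * t := by group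
        _ = c := by rw [hxc]; group
    · rfl
  subst hkc
  set u := vmap hi xc with hu
  have hxce : xc = vmap dbl u := u4 _ hxc0
  set M : Mat (ZMod 4) := (x0, x1, x2)
  have hlo : mmap lo M = tau := by
    have hc3 : ∀ (e x : Vec (ZMod 4)) (k : ZMod 2), psi f c (x, k) = t * f e * t⁻¹ →
        vmap lo x = mv tau (vmap lo e) := fun e x k hh => by
      have := h.sec.conj t _ (C.mem e)
      rw [← hh, hψp, C.red, ht] at this
      exact this
    simp only [M, mmap, hc3 _ _ _ hx0, hc3 _ _ _ hx1, hc3 _ _ _ hx2]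
    decide +kernel
  set k : Vec (ZMod 2) := (k0, k1, k2) with hk
  have hT : ∀ x, t * psi f c x * t⁻¹ = psi f c (genT M k u x) := by
    let Φ : Multiplicative (Vec (ZMod 4) × ZMod 2) →* Y := MonoidHom.mk' (fun x => psi f c x.toAdd) fun x y => hψadd _ _
    have hpow : ∀ (n : ℕ) x, psi f c (n • x) = psi f c x ^ n := fun n x => map_pow Φ (Multiplicative.ofAdd x) n
    intro x
    have hcol : ∀ w : Vec (ZMod 4), w = w.1.val • ((1, 0, 0) : Vec (ZMod 4)) + w.2.1.val • ((0, 1, 0) : Vec (ZMod 4)) +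
        w.2.2.val • ((0, 0, 1) : Vec (ZMod 4)) := by decide +kernel
    have e : x = x.1.1.val • (((1, 0, 0), 0) : Vec (ZMod 4) × ZMod 2) + x.1.2.1.val • (((0, 1, 0), 0) : Vec (ZMod 4) × ZMod 2) +
        x.1.2.2.val • (((0, 0, 1), 0) : Vec (ZMod 4) × ZMod 2) + x.2.val • ((0, 1) : Vec (ZMod 4) × ZMod 2) := by
      refine Prod.ext ?_ ?_
      · simpa using hcol x.1
      · simp [nsmul_eq_mul]
    have e' : genT M k u x = x.1.1.val • ((x0, k0) : Vec (ZMod 4) × ZMod 2) + x.1.2.1.val • ((x1, k1) : Vec (ZMod 4) × ZMod 2) +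
        x.1.2.2.val • ((x2, k2) : Vec (ZMod 4) × ZMod 2) + x.2.val • ((xc, 1) : Vec (ZMod 4) × ZMod 2) := by
      have hz : ∀ z : ZMod 4, ((z.val : ℕ) : ZMod 2) = lo z := by decide +kernel
      rcases zmod_two_cases x.2 with h2 | h2 <;>
        simp [genT, h2, M, k, mv, nsmul_eq_mul, Prod.ext_iff, ZMod.natCast_rightInverse x.1.1,
          ZMod.natCast_rightInverse x.1.2.1, ZMod.natCast_rightInverse x.1.2.2, ZMod.val_one, hxce, hz, mul_comm]
    conv_lhs => rw [e, hψadd, hψadd, hψadd, hpow, hpow, hpow, hpow]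
    rw [e', hψadd, hψadd, hψadd, hpow, hpow, hpow, hpow, hx0, hx1, hx2, hxc]
    have f0 : ∀ w, psi f c (w, 0) = f w := fun w => by simp [psi]
    have f1 : psi f c (0, 1) = c := by simp [psi, C.zero, ZMod.val_one]
    rw [f0, f0, f0, f1, conj_pow, conj_pow, conj_pow, conj_pow]
    group
  have hSψ : ∀ x, s * psi f c x * s⁻¹ = psi f c (mv sigF x.1, x.2) := fun x => by
    show s * (f x.1 * c ^ x.2.val) * s⁻¹ = f (mv sigF x.1) * c ^ x.2.val
    rw [show s * (f x.1 * c ^ x.2.val) * s⁻¹ = s * f x.1 * s⁻¹ * (s * c ^ x.2.val * s⁻¹) by group, hS,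
      ← conj_pow, hcs]
  have hW : ∀ l x, wY s t l * psi f c x * (wY s t l)⁻¹ = psi f c (genWd M k u l x) := by
    intro l
    induction l with
    | nil => intro x; simp [wY, genWd]
    | cons b l ih =>
      intro x
      rw [wY, genWd]
      cases b
      · rw [if_neg Bool.false_ne_true, if_neg Bool.false_ne_true,
          show t * wY s t l * psi f c x * (t * wY s t l)⁻¹ = t * (wY s t l * psi f c x * (wY s t l)⁻¹) * t⁻¹ by group,
          ih, hT]
      · rw [if_pos rfl, if_pos rfl,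
          show s * wY s t l * psi f c x * (s * wY s t l)⁻¹ = s * (wY s t l * psi f c x * (wY s t l)⁻¹) * s⁻¹ by group,
          ih, hSψ]
  obtain ⟨f1, f2, f3, f4, f5, f6, f7, f8, f9, f10, f11, f12⟩ := frame_facts
  have hrel : ∀ r ∈ rels, ∀ x, genWd M k u r x = x := fun r hr x => hψinj (by
    rw [← hW, hcen _ (F.wY_mem hs ht (f3 r hr)) _ (show psi f c x ∈ A from mul_mem (C.mem _) (pow_mem hcA _))]
    exact mul_inv_cancel_right _ _)
  have hk' : k = 0 ∨ k = (0, 0, 1) := table_k k fun r hr x => by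
    have := genWd_ext hlo k u r (up x.1, x.2)
    rw [hrel r hr, u1] at this
    exact this.symm
  have hu' : u = 0 ∨ u = (1, 0, 1) := table_u u fun r hr => by
    have := genWd_aff hlo k u r 0
    rw [hrel r hr] at this
    have e := congrArg Prod.fst this
    simp only [small_facts.2.2.2.1] at e
    exact u6 _ e.symm
  have hu1 : u = (1, 0, 1) := by
    refine hu'.resolve_left fun hu0 => ?_
    obtain ⟨b, hb, hce⟩ := hcform
    obtain ⟨y, hy⟩ := hmov b hb
    rw [← hce] at hy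
    refine hy ?_
    refine F.gen_induction hR hs ht (P := fun y => y * c * y⁻¹ = c) (fun r hr => ?_) hcs ?_ (fun a b ha hb => ?_) y
    · rw [hcen r hr c hcA, mul_inv_cancel_right]
    · rw [← hxc, hxce, hu0]
      simp [psi, small_facts.2.2.2.1, C.zero, ZMod.val_one]
    · rw [show a * b * c * (a * b)⁻¹ = a * (b * c * b⁻¹) * a⁻¹ by group, hb, ha]
  have hk0 : k = 0 := by
    refine hk'.resolve_right fun hk1 => ?_
    refine table_big (mmap hi M) fun r hr x _ => ?_
    rw [← hlo, ← eq_liftMat M, ← genWd_big, ← hk1, ← hu1]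
    exact hrel r hr x
  have hk00 : k0 = 0 ∧ k1 = 0 ∧ k2 = 0 := by simpa [hk, Prod.ext_iff] using hk0
  have hAt : Acts f t M := by
    refine (exists_acts h C ?_ ?_ ?_).1
    · rw [← hx0, hk00.1]; simp [psi]
    · rw [← hx1, hk00.2.1]; simp [psi]
    · rw [← hx2, hk00.2.2]; simp [psi]
  have hmem := table_words _ (mem_cands hcen hs ht C hS hAt hlo)
  obtain ⟨gmov, gd, gA, gua, gN⟩ := table_good2 _ hmem
  set G := wd sigF M wG
  set MA := wd sigF M wA
  set yg := wY s t wG
  have hG : Acts f yg G := Acts.wY hS hAt wG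
  have hA' : Acts f (yg * yg) MA := by rw [← wY_append]; exact Acts.wY hS hAt wA
  have hug : yg * c * yg⁻¹ = f (vmap dbl (0, 1, 1)) * c := by
    have := hW wG (vmap dbl 0, 1)
    rw [genWd_aff hlo, hu1, table_aff.1] at this
    simpa [psi, small_facts.2.2.2.1, C.zero, ZMod.val_one] using this
  have hua : yg * yg * c * (yg * yg)⁻¹ = f (vmap dbl (1, 1, 0)) * c := by
    have := hW wA (vmap dbl 0, 1)
    rw [genWd_aff hlo, hu1, table_aff.2, wA, wY_append] at this
    simpa [psi, small_facts.2.2.2.1, C.zero, ZMod.val_one] using this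
  have hnofix : ∀ w, yg * (f w * c) * yg⁻¹ ≠ f w * c := fun w e => by
    rw [show yg * (f w * c) * yg⁻¹ = yg * f w * yg⁻¹ * (yg * c * yg⁻¹) by group, hG, hug, ← mul_assoc, ← C.add] at e
    exact gmov w (C.inj (mul_right_cancel e))
  have hφg : F.φ yg = wd sig tau wG := by rw [F.φ_wY, hs, ht]
  obtain ⟨d, hdd⟩ : ∃ d, f d = yg ^ 4 := by
    rcases hd yg hφg with hin | ⟨b, hb, e⟩
    · obtain ⟨⟨w, j⟩, hw⟩ := hsur _ hin
      have hw : f w * c ^ j.val = yg ^ 4 := hw
      rcases zmod_two_cases j with rfl | rfl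
      · exact ⟨w, by simpa using hw⟩
      · exfalso
        rw [ZMod.val_one, pow_one] at hw
        exact hnofix w (by rw [hw]; group)
    · exfalso
      obtain ⟨⟨w, j⟩, hw⟩ := hsur _ (mul_mem (mul_mem hb hb) hc0)
      have hw : f w * c ^ j.val = b * b * c0 := hw
      rcases zmod_two_cases j with rfl | rfl
      · rw [ZMod.val_zero, pow_zero, mul_one] at hw
        have hl : vmap lo w = 0 := by
          rw [← C.red, hw, h.sec.mul _ (mul_mem hb hb) _ hc0, hsqA b hb, hpc, add_zero]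
        rw [u4 _ hl, ← u2, C.add] at hw
        refine hns (b⁻¹ * f (up (vmap hi w))) (mul_mem (inv_mem hb) (C.mem _)) ?_
        calc b⁻¹ * f (up (vmap hi w)) * (b⁻¹ * f (up (vmap hi w)))
            = b⁻¹ * (f (up (vmap hi w)) * b⁻¹) * f (up (vmap hi w)) := by group
          _ = b⁻¹ * (b⁻¹ * f (up (vmap hi w))) * f (up (vmap hi w)) := by rw [h.comm _ (C.mem _) _ (inv_mem hb)]
          _ = b⁻¹ * b⁻¹ * (f (up (vmap hi w)) * f (up (vmap hi w))) := by group
          _ = c0 := by rw [hw]; group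
      · rw [ZMod.val_one, pow_one, ← e] at hw
        exact hnofix w (by rw [hw]; group)
  have hgd : mv G d = d := C.inj (by rw [← hG, hdd]; group)
  obtain ⟨a', hna⟩ := gd d hgd
  have hd4 : yg * yg * (yg * yg) ∈ R := by
    rw [← wY_append, ← wY_append, ← List.append_assoc]; exact F.wY_mem hs ht f5
  set T1 := yg * yg * f a' with hT1
  have haT1 : Acts f T1 MA := fun w => by
    rw [hT1, show yg * yg * f a' * f w * (yg * yg * f a')⁻¹ = yg * yg * (f a' * f w * (f a')⁻¹) * (yg * yg)⁻¹ by group,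
      h.comm _ (C.mem a') _ (C.mem w), mul_inv_cancel_right, hA']
  have hcT1 : T1 * c * T1⁻¹ = f (vmap dbl (1, 1, 0)) * c := by
    rw [hT1, show yg * yg * f a' * c * (yg * yg * f a')⁻¹ = yg * yg * (f a' * c * (f a')⁻¹) * (yg * yg)⁻¹ by group,
      h.comm _ (C.mem a') _ hcA, mul_inv_cancel_right, hua]
  set N := imgSub f C.add InN2 InN2_facts.1 InN2_facts.2.1
  have hNmem : ∀ w, InN2 w → f w ∈ N := fun w hw => ⟨w, hw, rfl⟩
  have hT1N : T1 * T1 ∈ N := by
    rw [hT1, sq_shift (hcen _ hd4 _ (C.mem a')), hA', show yg * yg * (yg * yg) = yg ^ 4 by simp [pow_succ, mul_assoc], ← hdd, mul_assoc,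
      ← C.add, ← C.add]
    exact hNmem _ hna
  set S : Set Y := psi f c '' {x | InA2 x.1} ∪ {T1}
  have hNA : ∀ n ∈ N, n ∈ A := by rintro - ⟨w, -, rfl⟩; exact C.mem w
  have hψm : ∀ x, psi f c x ∈ A := fun x => mul_mem (C.mem _) (pow_mem hcA _)
  have hfneg : ∀ w, (f w)⁻¹ = f (-w) := fun w =>
    inv_eq_of_mul_eq_one_right (by rw [← C.add, add_neg_cancel, C.zero])
  have hTA : ∀ x : Vec (ZMod 4) × ZMod 2, InA2 x.1 → T1 * psi f c x * T1⁻¹ * (psi f c x)⁻¹ ∈ N := by
    intro x hx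
    show T1 * (f x.1 * c ^ x.2.val) * T1⁻¹ * (f x.1 * c ^ x.2.val)⁻¹ ∈ N
    rcases zmod_two_cases x.2 with e | e <;> rw [e]
    · rw [ZMod.val_zero, pow_zero, mul_one, haT1, hfneg, ← C.add, ← sub_eq_add_neg]
      exact hNmem _ (gA _ hx)
    · rw [ZMod.val_one, pow_one, show T1 * (f x.1 * c) * T1⁻¹ * (f x.1 * c)⁻¹ =
          T1 * f x.1 * T1⁻¹ * (T1 * c * T1⁻¹) * c⁻¹ * (f x.1)⁻¹ by group, haT1, hcT1, ← mul_assoc, mul_inv_cancel_right,
        hfneg, ← C.add, ← C.add,
        show mv MA x.1 + vmap dbl (1, 1, 0) + -x.1 = mv MA x.1 - x.1 + vmap dbl (1, 1, 0) by abel]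
      exact hNmem _ (InN2_facts.2.1 _ _ (gA _ hx) gua)
  have hnorm : S ⊆ normalizer (N : Set Y) := by
    rintro z (⟨x, -, rfl⟩ | rfl)
    · exact mem_normalizer_of_conj fun n hn => by
        rw [h.comm _ (hψm x) _ (hNA n hn), mul_inv_cancel_right]; exact hn
    · refine mem_normalizer_of_conj ?_
      rintro - ⟨w, hw, rfl⟩
      rw [haT1]; exact hNmem _ (gN w hw)
  have hcomm : ∀ x ∈ S, ∀ y ∈ S, x * y * x⁻¹ * y⁻¹ ∈ N := by
    rintro z (⟨x, hx, rfl⟩ | rfl) z' (⟨x', hx', rfl⟩ | rfl)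
    · rw [h.comm _ (hψm x) _ (hψm x')]; simp
    · have := inv_mem (hTA x hx)
      rwa [show (T1 * psi f c x * T1⁻¹ * (psi f c x)⁻¹)⁻¹ = psi f c x * T1 * (psi f c x)⁻¹ * T1⁻¹ by group] at this
    · exact hTA x' hx'
    · simp
  have hsq : ∀ x ∈ S, x * x ∈ N := by
    rintro z (⟨x, hx, rfl⟩ | rfl)
    · rw [← hψadd, psi, show (x + x).2 = 0 by
        show x.2 + x.2 = 0
        rcases zmod_two_cases x.2 with e | e <;> rw [e] <;> decide, ZMod.val_zero, pow_zero, mul_one]
      exact hNmem _ (InN2_facts.2.2.2 _ hx)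
    · exact hT1N
  refine false_of_set hrank hnorm hsq hcomm ?_
  rw [card_imgSub f C.add C.inj, Nat.card_eq_fintype_card, card_InN2]
  have hT1m : T1 ∈ closure S := subset_closure (Or.inr rfl)
  let Ψ : ({w // InA2 w} × ZMod 2) × Bool → ↥(N ⊔ closure S) := fun x =>
    ⟨(if x.2 then T1 else 1) * psi f c (x.1.1, x.1.2), mem_sup_right (mul_mem
      (by split <;> [exact hT1m; exact one_mem _]) (subset_closure (Or.inl ⟨(x.1.1.1, x.1.2), x.1.1.2, rfl⟩)))⟩
  have hφT : F.φ T1 = wd sig tau wA := by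
    rw [hT1, F.map_mul (yg * yg), F.φ_eq_mid.2 (h.le (C.mem a')), F.map_mul yg yg, hφg]
    decide +kernel
  have hinj : Function.Injective Ψ := by
    rintro ⟨⟨⟨w, hw⟩, i⟩, b⟩ ⟨⟨⟨z, hz⟩, j⟩, b'⟩ hΨ
    have hΨ : (if b then T1 else 1) * psi f c (w, i) = (if b' then T1 else 1) * psi f c (z, j) :=
      congrArg Subtype.val hΨ
    have hb : b = b' := by
      have hφ := congrArg F.φ hΨ
      rw [F.map_mul, F.map_mul, F.φ_eq_mid.2 (h.le (hψm _)), F.φ_eq_mid.2 (h.le (hψm _)),
        apply_ite F.φ, apply_ite F.φ, hφT, F.φ_one] at hφ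
      revert hφ
      cases b <;> cases b' <;> decide +kernel
    subst hb
    have := hψinj (mul_left_cancel hΨ)
    simp only [Prod.mk.injEq] at this
    obtain ⟨rfl, rfl⟩ := this
    rfl
  have := Nat.card_le_card_of_injective _ hinj
  rw [Nat.card_prod, Nat.card_prod, Nat.card_eq_fintype_card, card_InA2, Nat.card_eq_fintype_card, ZMod.card,
    Nat.card_eq_fintype_card, Fintype.card_bool] at this
  omega

end CfsgLib.L32
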