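import Cfsg.Agent.SectRankFour.L32.Forms
import Cfsg.Agent.SectRankFour.L32.KillMoved

/-!
`O₂` of a group with `GL(3,2)` on top in sectional rank four: the inductive determination.
-/

set_option autoImplicit false
set_option linter.style.haveILetI false
set_option linter.unusedSectionVars false
set_option linter.unusedSimpArgs false

namespace CfsgLib.L32

open Subgroup

universe u

variable {Y : Type u} [Group Y] [Finite Y] {R : Subgroup Y}

theorem Setting.quot' (hS : Setting R) (K : Subgroup Y) [K.Normal] (hK : K ≤ R)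
    (hself : ∀ y, (∀ v ∈ R, y * v * y⁻¹ * v⁻¹ ∈ sqs R ⊔ K) → y ∈ R) :
    Setting (R.map (QuotientGroup.mk' K)) := by
  have hf := QuotientGroup.mk'_surjective K
  refine ⟨hS.toTop.map _ hf (by rw [QuotientGroup.ker_mk']; exact hK),
    CfsgLib.TwoMetacyclic.sectional_quotient hS.rank K, hS.two.map _, fun y hy => ?_⟩
  obtain ⟨y, rfl⟩ := hf y
  refine mem_map_of_mem _ (hself y fun v hv => ?_)
  have h := hy _ (mem_map_of_mem _ hv)
  rw [← map_mul, ← map_inv, ← map_mul, ← map_inv, ← map_mul, ← map_sqs] at h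
  obtain ⟨q, hq, he⟩ := h
  have := (QuotientGroup.eq).1 he
  have h2 := mul_mem (mem_sup_left (T := K) hq) (mem_sup_right (S := sqs R) this)
  rwa [mul_inv_cancel_left] at h2

theorem card_map_mul {K L : Subgroup Y} [K.Normal] (hK : K ≤ L) :
    Nat.card (L.map (QuotientGroup.mk' K)) * Nat.card K = Nat.card L := by
  set π := QuotientGroup.mk' K
  have h := card_mul_index (K.subgroupOf L)
  rw [Nat.card_congr (subgroupOfEquivOfLe hK).toEquiv] at h
  have e : (π.subgroupMap L).ker = K.subgroupOf L := by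
    ext x; simp [MonoidHom.mem_ker, Subtype.ext_iff, mem_subgroupOf, π]
  rw [← e, index_ker, MonoidHom.range_eq_top.2 (π.subgroupMap_surjective L), card_top, mul_comm] at h
  exact h

theorem two_cosets {L M : Subgroup Y} (hLM : L ≤ M) (hc : Nat.card M = 2 * Nat.card L) :
    ∀ a ∈ M, a ∉ L → ∀ b ∈ M, b ∉ L → a⁻¹ * b ∈ L := by
  intro a ha ha' b hb hb'
  have hidx : (L.subgroupOf M).index = 2 := by
    have h := card_mul_index (L.subgroupOf M)
    rw [Nat.card_congr (subgroupOfEquivOfLe hLM).toEquiv, hc, mul_comm 2] at h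
    exact Nat.eq_of_mul_eq_mul_left Nat.card_pos h
  have := (mul_mem_iff_of_index_two hidx (a := (⟨a, ha⟩ : M)⁻¹) (b := ⟨b, hb⟩)).2
    (iff_of_false (fun h => ha' (by simpa [mem_subgroupOf] using h)) (fun h => hb' (by simpa [mem_subgroupOf] using h)))
  exact this

theorem comm_of_index {L : Subgroup Y} (hLR : L ≤ R) (hc : Nat.card R = 2 * Nat.card L)
    (hLc : ∀ a ∈ L, ∀ b ∈ L, a * b = b * a) {w : Y} (hw : w ∈ R) (hw' : w ∉ L)
    (hwc : ∀ x ∈ L, w * x = x * w) : ∀ a ∈ R, ∀ b ∈ R, a * b = b * a := by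
  have hdec : ∀ a ∈ R, ∃ x ∈ L, a = x ∨ a = w * x := fun a ha => by
    by_cases h : a ∈ L
    · exact ⟨a, h, Or.inl rfl⟩
    · exact ⟨w⁻¹ * a, two_cosets hLR hc w hw hw' a ha h, Or.inr (by group)⟩
  intro a ha b hb
  obtain ⟨x, hx, rfl | rfl⟩ := hdec a ha <;> obtain ⟨y, hy, rfl | rfl⟩ := hdec b hb
  · exact hLc _ hx _ hy
  · calc a * (w * y) = (a * w) * y := by group
      _ = w * (a * y) := by rw [← hwc a hx]; group
      _ = w * y * a := by rw [hLc a hx y hy]; group
  · calc w * x * b = w * (x * b) := by group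
      _ = (w * b) * x := by rw [hLc x hx b hy]; group
      _ = b * (w * x) := by rw [hwc b hy]; group
  · calc w * x * (w * y) = w * (x * w) * y := by group
      _ = w * w * (x * y) := by rw [← hwc x hx]; group
      _ = w * (w * y) * x := by rw [hLc x hx y hy]; group
      _ = w * y * (w * x) := by conv_lhs => rw [hwc y hy]
                                group

theorem stab_mem (hS : Setting R) {y : Y} (hy : y ^ 7 ∈ R) (L : Subgroup Y) (hLR : L ≤ R)
    (h1 : ∀ a ∈ R, y * a * y⁻¹ * a⁻¹ ∈ L) (h2 : ∀ a ∈ L, y * a * y⁻¹ * a⁻¹ ∈ sqs R) : y ∈ R := by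
  haveI := hS.normal
  haveI : (sqs R).Normal := sqs_normal R
  set π := QuotientGroup.mk' (sqs R)
  refine hS.self y fun a ha => ?_
  have hab : ∀ p ∈ R.map π, ∀ q ∈ R.map π, p * q = q * p := by
    rintro - ⟨p, hp, rfl⟩ - ⟨q, hq, rfl⟩
    rw [← mul_inv_eq_one, ← map_mul, ← map_mul, ← map_inv, ← map_mul]
    exact (QuotientGroup.eq_one_iff _).2 (by
      rw [show p * q * (q * p)⁻¹ = p * q * p⁻¹ * q⁻¹ by group]; exact comm_mem_sqs hp hq)
  set k := y * a * y⁻¹ * a⁻¹
  have hk : k ∈ L := h1 a ha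
  have e2 : π y * π k * (π y)⁻¹ = π k := by
    rw [← mul_inv_eq_one, ← map_mul, ← map_inv, ← map_mul, ← map_inv, ← map_mul]
    exact (QuotientGroup.eq_one_iff _).2 (h2 k hk)
  have e1 : π y * π a * (π y)⁻¹ = π a * π k := by
    rw [hab _ (mem_map_of_mem π ha) _ (mem_map_of_mem π (hLR hk)), ← map_mul, ← map_inv, ← map_mul, ← map_mul]
    congr 1; simp only [k]; group
  have := fix_step (hS.two.map π) hab (by rw [← map_pow]; exact mem_map_of_mem π hy)
    (mem_map_of_mem π ha) (mem_map_of_mem π (hLR hk)) e1 e2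
  rw [← mul_inv_eq_one, ← map_mul, ← map_inv, ← map_mul, ← map_inv, ← map_mul] at this
  exact (QuotientGroup.eq_one_iff _).1 this

theorem exists_natsec (hS : Setting R) (L M : Subgroup Y) [L.Normal] [M.Normal] (hML : M ≤ L)
    (hsq : ∀ a ∈ L, a * a ∈ M) (hcard : Nat.card L = 8 * Nat.card M)
    (hRL : ∀ r ∈ R, ∀ a ∈ L, r * a * r⁻¹ * a⁻¹ ∈ M)
    (hstab : ∀ y, y ^ 7 ∈ R → (∀ a ∈ L, y * a * y⁻¹ * a⁻¹ ∈ M) → y ∈ R) :
    ∃ (F : Frame R) (p : Y → Vec (ZMod 2)), NatSec F L p ∧ ∀ a ∈ L, p a = 0 ↔ a ∈ M := by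
  obtain ⟨p, hpm, hps, hpk⟩ := exists_coord hML hsq hcard
  have hcj : ∀ y, ∀ a ∈ L, y * a * y⁻¹ ∈ L := fun y a ha => Subgroup.Normal.conj_mem inferInstance a ha y
  have hpe : ∀ a ∈ L, ∀ b ∈ L, a * b⁻¹ ∈ M → p a = p b := fun a ha b hb h => by
    have e := hpm _ (mul_mem ha (inv_mem hb)) b hb
    rw [inv_mul_cancel_right, (hpk _ (mul_mem ha (inv_mem hb))).2 h, zero_add] at e
    exact e
  have hne : ∃ y, ∃ a ∈ L, p (y * a * y⁻¹) ≠ p a := by
    by_contra h; push Not at h
    obtain ⟨y, hy, hy7⟩ := hS.toTop.exists_seven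
    refine hy (hstab y hy7 fun a ha => (hpk _ (mul_mem (hcj y a ha) (inv_mem ha))).1 ?_)
    have e := hpm _ (mul_mem (hcj y a ha) (inv_mem ha)) a ha
    rw [inv_mul_cancel_right, h y a ha] at e
    exact right_eq_add.1 e
  obtain ⟨F, hF⟩ := exists_frame hS.toTop hpm hps
    (fun y a ha h0 => (hpk _ (hcj y a ha)).2 (Subgroup.Normal.conj_mem inferInstance _ ((hpk a ha).1 h0) y))
    (fun r hr a ha => hpe _ (hcj r a ha) a ha (hRL r hr a ha)) hne
  exact ⟨F, p, hF, hpk⟩

theorem NatSec.mem_R {F : Frame R} {L : Subgroup Y} [L.Normal] {p : Y → Vec (ZMod 2)} (hp : NatSec F L p) {y : Y}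
    (h : ∀ a ∈ L, p (y * a * y⁻¹ * a⁻¹) = 0) : y ∈ R := by
  refine F.φ_eq_mid.1 (mv_ext fun v => ?_)
  obtain ⟨a, ha, rfl⟩ := hp.surj v
  have hc : y * a * y⁻¹ ∈ L := Subgroup.Normal.conj_mem inferInstance a ha y
  have e := hp.mul _ (mul_mem hc (inv_mem ha)) a ha
  rw [inv_mul_cancel_right, hp.conj y a ha, h a ha, zero_add] at e
  rw [e, mv_mid]

theorem exists_sqrt_subgroup [R.Normal] (hcomm : ∀ a ∈ R, ∀ b ∈ R, a * b = b * a) (M : Subgroup Y) (hM : M ≤ sqs R) :
    (∀ x ∈ sqs R, ∃ a ∈ R, x = a * a) ∧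
    ∃ L : Subgroup Y, (∀ a, a ∈ L ↔ a ∈ R ∧ a * a ∈ M) ∧ (M.Normal → L.Normal) ∧
      Nat.card L * Nat.card (sqs R) = Nat.card R * Nat.card M := by
  have hsqm : ∀ a ∈ R, ∀ b ∈ R, a * b * (a * b) = a * a * (b * b) := fun a ha b hb => by
    rw [show a * b * (a * b) = a * (b * a) * b by group, hcomm b hb a ha]; group
  have hPsq : ∀ x ∈ sqs R, ∃ a ∈ R, x = a * a := fun x hx => by
    induction hx using closure_induction with
    | mem x hx => obtain ⟨a, ha, rfl⟩ := hx; exact ⟨a, ha, rfl⟩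
    | one => exact ⟨1, one_mem _, by group⟩
    | mul x y _ _ h1 h2 =>
      obtain ⟨a, ha, rfl⟩ := h1; obtain ⟨b, hb, rfl⟩ := h2
      exact ⟨a * b, mul_mem ha hb, (hsqm a ha b hb).symm⟩
    | inv x _ h => obtain ⟨a, ha, rfl⟩ := h; exact ⟨a⁻¹, inv_mem ha, by group⟩
  refine ⟨hPsq, ?_⟩
  let sq : R →* Y := MonoidHom.mk' (fun a => (a : Y) * a) fun a b => hsqm a a.2 b b.2
  have hrange : sq.range = sqs R := by
    ext x
    refine ⟨?_, fun hx => ?_⟩
    · rintro ⟨a, rfl⟩; exact mem_sqs a.2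
    · obtain ⟨a, ha, rfl⟩ := hPsq x hx; exact ⟨⟨a, ha⟩, rfl⟩
  refine ⟨(M.comap sq).map R.subtype, fun a => ⟨?_, fun ⟨ha, ha'⟩ => ⟨⟨a, ha⟩, ha', rfl⟩⟩, fun hMn => ⟨?_⟩, ?_⟩
  · rintro ⟨b, hb, rfl⟩; exact ⟨b.2, hb⟩
  · rintro - ⟨b, hb, rfl⟩ g
    refine ⟨⟨g * b * g⁻¹, Subgroup.Normal.conj_mem inferInstance _ b.2 g⟩, ?_, rfl⟩
    show g * b * g⁻¹ * (g * b * g⁻¹) ∈ M
    rw [show g * (b : Y) * g⁻¹ * (g * b * g⁻¹) = g * ((b : Y) * b) * g⁻¹ by group]
    exact hMn.conj_mem _ hb g
  · rw [card_map_of_injective R.subtype_injective]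
    have h1 := card_mul_index (M.comap sq)
    rw [index_comap, hrange] at h1
    have h2 := relIndex_mul_index hM
    have h3 := card_mul_index M
    have h4 := card_mul_index (sqs R)
    have h5 : M.relIndex (sqs R) * Nat.card M = Nat.card (sqs R) := by
      have : (M.relIndex (sqs R) * Nat.card M) * (sqs R).index = Nat.card (sqs R) * (sqs R).index := by
        rw [h4, ← h3, ← h2]; ring
      exact Nat.eq_of_mul_eq_mul_right (Nat.pos_of_ne_zero index_ne_zero_of_finite) this
    rw [← h5, ← h1]; ring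

theorem card_le_of_elementary (hS : Setting R) (K : Subgroup Y) (h : ∀ a ∈ K, a * a = 1) : Nat.card K ≤ 16 := by
  have hc : ∀ a ∈ K, ∀ b ∈ K, a * b = b * a := fun a ha b hb => by
    have e : ∀ x ∈ K, x⁻¹ = x := fun x hx => inv_eq_of_mul_eq_one_right (h x hx)
    have := e _ (mul_mem ha hb)
    rw [mul_inv_rev, e a ha, e b hb] at this
    exact this.symm
  have := CfsgLib.SectionalFour.section_bound hS.rank (K := K) (N := (⊥ : Subgroup Y)) bot_le
    (fun x _ => mem_normalizer_of_conj fun n hn => by rw [mem_bot.1 hn]; simp)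
    (fun x hx y hy => by rw [hc x hx y hy]; simp) (fun x hx => mem_bot.2 (h x hx))
  rwa [card_bot, mul_one] at this

section Bil

variable {N : Subgroup Y} (hcN : ∀ n ∈ N, ∀ a ∈ R, n * a = a * n)
  (hab : ∀ a ∈ R, ∀ b ∈ R, a * b * a⁻¹ * b⁻¹ ∈ N)

include hcN hab in
theorem comm_mul_left {x y z : Y} (hx : x ∈ R) (hy : y ∈ R) (hz : z ∈ R) :
    x * y * z * (x * y)⁻¹ * z⁻¹ = y * z * y⁻¹ * z⁻¹ * (x * z * x⁻¹ * z⁻¹) := by
  calc x * y * z * (x * y)⁻¹ * z⁻¹ = x * (y * z * y⁻¹ * z⁻¹) * (z * x⁻¹ * z⁻¹) := by group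
    _ = y * z * y⁻¹ * z⁻¹ * x * (z * x⁻¹ * z⁻¹) := by rw [hcN _ (hab y hy z hz) x hx]
    _ = _ := by group

include hcN hab in
theorem comm_mul_right {x y z : Y} (hx : x ∈ R) (hy : y ∈ R) (hz : z ∈ R) :
    x * (y * z) * x⁻¹ * (y * z)⁻¹ = x * y * x⁻¹ * y⁻¹ * (x * z * x⁻¹ * z⁻¹) := by
  calc x * (y * z) * x⁻¹ * (y * z)⁻¹ = x * y * x⁻¹ * ((x * z * x⁻¹ * z⁻¹) * y⁻¹) := by group
    _ = x * y * x⁻¹ * (y⁻¹ * (x * z * x⁻¹ * z⁻¹)) := by rw [hcN _ (hab x hx z hz) _ (inv_mem hy)]
    _ = _ := by group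

include hcN hab in
theorem sqs_central (hN2 : ∀ n ∈ N, n * n = 1) : ∀ x ∈ sqs R, ∀ a ∈ R, x * a = a * x := by
  intro x hx
  have h : x ∈ centralizer (R : Set Y) := by
    refine (closure_le (centralizer (R : Set Y))).2 ?_ hx
    rintro - ⟨b, hb, rfl⟩
    refine mem_centralizer_iff.2 fun a ha => ?_
    have e := comm_mul_left hcN hab hb hb ha
    rw [hN2 _ (hab b hb a ha), mul_inv_eq_one, mul_inv_eq_iff_eq_mul] at e
    exact e.symm
  exact fun a ha => (mem_centralizer_iff.1 h a ha).symm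

end Bil

/-- With a fixed central subgroup of order two containing the commutators, a natural section of index two
forces commutativity. -/
theorem comm_of_natural {F : Frame R} {L N : Subgroup Y} [L.Normal] [N.Normal] {p : Y → Vec (ZMod 2)}
    (hp : NatSec F L p) (hLR : L ≤ R) (hcard : Nat.card R = 2 * Nat.card L)
    (hcN : ∀ n ∈ N, ∀ a ∈ R, n * a = a * n) (hN2 : ∀ n ∈ N, n * n = 1) (hfix : ∀ y, ∀ n ∈ N, y * n * y⁻¹ = n)
    (hab : ∀ a ∈ R, ∀ b ∈ R, a * b * a⁻¹ * b⁻¹ ∈ N) (hker : ∀ a ∈ L, p a = 0 → ∀ b ∈ R, a * b = b * a) :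
    ∀ a ∈ R, ∀ b ∈ R, a * b = b * a := by
  obtain ⟨s, hs⟩ := F.exists_sigma
  have hLc : ∀ a ∈ L, ∀ b ∈ L, a * b = b * a := comm_of_sigma hp hs
    (fun a ha b hb c hc => hcN _ (hab a (hLR ha) b (hLR hb)) c (hLR hc))
    (fun a ha b hb => hN2 _ (hab a (hLR ha) b (hLR hb))) (fun a ha b hb => hfix s _ (hab a (hLR ha) b (hLR hb)))
    (fun a ha h b hb => hker a ha h b (hLR hb))
  obtain ⟨w, hw, hw'⟩ : ∃ w ∈ R, w ∉ L := by
    by_contra h; push Not at h
    have := le_antisymm h hLR
    rw [this] at hcard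
    have := Nat.card_pos (α := L)
    omega
  refine comm_of_index hLR hcard hLc hw hw' (hom_zero hp hs
    (fun x hx y hy => hcN _ (hab w hw x (hLR hx)) y (hLR hy)) (fun x hx h => (hker x hx h w hw).symm) fun x hx => ?_)
  have hw2 : s⁻¹ * w * s ∉ L := fun h => hw' (by
    have := Subgroup.Normal.conj_mem (inferInstance : L.Normal) _ h s
    rwa [show s * (s⁻¹ * w * s) * s⁻¹ = w by group] at this)
  by_cases hwR : s⁻¹ * w * s ∈ R
  · obtain ⟨l, hl, hle⟩ : ∃ l ∈ L, s⁻¹ * w * s = w * l :=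
      ⟨_, two_cosets hLR hcard w hw hw' _ hwR hw2, by group⟩
    calc w * (s * x * s⁻¹) * w⁻¹ * (s * x * s⁻¹)⁻¹
        = s * ((s⁻¹ * w * s) * x * (s⁻¹ * w * s)⁻¹ * x⁻¹) * s⁻¹ := by group
      _ = s * (w * (l * x * l⁻¹) * w⁻¹ * x⁻¹) * s⁻¹ := by rw [hle]; group
      _ = w * x * w⁻¹ * x⁻¹ := by
        rw [hLc l hl x hx, mul_inv_cancel_right, hfix s _ (hab w hw x (hLR hx))]
  · exact absurd (F.φ_eq_mid.1 (mv_ext fun v => by
      rw [F.map_mul, F.map_mul, F.φ_eq_mid.2 hw, mv_mid, mv_mm, mv_mm, mv_mid, ← mv_mm, ← F.map_mul,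
        inv_mul_cancel, F.φ_one, mv_mid])) hwR

theorem card_two_fixed {N : Subgroup Y} [N.Normal] (h : Nat.card N = 2) : ∀ y, ∀ n ∈ N, y * n * y⁻¹ = n := by
  intro y n hn
  by_cases h1 : n = 1
  · rw [h1]; group
  obtain ⟨z, hz, huni⟩ := (Nat.card_eq_two_iff' (1 : N)).1 h
  have e1 := huni ⟨n, hn⟩ (fun e => h1 (congrArg Subtype.val e))
  have e2 := huni ⟨y * n * y⁻¹, Subgroup.Normal.conj_mem inferInstance n hn y⟩ (fun e => h1 (by
    have e : y * n * y⁻¹ = 1 := congrArg Subtype.val e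
    exact conj_eq_one_iff.1 e))
  exact congrArg Subtype.val (e2.trans e1.symm)

theorem not_good_of_big {R' : Subgroup Y} (h : 64 ≤ Nat.card R') (hg : Good R') (hne : ∃ x ∈ R', x * x ≠ 1) : False := by
  rcases hg with ⟨hel, -⟩ | ⟨-, hc, -⟩
  · obtain ⟨x, hx, hx2⟩ := hne; exact hx2 (hel x hx)
  · omega

/-- The case of a central subgroup of order two. -/
theorem good_of_two (hS : Setting R) (N : Subgroup Y) [N.Normal] (hNP : N ≤ sqs R) (hN : Nat.card N = 2)
    (hcN : ∀ n ∈ N, ∀ a ∈ R, n * a = a * n) (hN2 : ∀ n ∈ N, n * n = 1)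
    (hg : Good (R.map (QuotientGroup.mk' N))) : Good R := by
  haveI := hS.normal
  have hfix := card_two_fixed hN
  have hNR : N ≤ R := hNP.trans (sqs_le R)
  set π := QuotientGroup.mk' N
  haveI hRn : (R.map π).Normal := Subgroup.Normal.map inferInstance π (QuotientGroup.mk'_surjective N)
  have hcardR := card_map_mul (L := R) hNR
  rw [hN] at hcardR
  have habel : ∀ p ∈ R.map π, ∀ q ∈ R.map π, p * q = q * p := by
    rcases hg with ⟨hel, -⟩ | ⟨h, -, -⟩
    · intro a ha b hb
      have e : ∀ x ∈ R.map π, x⁻¹ = x := fun x hx => inv_eq_of_mul_eq_one_right (hel x hx)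
      have := e _ (mul_mem ha hb)
      rw [mul_inv_rev, e a ha, e b hb] at this
      exact this.symm
    · exact h
  have hab : ∀ a ∈ R, ∀ b ∈ R, a * b * a⁻¹ * b⁻¹ ∈ N := fun a ha b hb => by
    refine (QuotientGroup.eq_one_iff _).1 ?_
    show π (a * b * a⁻¹ * b⁻¹) = 1
    rw [map_mul, map_mul, map_mul, habel _ (mem_map_of_mem π ha) _ (mem_map_of_mem π hb), map_inv, map_inv]
    group
  rcases hg with ⟨hel, hcard⟩ | ⟨-, hc32, hP2⟩
  · have hsqN : ∀ a ∈ R, a * a ∈ N := fun a ha => (QuotientGroup.eq_one_iff _).1 (by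
      show π (a * a) = 1; rw [map_mul]; exact hel _ (mem_map_of_mem π ha))
    have hP : sqs R = N := le_antisymm ((closure_le _).2 (by rintro - ⟨a, ha, rfl⟩; exact hsqN a ha)) hNP
    rcases hcard with h8 | h16
    · -- a natural module over a group of order two
      exfalso
      rw [h8] at hcardR
      obtain ⟨F, p, hp, hpk⟩ := exists_natsec hS R N hNR hsqN (by rw [hN, ← hcardR]) hab
        (fun y _ h => hS.self y (hP ▸ h))
      obtain ⟨s, hs⟩ := F.exists_sigma
      have hcomm := comm_of_sigma hp hs (fun a ha b hb c hc => hcN _ (hab a ha b hb) c hc)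
        (fun a ha b hb => hN2 _ (hab a ha b hb)) (fun a ha b hb => hfix s _ (hab a ha b hb))
        (fun a ha h b hb => hcN a ((hpk a ha).1 h) b hb)
      obtain ⟨-, Om, hOm, hOmn, hOmc⟩ := exists_sqrt_subgroup hcomm ⊥ bot_le
      haveI := hOmn inferInstance
      rw [card_bot, mul_one, hP, hN, ← hcardR] at hOmc
      have hOmR : Om ≤ R := fun a ha => ((hOm a).1 ha).1
      obtain ⟨y, hy, hy7⟩ := hS.toTop.exists_seven
      refine hy (stab_mem hS hy7 Om hOmR (fix_small hOmR (fun a ha => ?_) (by omega)) ?_)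
      · rw [hcomm _ hy7 a ha]; simp
      · rw [hP]
        refine fix_small (fun n hn => (hOm n).2 ⟨hNR hn, mem_bot.2 (hN2 n hn)⟩) (fun a ha => ?_) (by omega)
        rw [hcomm _ hy7 a (hOmR ha)]; simp
    · -- order thirty-two
      rw [h16] at hcardR
      refine Or.inr ⟨?_, hcardR.symm, by rw [hP, hN]⟩
      obtain ⟨C, hCn, hCle, hC⟩ := four_dim (hS.toTop.map π (QuotientGroup.mk'_surjective N)
        (by rw [QuotientGroup.ker_mk']; exact hNR)) (R.map π) hel h16 habel
      haveI := hCn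
      set L := C.comap π
      have hNL : N ≤ L := fun n hn => by
        show π n ∈ C
        rw [show π n = 1 from (QuotientGroup.eq_one_iff n).2 hn]; exact one_mem _
      have hLR : L ≤ R := fun a ha => by
        obtain ⟨b, hb, e⟩ := hCle ha
        have := (QuotientGroup.eq).1 e
        have h := mul_mem hb (hNR this)
        rwa [mul_inv_cancel_left] at h
      have hLc : Nat.card L = Nat.card C * 2 := by
        rw [← card_map_mul hNL, hN, map_comap_eq_self_of_surjective (QuotientGroup.mk'_surjective N)]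
      rcases hC with hC2 | hC8
      · -- a fixed vector
        rw [hC2] at hLc
        obtain ⟨F, p, hp, hpk⟩ := exists_natsec hS R L hLR (fun a ha => hNL (hsqN a ha)) (by rw [hLc, ← hcardR])
          (fun r hr a ha => hNL (hab r hr a ha))
          (fun y hy h => stab_mem hS hy L hLR h (by
            rw [hP]; exact fix_small hNL (fun a ha => hab _ hy a (hLR ha)) (by omega)))
        obtain ⟨s, hs⟩ := F.exists_sigma
        have hs7 := F.sigma_pow_seven hs
        have hLcomm : ∀ a ∈ L, ∀ b ∈ L, a * b = b * a := fun a ha b hb => by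
          by_cases haN : a ∈ N
          · exact hcN a haN b (hLR hb)
          by_cases hbN : b ∈ N
          · exact (hcN b hbN a (hLR ha)).symm
          have := two_cosets hNL (by rw [hLc, hN]) a ha haN b hb hbN
          have e : b = a * (a⁻¹ * b) := by group
          rw [e, mul_assoc, hcN _ this a (hLR ha)]
        have hLcen : ∀ k ∈ L, ∀ b ∈ R, k * b = b * k := fun k hk => by
          refine hom_zero hp hs (fun x hx y hy => hcN _ (hab k (hLR hk) x hx) y hy)
            (fun x hx h => hLcomm k hk x ((hpk x hx).1 h)) fun x hx => ?_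
          have hk' : s⁻¹ * k * s ∈ L := by
            have := Subgroup.Normal.conj_mem (inferInstance : L.Normal) k hk s⁻¹
            rwa [inv_inv] at this
          have hn : k⁻¹ * (s⁻¹ * k * s) ∈ N := by
            have := fix_small hNL (fun a ha => hab _ hs7 a (hLR ha)) (by omega) _ hk'
            rw [show s * (s⁻¹ * k * s) * s⁻¹ * (s⁻¹ * k * s)⁻¹ = k * (s⁻¹ * k * s)⁻¹ by group] at this
            have h2 := inv_mem this
            rw [mul_inv_rev, inv_inv] at h2
            have h3 := Subgroup.Normal.conj_mem (inferInstance : N.Normal) _ h2 k⁻¹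
            rwa [show k⁻¹ * (s⁻¹ * k * s * k⁻¹) * k⁻¹⁻¹ = k⁻¹ * (s⁻¹ * k * s) by group] at h3
          set n := k⁻¹ * (s⁻¹ * k * s)
          calc k * (s * x * s⁻¹) * k⁻¹ * (s * x * s⁻¹)⁻¹
              = s * (k * (n * x * n⁻¹) * k⁻¹ * x⁻¹) * s⁻¹ := by simp only [n]; group
            _ = k * x * k⁻¹ * x⁻¹ := by
              rw [hcN n hn x hx, mul_inv_cancel_right, hfix s _ (hab k (hLR hk) x hx)]
        exact comm_of_sigma hp hs (fun a ha b hb c hc => hcN _ (hab a ha b hb) c hc)
          (fun a ha b hb => hN2 _ (hab a ha b hb)) (fun a ha b hb => hfix s _ (hab a ha b hb))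
          (fun a ha h b hb => hLcen a ((hpk a ha).1 h) b hb)
      · rw [hC8] at hLc
        obtain ⟨F, p, hp, hpk⟩ := exists_natsec hS L N hNL (fun a ha => hsqN a (hLR ha)) (by rw [hLc, hN])
          (fun r hr a ha => hab r hr a (hLR ha))
          (fun y hy h => stab_mem hS hy L hLR (fix_small hLR (fun a ha => hNL (hab _ hy a ha)) (by omega)) (hP ▸ h))
        exact comm_of_natural hp hLR (by omega) hcN hN2 hfix hab fun a ha h b hb => hcN a ((hpk a ha).1 h) b hb
  · -- order sixty-four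
    exfalso
    rw [hc32] at hcardR
    haveI : (sqs R).Normal := sqs_normal R
    obtain ⟨-, Lb, hLb, hLbn, hLbc⟩ := exists_sqrt_subgroup (R := R.map π) habel ⊥ bot_le
    haveI := hLbn inferInstance
    rw [card_bot, mul_one, hc32, hP2] at hLbc
    have hPc : Nat.card (sqs R) = 4 := by
      have := card_map_mul (L := sqs R) hNP
      rw [map_sqs, hP2, hN] at this
      omega
    set L := Lb.comap π
    have hLmem : ∀ a ∈ R, a * a ∈ N → a ∈ L := fun a ha h => (hLb _).2 ⟨mem_map_of_mem π ha, by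
      rw [mem_bot, ← map_mul]; exact (QuotientGroup.eq_one_iff _).2 h⟩
    have hLsq : ∀ a ∈ L, a * a ∈ N := fun a ha => (QuotientGroup.eq_one_iff _).1 (by
      show π (a * a) = 1; rw [map_mul]; exact mem_bot.1 ((hLb _).1 ha).2)
    have hNL : N ≤ L := fun n hn => hLmem n (hNR hn) (by rw [hN2 n hn]; exact one_mem _)
    have hLR : L ≤ R := fun a ha => by
      obtain ⟨b, hb, e⟩ := ((hLb _).1 ha).1
      have := (QuotientGroup.eq).1 e
      have h := mul_mem hb (hNR this)
      rwa [mul_inv_cancel_left] at h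
    have hLc : Nat.card L = 32 := by
      rw [← card_map_mul hNL, hN, map_comap_eq_self_of_surjective (QuotientGroup.mk'_surjective N)]
      omega
    have hPL : sqs R ≤ L := fun x hx => hLmem x (sqs_le R hx) (by
      refine (QuotientGroup.eq_one_iff _).1 ?_
      show π (x * x) = 1
      rw [map_mul]
      have hx' : π x ∈ sqs (R.map π) := map_sqs π R ▸ mem_map_of_mem π hx
      have := pow_card_eq_one' (G := sqs (R.map π)) (x := ⟨π x, hx'⟩)
      rw [hP2, pow_two] at this
      exact congrArg Subtype.val this)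
    obtain ⟨F, p, hp, hpk⟩ := exists_natsec hS L (sqs R) hPL (fun a ha => mem_sqs (hLR ha)) (by rw [hLc, hPc])
      (fun r hr a ha => comm_mem_sqs hr (hLR ha))
      (fun y hy h => stab_mem hS hy L hLR (fix_small hLR (fun a ha => hNL (hab _ hy a ha)) (by omega)) h)
    have hcomm := comm_of_natural hp hLR (by omega) hcN hN2 hfix hab
      fun a ha h => sqs_central hcN hab hN2 a ((hpk a ha).1 h)
    exact false_of_eight hS hcomm hcardR.symm hPc

/-- The case of a natural minimal subgroup over `(ℤ/2)³`. -/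
theorem false_of_natural_eight (hS : Setting R) (N : Subgroup Y) [N.Normal] (hNR : N ≤ R) (hN : Nat.card N = 8)
    {Fn : Frame R} {pn : Y → Vec (ZMod 2)} (hn : NatSec Fn N pn) (hnker : ∀ n ∈ N, pn n = 0 → n = 1)
    (hcN : ∀ n ∈ N, ∀ a ∈ R, n * a = a * n) (hN2 : ∀ n ∈ N, n * n = 1) (hP : sqs R = N)
    (hsqN : ∀ a ∈ R, a * a ∈ N) (hab : ∀ a ∈ R, ∀ b ∈ R, a * b * a⁻¹ * b⁻¹ ∈ N) (hc : Nat.card R = 64) : False := by
  haveI := hS.normal
  obtain ⟨F, p, hp, hpk⟩ := exists_natsec hS R N hNR hsqN (by rw [hc, hN]) hab (fun y _ h => hS.self y (hP ▸ h))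
  rcases line hp hn hnker hsqN hN2 (fun a ha b hb c hc => hcN _ (hab a ha b hb) c hc)
      (fun a ha b hb => hN2 _ (hab a ha b hb))
      (fun a ha h => ⟨hN2 a ((hpk a ha).1 h), fun b hb => hcN a ((hpk a ha).1 h) b hb⟩) with h | ⟨hcomm, hinv, hsur⟩
  · have := card_le_of_elementary hS R h
    omega
  · exact false_of_four_cube hS.rank ⟨hS.normal, le_rfl, hcomm, fun a ha => hN2 _ (hsqN a ha), hp, hinv⟩
      fun a ha h => hsur a ((hpk a ha).1 h)

/-- A group inverting a natural `(ℤ/4)³` reduces to a smaller setting. -/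
theorem false_of_inverted (hS : Setting R)
    (IH : ∀ (Z : Type u) [Group Z] [Finite Z] (R' : Subgroup Z), Setting R' → Nat.card R' < Nat.card R → Good R')
    {F : Frame R} {L : Subgroup Y} {p : Y → Vec (ZMod 2)} (h : Four F L p) (hLR : L ≤ R)
    (hcard : Nat.card R = 2 * Nat.card L) (hLc : Nat.card L = 64)
    {w : Y} (hw : w ∈ R) (hw' : w ∉ L) (hwinv : ∀ x ∈ L, w * x * w⁻¹ * x⁻¹ = x * x) : False := by
  haveI := h.normal
  haveI := hS.normal
  obtain ⟨s, hs⟩ := F.exists_sigma
  obtain ⟨v, hv, hpv⟩ := h.sec.surj e0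
  set f := co (v, s * v * s⁻¹, s * (s * v * s⁻¹) * s⁻¹)
  have C : Coord F L p s f := h.coord hs hv hpv
  have hsur : ∀ a ∈ L, ∃ u, f u = a := by
    have hb : Function.Bijective fun u => (⟨f u, C.mem u⟩ : L) :=
      (Nat.bijective_iff_injective_and_card _).2 ⟨fun x y e => C.inj (congrArg Subtype.val e), by
        rw [hLc, Nat.card_eq_fintype_card]; rfl⟩
    exact fun a ha => (hb.2 ⟨a, ha⟩).imp fun u e => congrArg Subtype.val e
  have hact : ∀ y, ∃ M, Acts f y M := fun y => by
    have hm : ∀ u, ∃ u', f u' = y * f u * y⁻¹ := fun u => hsur _ (Subgroup.Normal.conj_mem inferInstance _ (C.mem u) y)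
    choose g hg using hm
    exact ⟨_, (exists_acts h C (hg _).symm (hg _).symm (hg _).symm).1⟩
  choose Mx hMx using hact
  set χ : Y → ZMod 4 := fun y => det3 (Mx y)
  have hχm : ∀ y z, χ (y * z) = χ y * χ z := fun y z => by
    show det3 _ = det3 _ * det3 _
    rw [← det3_mm, Acts.unique C (hMx (y * z)) ((hMx y).mul (hMx z))]
  have hχ1 : χ 1 = 1 := by
    show det3 _ = 1
    rw [Acts.unique C (hMx 1) Acts.one, det3_mid]
  have hfneg : ∀ u, (f u)⁻¹ = f (-u) := fun u =>
    inv_eq_of_mul_eq_one_right (by rw [← C.add, add_neg_cancel, C.zero])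
  have hχL : ∀ x ∈ L, χ x = 1 := fun x hx => by
    show det3 _ = 1
    rw [Acts.unique C (hMx x) (fun u => by rw [h.comm x hx _ (C.mem u), mul_inv_cancel_right, mv_mid]), det3_mid]
  have hneg : (∀ u : Vec (ZMod 4), mv ((3, 0, 0), (0, 3, 0), (0, 0, 3)) u = -u) ∧
      det3 (((3, 0, 0), (0, 3, 0), (0, 0, 3)) : Mat (ZMod 4)) = 3 := by decide +kernel
  have hχw : χ w = 3 := by
    show det3 _ = 3
    rw [Acts.unique C (hMx w) (N := ((3, 0, 0), (0, 3, 0), (0, 0, 3))) (fun u => ?_), hneg.2]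
    have e := hwinv _ (C.mem u)
    rw [mul_inv_eq_iff_eq_mul] at e
    rw [hneg.1, ← hfneg, e]
    refine eq_inv_of_mul_eq_one_left ?_
    rw [mul_assoc]; exact h.four _ (C.mem u)
  have hunit : ∀ a b : ZMod 4, a * b = 1 → a = 1 ∨ a = 3 := by decide +kernel
  have hval : ∀ y, χ y = 1 ∨ χ y = 3 := fun y =>
    hunit _ (χ y⁻¹) (by rw [← hχm, mul_inv_cancel, hχ1])
  let X1 : Subgroup Y :=
    { carrier := {y | χ y = 1}
      one_mem' := hχ1
      mul_mem' := fun {a b} (ha : χ a = 1) (hb : χ b = 1) => show χ (a * b) = 1 by rw [hχm, ha, hb, one_mul]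
      inv_mem' := fun {a} (ha : χ a = 1) => show χ a⁻¹ = 1 by
        have := hχm a⁻¹ a; rw [inv_mul_cancel, hχ1, ha, mul_one] at this; exact this.symm }
  have hLX : L ≤ X1 := hχL
  have hRX : ∀ r ∈ R, r ∈ X1 → r ∈ L := fun r hr (hrX : χ r = 1) => by
    by_contra hrL
    have e : r = w * (w⁻¹ * r) := by group
    have := two_cosets hLR hcard w hw hw' r hr hrL
    rw [e, hχm, hχw, hχL _ this, mul_one] at hrX
    exact absurd hrX (by decide)
  have honto : ∀ y, ∃ x ∈ X1, y⁻¹ * x ∈ R := fun y => by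
    rcases hval y with e | e
    · exact ⟨y, e, by rw [inv_mul_cancel]; exact one_mem _⟩
    · exact ⟨y * w, show χ (y * w) = 1 by rw [hχm, e, hχw]; decide, by rw [inv_mul_cancel_left]; exact hw⟩
  set R1 := L.subgroupOf X1
  let ψ : X1 →* Y ⧸ R := (QuotientGroup.mk' R).comp X1.subtype
  have hψ : Function.Surjective ψ := fun q => by
    obtain ⟨y, rfl⟩ := QuotientGroup.mk'_surjective R q
    obtain ⟨x, hx, hxy⟩ := honto y
    exact ⟨⟨x, hx⟩, (QuotientGroup.eq.2 hxy).symm⟩
  have hker' : ψ.ker = R1 := by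
    ext x
    rw [MonoidHom.mem_ker, mem_subgroupOf]
    exact ⟨fun e => hRX _ ((QuotientGroup.eq_one_iff _).1 e) x.2, fun e => (QuotientGroup.eq_one_iff _).2 (hLR e)⟩
  have hR1 : R1.map X1.subtype = L := by
    rw [subgroupOf_map_subtype, inf_eq_left.2 hLX]
  have hsqL : sqs L ≤ L.map (MonoidHom.id Y) := by rw [map_id]; exact sqs_le L
  have hT : Top R1 := by
    refine ⟨inferInstance, ?_, fun K hKn hle => ?_⟩
    · rw [← hker', index_ker, MonoidHom.range_eq_top.2 hψ, card_top, ← index_eq_card, hS.index]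
    · haveI : (K.map ψ).Normal := hKn.map ψ hψ
      have hK' : K = (K.map ψ).comap ψ := (comap_map_eq_self (hker' ▸ hle)).symm
      rcases hS.simp' ((K.map ψ).comap (QuotientGroup.mk' R)) inferInstance (fun r hr => by
        show QuotientGroup.mk' R r ∈ K.map ψ
        rw [show QuotientGroup.mk' R r = 1 from (QuotientGroup.eq_one_iff r).2 hr]; exact one_mem _) with e | e
      · left
        rw [hK', ← comap_comap, e]
        ext x
        exact ⟨fun hx => hRX _ hx x.2, fun hx => hLR hx⟩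
      · right
        rw [hK', ← comap_comap, e, comap_top]
  have hS1 : Setting R1 := by
    refine ⟨hT, SectRankFour.sectional_subgroup hS.rank X1, ?_, fun y hy => ?_⟩
    · exact (hS.two.to_le hLR).comap_of_injective _ X1.subtype_injective
    · rw [mem_subgroupOf]
      refine hRX _ (h.sec.mem_R fun a ha => ?_) y.2
      have h2 := mem_map_of_mem X1.subtype (hy ⟨a, hLX ha⟩ ha)
      rw [map_sqs, hR1] at h2
      have h2 : (y : Y) * a * (y : Y)⁻¹ * a⁻¹ ∈ sqs L := h2
      refine h.inv _ (sqs_le L h2) ?_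
      have hLsq : ∀ x ∈ sqs L, x ∈ L ∧ x * x = 1 := fun x hx => by
        induction hx using closure_induction with
        | mem x hx => obtain ⟨b, hb, rfl⟩ := hx; exact ⟨mul_mem hb hb, h.four b hb⟩
        | one => exact ⟨one_mem _, one_mul 1⟩
        | mul x z _ _ h1 h2 =>
          refine ⟨mul_mem h1.1 h2.1, ?_⟩
          rw [show x * z * (x * z) = x * (z * x) * z by group, h.comm z h2.1 x h1.1,
            show x * (x * z) * z = x * x * (z * z) by group, h1.2, h2.2, one_mul]
        | inv x _ h1 => exact ⟨inv_mem h1.1, by rw [← mul_inv_rev, h1.2, inv_one]⟩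
      exact (hLsq _ h2).2
  have hR1c : Nat.card R1 = 64 := by rw [Nat.card_congr (subgroupOfEquivOfLe hLX).toEquiv, hLc]
  refine not_good_of_big hR1c.ge (IH X1 R1 hS1 (by omega)) ?_
  refine ⟨⟨v, hLX hv⟩, hv, fun e => ?_⟩
  have := h.inv v hv (congrArg Subtype.val e)
  rw [hpv] at this
  exact absurd this (by decide)

/-- The case of a natural minimal subgroup over `(ℤ/2)⁴`. -/
theorem false_of_natural_sixteen (hS : Setting R)
    (IH : ∀ (Z : Type u) [Group Z] [Finite Z] (R' : Subgroup Z), Setting R' → Nat.card R' < Nat.card R → Good R')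
    (N : Subgroup Y) [N.Normal] (hNR : N ≤ R) (hN : Nat.card N = 8)
    {Fn : Frame R} {pn : Y → Vec (ZMod 2)} (hn : NatSec Fn N pn) (hnker : ∀ n ∈ N, pn n = 0 → n = 1)
    (hcN : ∀ n ∈ N, ∀ a ∈ R, n * a = a * n) (hN2 : ∀ n ∈ N, n * n = 1) (hP : sqs R = N)
    (hirr : ∀ K : Subgroup Y, K.Normal → K ≤ N → K = ⊥ ∨ K = N)
    (hnofix : ∀ n ∈ N, (∀ y, y * n * y⁻¹ = n) → n = 1)
    (hsqN : ∀ a ∈ R, a * a ∈ N) (hab : ∀ a ∈ R, ∀ b ∈ R, a * b * a⁻¹ * b⁻¹ ∈ N) (hc : Nat.card R = 128) : False := by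
  haveI := hS.normal
  have hcj : ∀ y, ∀ a ∈ R, y * a * y⁻¹ ∈ R := fun y a ha => Subgroup.Normal.conj_mem inferInstance a ha y
  have hcc : ∀ a ∈ R, ∀ b ∈ R, ∀ c ∈ R, a * b * a⁻¹ * b⁻¹ * c = c * (a * b * a⁻¹ * b⁻¹) :=
    fun a ha b hb c hc => hcN _ (hab a ha b hb) c hc
  have hcinv : ∀ a ∈ R, ∀ b ∈ R, (a * b * a⁻¹ * b⁻¹) * (a * b * a⁻¹ * b⁻¹) = 1 := fun a ha b hb => hN2 _ (hab a ha b hb)
  by_cases hcomm : ∀ a ∈ R, ∀ b ∈ R, a * b = b * a
  · -- abelian
    obtain ⟨hPsq, Om, hOm, hOmn, hOmc⟩ := exists_sqrt_subgroup hcomm ⊥ bot_le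
    haveI := hOmn inferInstance
    rw [card_bot, mul_one, hP, hN, hc] at hOmc
    have hOmR : Om ≤ R := fun a ha => ((hOm a).1 ha).1
    have hNO : N ≤ Om := fun n hn => (hOm n).2 ⟨hNR hn, mem_bot.2 (hN2 n hn)⟩
    have hO2 : ∀ a ∈ Om, a * a = 1 := fun a ha => mem_bot.1 ((hOm a).1 ha).2
    have hOdiff : ∀ y, y ^ 7 ∈ R → ∀ a ∈ Om, y * a * y⁻¹ * a⁻¹ ∈ N := fun y hy =>
      fix_small hNO (fun a ha => hab _ hy a (hOmR ha)) (by omega)
    obtain ⟨F, p, hp, hpk⟩ := exists_natsec hS R Om hOmR (fun a ha => hNO (hsqN a ha)) (by omega)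
      (fun r hr a ha => hNO (hab r hr a ha)) (fun y hy h => stab_mem hS hy Om hOmR h (hP ▸ hOdiff y hy))
    obtain ⟨c0, hc0, hc0N⟩ : ∃ c0 ∈ Om, c0 ∉ N := by
      by_contra h; push Not at h
      have := Nat.card_le_card_of_injective _ (inclusion_injective (show Om ≤ N from h))
      omega
    have hF : Four F R p := ⟨hS.normal, le_rfl, hcomm, fun a ha => hN2 _ (hsqN a ha), hp,
      fun a ha h => (hpk a ha).2 ((hOm a).2 ⟨ha, mem_bot.2 h⟩)⟩
    by_cases hmov : ∀ b ∈ R, ∃ y, y * (b * b * c0) * y⁻¹ ≠ b * b * c0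
    · refine false_of_moved hS.rank hS.toTop hF hcomm (hOmR hc0) (hO2 c0 hc0)
        (fun b hb e => hc0N (e ▸ hsqN b hb)) (fun a ha h => ?_) hmov (fun y hy => Or.inl ?_)
      · have haO := (hpk a ha).1 h
        by_cases haN : a ∈ N
        · obtain ⟨b, hb, e⟩ := hPsq a (hP ▸ haN)
          exact ⟨b, hb, Or.inl e⟩
        · have := two_cosets hNO (by omega) c0 hc0 hc0N a haO haN
          obtain ⟨b, hb, e⟩ := hPsq _ (hP ▸ this)
          exact ⟨b, hb, Or.inr (by
            rw [← e, hcomm _ (mul_mem (inv_mem (hOmR hc0)) ha) _ (hOmR hc0), mul_inv_cancel_left])⟩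
      · refine F.φ_eq_mid.1 ?_
        rw [pow_succ, pow_succ, pow_two, F.map_mul, F.map_mul, F.map_mul, hy]
        decide +kernel
    · push Not at hmov
      obtain ⟨b, hb, hfixc⟩ := hmov
      set c := b * b * c0 with hcdef
      have hcO : c ∈ Om := mul_mem (hNO (hsqN b hb)) hc0
      have hcN' : c ∉ N := fun h => hc0N (by
        have := mul_mem (inv_mem (hsqN b hb)) h
        rwa [hcdef, inv_mul_cancel_left] at this)
      haveI hK : (zpowers c).Normal := ⟨by rintro - ⟨i, rfl⟩ g; exact ⟨i, by rw [← conj_zpow, hfixc]⟩⟩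
      have hKO : zpowers c ≤ Om := zpowers_le.2 hcO
      have hKmem : ∀ x ∈ zpowers c, x = 1 ∨ x = c := fun x hx => by
        obtain ⟨i, rfl⟩ := hx
        rcases Int.even_or_odd' i with ⟨j, rfl | rfl⟩
        · left; show c ^ (2 * j) = 1; rw [zpow_mul, zpow_two, hO2 c hcO, one_zpow]
        · right; show c ^ (2 * j + 1) = c; rw [zpow_add, zpow_mul, zpow_two, hO2 c hcO, one_zpow, one_mul, zpow_one]
      have hS' := hS.quot' (zpowers c) (hKO.trans hOmR) fun y hy => hp.mem_R fun a ha => by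
        have hk : y * a * y⁻¹ * a⁻¹ ∈ Om := (sup_le (hP ▸ hNO) hKO) (hy a ha)
        exact (hpk _ (hOmR hk)).2 hk
      have hKc : Nat.card (zpowers c) = 2 := by
        haveI : Fact (Nat.Prime 2) := ⟨Nat.prime_two⟩
        rw [Nat.card_zpowers]
        exact orderOf_eq_prime (by rw [pow_two, hO2 c hcO]) (fun e => hcN' (e ▸ one_mem _))
      have hc' := card_map_mul (L := R) (hKO.trans hOmR)
      rw [hKc, hc] at hc'
      refine not_good_of_big (by omega) (IH _ _ hS' (by omega)) ?_
      obtain ⟨a, ha, hpa⟩ := hp.surj e0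
      refine ⟨_, mem_map_of_mem _ ha, fun e => ?_⟩
      rw [← map_mul] at e
      rcases hKmem _ ((QuotientGroup.eq_one_iff _).1 e) with h | h
      · rw [(hpk a ha).2 ((hOm a).2 ⟨ha, mem_bot.2 h⟩)] at hpa
        exact absurd hpa (by decide)
      · exact hcN' (h ▸ hsqN a ha)
  · -- non-abelian
    set π := QuotientGroup.mk' N
    have hπs := QuotientGroup.mk'_surjective N
    haveI hRn : (R.map π).Normal := Subgroup.Normal.map inferInstance π hπs
    have hel : ∀ x ∈ R.map π, x * x = 1 := by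
      rintro - ⟨a, ha, rfl⟩; rw [← map_mul]; exact (QuotientGroup.eq_one_iff _).2 (hsqN a ha)
    have h16 : Nat.card (R.map π) = 16 := by
      have : Nat.card (R.map π) * Nat.card N = Nat.card R := card_map_mul (L := R) hNR
      rw [hN, hc] at this
      omega
    have habel : ∀ p ∈ R.map π, ∀ q ∈ R.map π, p * q = q * p := by
      intro a ha b hb
      have e : ∀ x ∈ R.map π, x⁻¹ = x := fun x hx => inv_eq_of_mul_eq_one_right (hel x hx)
      have := e _ (mul_mem ha hb)
      rw [mul_inv_rev, e a ha, e b hb] at this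
      exact this.symm
    -- an invariant complement
    obtain ⟨U, hUn, hUle, hU8⟩ : ∃ U : Subgroup (Y ⧸ N), U.Normal ∧ U ≤ R.map π ∧ Nat.card U = 8 := by
      obtain ⟨C, hCn, hCle, hC⟩ := four_dim (hS.toTop.map π hπs (by rw [QuotientGroup.ker_mk']; exact hNR)) (R.map π) hel h16 habel
      rcases hC with hC2 | hC8
      swap
      · exact ⟨C, hCn, hCle, hC8⟩
      haveI := hCn
      set M := C.comap π
      have hNM : N ≤ M := fun n hn => by
        show π n ∈ C
        rw [show π n = 1 from (QuotientGroup.eq_one_iff n).2 hn]; exact one_mem _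
      have hMR : M ≤ R := fun a ha => by
        obtain ⟨b, hb, e⟩ := hCle ha
        have := (QuotientGroup.eq).1 e
        have h := mul_mem hb (hNR this)
        rwa [mul_inv_cancel_left] at h
      have hMc : Nat.card M = 16 := by
        rw [← card_map_mul hNM, hN, map_comap_eq_self_of_surjective hπs, hC2]
      obtain ⟨c, hcM, hcN'⟩ : ∃ c ∈ M, c ∉ N := by
        by_contra h; push Not at h
        have := Nat.card_le_card_of_injective _ (inclusion_injective (show M ≤ N from h))
        omega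
      have hcR := hMR hcM
      have hcy : ∀ y, c⁻¹ * (y * c * y⁻¹) ∈ N := fun y =>
        two_cosets hNM (by omega) c hcM hcN' _ (Subgroup.Normal.conj_mem inferInstance c hcM y) fun h => hcN' (by
          have := Subgroup.Normal.conj_mem (inferInstance : N.Normal) _ h y⁻¹
          rwa [show y⁻¹ * (y * c * y⁻¹) * y⁻¹⁻¹ = c by group] at this)
      have hMdec : ∀ a ∈ M, a ∈ N ∨ c⁻¹ * a ∈ N := fun a ha => by
        by_cases h : a ∈ N
        · exact Or.inl h
        · exact Or.inr (two_cosets hNM (by omega) c hcM hcN' a ha h)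
      have hc2 : c * c = 1 := by
        refine hnofix _ (hsqN c hcR) fun y => ?_
        set m := c⁻¹ * (y * c * y⁻¹)
        have hm := hcy y
        calc y * (c * c) * y⁻¹ = c * m * (c * m) := by simp only [m]; group
          _ = c * (m * c) * m := by group
          _ = c * c * (m * m) := by rw [hcN m hm c hcR]; group
          _ = c * c := by rw [hN2 m hm, mul_one]
      have hM2 : ∀ a ∈ M, a * a = 1 := fun a ha => by
        rcases hMdec a ha with h | h
        · exact hN2 a h
        · set m := c⁻¹ * a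
          calc a * a = c * m * (c * m) := by simp only [m]; group
            _ = c * (m * c) * m := by group
            _ = c * c * (m * m) := by rw [hcN m h c hcR]; group
            _ = 1 := by rw [hc2, hN2 m h, one_mul]
      by_cases hccen : ∀ a ∈ R, c * a = a * c
      · -- `c` central forces commutativity
        exfalso
        obtain ⟨F, p, hp, hpk⟩ := exists_natsec hS R M hMR (fun a ha => hNM (hsqN a ha)) (by omega)
          (fun r hr a ha => hNM (hab r hr a ha))
          (fun y hy h => stab_mem hS hy M hMR h (by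
            rw [hP]; exact fix_small hNM (fun a ha => hab _ hy a (hMR ha)) (by omega)))
        have hMcen : ∀ k ∈ M, ∀ b ∈ R, k * b = b * k := fun k hk b hb => by
          rcases hMdec k hk with h | h
          · exact hcN k h b hb
          · calc k * b = c * ((c⁻¹ * k) * b) := by group
              _ = c * b * (c⁻¹ * k) := by rw [hcN _ h b hb]; group
              _ = b * k := by rw [hccen b hb]; group
        rcases line hp hn hnker hsqN hN2 hcc hcinv
            (fun a ha h => ⟨hM2 a ((hpk a ha).1 h), fun b hb => hMcen a ((hpk a ha).1 h) b hb⟩) with h | ⟨h, -, -⟩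
        · refine hcomm fun a ha b hb => ?_
          have e : ∀ x ∈ R, x⁻¹ = x := fun x hx => inv_eq_of_mul_eq_one_right (h x hx)
          have := e _ (mul_mem ha hb)
          rw [mul_inv_rev, e a ha, e b hb] at this
          exact this.symm
        · exact hcomm h
      -- commutation with `c` gives the natural coordinates
      let ξ : R →* Y := MonoidHom.mk' (fun a => c * a * c⁻¹ * (a : Y)⁻¹)
        (fun a b => comm_mul_right hcN hab hcR a.2 b.2)
      have hξN : ∀ a, ξ a ∈ N := fun a => hab c hcR a a.2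
      have hξconj : ∀ y, ∀ x ∈ R, y * (c * x * c⁻¹ * x⁻¹) * y⁻¹ = c * (y * x * y⁻¹) * c⁻¹ * (y * x * y⁻¹)⁻¹ :=
        fun y x hx => by
          set m := c⁻¹ * (y * c * y⁻¹)
          calc y * (c * x * c⁻¹ * x⁻¹) * y⁻¹
              = c * (m * (y * x * y⁻¹) * m⁻¹) * c⁻¹ * (y * x * y⁻¹)⁻¹ := by simp only [m]; group
            _ = _ := by rw [hcN m (hcy y) _ (hcj y x hx)]; group
      haveI hξn : ξ.range.Normal := ⟨by
        rintro - ⟨a, rfl⟩ y
        exact ⟨⟨y * a * y⁻¹, hcj y a a.2⟩, (hξconj y a a.2).symm⟩⟩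
      have hrange : ξ.range = N := (hirr _ hξn (by rintro - ⟨a, rfl⟩; exact hξN a)).resolve_left fun e => hccen fun a ha => by
        have h : c * a * c⁻¹ * a⁻¹ = 1 := mem_bot.1 (e ▸ (⟨⟨a, ha⟩, rfl⟩ : ξ ⟨a, ha⟩ ∈ ξ.range))
        rw [mul_inv_eq_one, mul_inv_eq_iff_eq_mul] at h
        exact h
      have hMker : M.subgroupOf R = ξ.ker := by
        refine eq_of_le_of_card_ge (fun a ha => ?_) ?_
        · rw [MonoidHom.mem_ker]
          show c * a * c⁻¹ * (a : Y)⁻¹ = 1
          have hca : c * (a : Y) = a * c := by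
            rcases hMdec _ ha with h | h
            · exact (hcN _ h c hcR).symm
            · have hh : c⁻¹ * (a : Y) * c = c * (c⁻¹ * a) := hcN _ h c hcR
              calc c * (a : Y) = c * c * (c⁻¹ * a) := by group
                _ = c * ((c⁻¹ * a) * c) := by rw [hh]; group
                _ = a * c := by group
          rw [hca]; group
        · rw [Nat.card_congr (subgroupOfEquivOfLe hMR).toEquiv, hMc]
          have h := card_mul_index ξ.ker
          rw [index_ker, hrange, hN, hc] at h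
          omega
      set p : Y → Vec (ZMod 2) := fun x => pn (c * x * c⁻¹ * x⁻¹) with hpdef
      have hp : NatSec Fn R p := by
        refine ⟨fun a ha b hb => ?_, fun v => ?_, fun y a ha => ?_⟩
        · show pn _ = pn _ + pn _
          rw [comm_mul_right hcN hab hcR ha hb, hn.mul _ (hab c hcR a ha) _ (hab c hcR b hb)]
        · obtain ⟨n, hn', e⟩ := hn.surj v
          obtain ⟨a, rfl⟩ : n ∈ ξ.range := hrange ▸ hn'
          exact ⟨a, a.2, e⟩
        · show pn _ = mv _ (pn _)
          rw [← hξconj y a ha, hn.conj y _ (hab c hcR a ha)]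
      have hpk : ∀ a ∈ R, p a = 0 → a ∈ M := fun a ha h => by
        have : (⟨a, ha⟩ : R) ∈ ξ.ker := hnker _ (hab c hcR a ha) h
        rw [← hMker] at this; exact this
      have hsqc : ∀ x ∈ R, x * c * (x * c) = c * x * c⁻¹ * x⁻¹ * (x * x) := fun x hx => by
        calc x * c * (x * c) = x * (c * x * c⁻¹ * x⁻¹) * x * (c * c) := by group
          _ = c * x * c⁻¹ * x⁻¹ * x * x * (c * c) := by rw [hcN _ (hab c hcR x hx) x hx]
          _ = _ := by rw [hc2]; group
      have hsqM : ∀ x ∈ R, ∀ x' ∈ R, p x = p x' → x⁻¹ * x' ∈ N ∧ x' * x' = x * x ∨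
          x' * x' = c * x * c⁻¹ * x⁻¹ * (x * x) := by
        intro x hx x' hx' e
        have hk := hp.ker_mem hpk hx hx' e
        rcases hMdec _ hk with h | h
        · refine Or.inl ⟨h, ?_⟩
          set m := x⁻¹ * x'
          calc x' * x' = x * (m * x) * m := by simp only [m]; group
            _ = x * x * (m * m) := by rw [hcN m h x hx]; group
            _ = x * x := by rw [hN2 m h, mul_one]
        · right
          set m := c⁻¹ * (x⁻¹ * x')
          rw [← hsqc x hx]
          calc x' * x' = x * c * (m * (x * c)) * m := by simp only [m]; group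
            _ = x * c * (x * c) * (m * m) := by rw [hcN m h _ (mul_mem hx hcR)]; group
            _ = x * c * (x * c) := by rw [hN2 m h, mul_one]
      have huniq : ∀ x ∈ R, ∀ x' ∈ R, p x = p x' → p x ≠ 0 → x * x = 1 → x' * x' = 1 → x⁻¹ * x' ∈ N := by
        intro x hx x' hx' e h0 hx2 hx2'
        rcases hsqM x hx x' hx' e with h | h
        · exact h.1
        · exfalso
          rw [hx2, hx2', mul_one] at h
          exact h0 (show pn _ = 0 by rw [← h]; exact hn.map_one)
      have hlift : ∀ v, v ≠ 0 → ∃ x ∈ R, p x = v ∧ x * x = 1 := by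
        intro v hv
        obtain ⟨x0, hx0, hpx0, hx02⟩ : ∃ x ∈ R, p x = e0 ∧ x * x = 1 := by
          obtain ⟨x, hx, hpx⟩ := hp.surj e0
          obtain ⟨y, hy⟩ := Fn.surj (wd sig tau wX) (by decide +kernel)
          have e := hn.conj y (x * x) (hsqN x hx)
          rw [show y * (x * x) * y⁻¹ = y * x * y⁻¹ * (y * x * y⁻¹) by group] at e
          have hpy : p x = p (y * x * y⁻¹) := by rw [hp.conj y x hx, hy, hpx]; exact (frame_facts.2.2.2.2.2.2.2.2.2.2.1).symm
          have ha : mv (wd sig tau wX) (pn (x * x)) = pn (x * x) ∨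
              mv (wd sig tau wX) (pn (x * x)) = pn (x * x) + e0 := by
            rcases hsqM x hx _ (hcj y x hx) hpy with h | h
            · left; rw [h.2, hy] at e; exact e.symm
            · right
              rw [h, hn.mul _ (hab c hcR x hx) _ (hsqN x hx), show pn (c * x * c⁻¹ * x⁻¹) = e0 from hpx, hy] at e
              rw [← e, add_comm]
          rcases fix_e0 _ ha with h | h
          · exact ⟨x, hx, hpx, hnker _ (hsqN x hx) h⟩
          · refine ⟨x * c, mul_mem hx hcR, ?_, hnker _ (hsqN _ (mul_mem hx hcR)) ?_⟩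
            · rw [hp.mul x hx c hcR, hpx, show p c = 0 from by
                show pn (c * c * c⁻¹ * c⁻¹) = 0
                rw [mul_inv_cancel_right, mul_inv_cancel]; exact hn.map_one, add_zero]
            · rw [hsqc x hx, hn.mul _ (hab c hcR x hx) _ (hsqN x hx), h, show pn (c * x * c⁻¹ * x⁻¹) = e0 from hpx]
              exact basis_facts.2 _
        obtain ⟨M', hM', hMv⟩ := trans_vec v hv
        obtain ⟨y, hy⟩ := Fn.surj M' hM'
        refine ⟨y * x0 * y⁻¹, hcj y x0 hx0, by rw [hp.conj y x0 hx0, hy, hpx0, hMv], ?_⟩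
        rw [show y * x0 * y⁻¹ * (y * x0 * y⁻¹) = y * (x0 * x0) * y⁻¹ by group, hx02]; group
      obtain ⟨z0, hz0, hpz0, hz02⟩ := hlift e0 (by decide)
      obtain ⟨s, hs⟩ := Fn.exists_sigma
      obtain ⟨t, ht⟩ := Fn.exists_tau
      have hconjz : ∀ y, ∀ z ∈ R, z * z = 1 → y * z * y⁻¹ * (y * z * y⁻¹) = 1 := fun y z hz h => by
        rw [show y * z * y⁻¹ * (y * z * y⁻¹) = y * (z * z) * y⁻¹ by group, h]; group
      set z1 := s * z0 * s⁻¹ with hz1d
      set z2 := s * z1 * s⁻¹ with hz2d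
      set z3 := s * z2 * s⁻¹ with hz3d
      have hz1 : z1 ∈ R := hcj s z0 hz0
      have hz2 : z2 ∈ R := hcj s z1 hz1
      have hz3 : z3 ∈ R := hcj s z2 hz2
      have hpz1 : p z1 = (0, 1, 0) := by rw [hz1d, hp.conj s z0 hz0, hs, hpz0]; decide
      have hpz2 : p z2 = (0, 0, 1) := by rw [hz2d, hp.conj s z1 hz1, hs, hpz1]; decide
      have hpz3 : p z3 = (1, 1, 0) := by rw [hz3d, hp.conj s z2 hz2, hs, hpz2]; decide
      have hz12 : z1 * z1 = 1 := hconjz s z0 hz0 hz02
      have hz22 : z2 * z2 = 1 := hconjz s z1 hz1 hz12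
      have hz32 : z3 * z3 = 1 := hconjz s z2 hz2 hz22
      set d := π ((z0 * z1)⁻¹ * z3) with hdd
      have hdM : (z0 * z1)⁻¹ * z3 ∈ M := hp.ker_mem hpk (mul_mem hz0 hz1) hz3 (by
        rw [hp.mul _ hz0 _ hz1, hpz0, hpz1, hpz3]; decide)
      have hdfix : ∀ y, π y * d * (π y)⁻¹ = d := fun y => by
        rw [hdd, ← map_inv, ← map_mul, ← map_mul]
        refine (QuotientGroup.eq.2 ?_).symm
        set m := (z0 * z1)⁻¹ * z3
        rcases hMdec m hdM with h | h
        · exact mul_mem (inv_mem h) (Subgroup.Normal.conj_mem inferInstance m h y)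
        · set k := c⁻¹ * m
          have e : m⁻¹ * (y * m * y⁻¹) = k⁻¹ * (c⁻¹ * (y * c * y⁻¹)) * (y * k * y⁻¹) := by simp only [k]; group
          rw [e]
          exact mul_mem (mul_mem (inv_mem h) (hcy y)) (Subgroup.Normal.conj_mem inferInstance k h y)
      have hdR : d ∈ R.map π := mem_map_of_mem π (hMR hdM)
      set a : Y → Y ⧸ N := fun z => π z * d
      have ha : ∀ y z, π y * a z * (π y)⁻¹ = a (y * z * y⁻¹) := fun y z => by
        show π y * (π z * d) * (π y)⁻¹ = π (y * z * y⁻¹) * d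
        conv_rhs => rw [← hdfix y, map_mul, map_mul, map_inv]
        group
      have hzeq : ∀ x ∈ R, ∀ x' ∈ R, p x = p x' → p x ≠ 0 → x * x = 1 → x' * x' = 1 → a x = a x' :=
        fun x hx x' hx' e h0 h1 h2 => by
          show π x * d = π x' * d
          rw [show π x = π x' from QuotientGroup.eq.2 (huniq x hx x' hx' e h0 h1 h2)]
      have ha3 : a z3 = a z0 * a z1 := by
        have e3 : π z3 = π z0 * π z1 * d := by rw [hdd, ← map_mul, ← map_mul]; congr 1; group
        show π z3 * d = π z0 * d * (π z1 * d)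
        rw [e3, habel _ (mem_map_of_mem π hz1) d hdR]
        calc π z0 * π z1 * d * d = π z0 * π z1 * (d * d) := by group
          _ = π z0 * (d * d) * π z1 := by rw [hel d hdR]; group
          _ = π z0 * d * (d * π z1) := by group
      have ham : ∀ z ∈ R, a z ∈ R.map π := fun z hz => mul_mem (mem_map_of_mem π hz) hdR
      set U := closure ({a z0, a z1, a z2} : Set (Y ⧸ N))
      have hUle : U ≤ R.map π := (closure_le _).2 (by
        rintro - (rfl | rfl | rfl) <;> [exact ham _ hz0; exact ham _ hz1; exact ham _ hz2])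
      have hg0 : a z0 ∈ U := subset_closure (Or.inl rfl)
      have hg1 : a z1 ∈ U := subset_closure (Or.inr (Or.inl rfl))
      have hg2 : a z2 ∈ U := subset_closure (Or.inr (Or.inr rfl))
      have hstep : ∀ y, π y * a z0 * (π y)⁻¹ ∈ U → π y * a z1 * (π y)⁻¹ ∈ U → π y * a z2 * (π y)⁻¹ ∈ U →
          ∀ u ∈ U, π y * u * (π y)⁻¹ ∈ U := fun y h0 h1 h2 u hu => by
        induction hu using closure_induction with
        | mem x hx => rcases hx with rfl | rfl | rfl <;> assumption
        | one => simp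
        | mul x x' _ _ e1 e2 =>
          rw [show π y * (x * x') * (π y)⁻¹ = π y * x * (π y)⁻¹ * (π y * x' * (π y)⁻¹) by group]
          exact mul_mem e1 e2
        | inv x _ e1 =>
          rw [show π y * x⁻¹ * (π y)⁻¹ = (π y * x * (π y)⁻¹)⁻¹ by group]; exact inv_mem e1
      have hUy : ∀ y, ∀ u ∈ U, π y * u * (π y)⁻¹ ∈ U := by
        refine Fn.gen_induction hS.toTop hs ht (P := fun y => ∀ u ∈ U, π y * u * (π y)⁻¹ ∈ U)
          (fun r hr u hu => ?_) (hstep s ?_ ?_ ?_) (hstep t ?_ ?_ ?_) (fun x y hx hy u hu => ?_)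
        · rwa [habel _ (mem_map_of_mem π hr) u (hUle hu), mul_inv_cancel_right]
        · rw [ha]; exact hg1
        · rw [ha]; exact hg2
        · rw [ha, ← hz3d, ha3]; exact mul_mem hg0 hg1
        · rw [ha, hzeq _ (hcj t z0 hz0) z0 hz0 (by rw [hp.conj t z0 hz0, ht, hpz0]; decide)
            (by rw [hp.conj t z0 hz0, ht, hpz0]; decide) (hconjz t z0 hz0 hz02) hz02]
          exact hg0
        · rw [ha, hzeq _ (hcj t z1 hz1) z3 hz3 (by rw [hp.conj t z1 hz1, ht, hpz1, hpz3]; decide)
            (by rw [hp.conj t z1 hz1, ht, hpz1]; decide) (hconjz t z1 hz1 hz12) hz32, ha3]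
          exact mul_mem hg0 hg1
        · rw [ha, hzeq _ (hcj t z2 hz2) z2 hz2 (by rw [hp.conj t z2 hz2, ht, hpz2]; decide)
            (by rw [hp.conj t z2 hz2, ht, hpz2]; decide) (hconjz t z2 hz2 hz22) hz22]
          exact hg2
        · rw [map_mul, show π x * π y * u * (π x * π y)⁻¹ = π x * (π y * u * (π y)⁻¹) * (π x)⁻¹ by group]
          exact hx _ (hy u hu)
      refine ⟨U, ⟨fun u hu g => ?_⟩, hUle, ?_⟩
      · obtain ⟨g, rfl⟩ := hπs g; exact hUy g u hu
      · -- its order
        have hdiv : Nat.card U ∣ 16 := h16 ▸ card_dvd_of_le hUle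
        have hle : Nat.card U ≤ 8 := by
          let g : ZMod 2 × ZMod 2 × ZMod 2 → Y ⧸ N := fun v => a z0 ^ v.1.val * a z1 ^ v.2.1.val * a z2 ^ v.2.2.val
          have hcl : ∀ u ∈ U, u ∈ Set.range g := by
            have hA : ∀ z ∈ R, ∀ z' ∈ R, ∀ i j : ℕ, a z ^ i * a z' ^ j = a z' ^ j * a z ^ i := fun z hz z' hz' i j =>
              habel _ (pow_mem (ham z hz) i) _ (pow_mem (ham z' hz') j)
            have hadd : ∀ z ∈ R, ∀ i j : ZMod 2, a z ^ (i + j).val = a z ^ i.val * a z ^ j.val := fun z hz i j => by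
              rcases zmod_two_cases i with rfl | rfl <;> rcases zmod_two_cases j with rfl | rfl <;>
                simp [show ((1 : ZMod 2) + 1) = 0 by decide, hel _ (ham z hz), ZMod.val_one]
            intro u hu
            induction hu using closure_induction with
            | mem x hx =>
              rcases hx with rfl | rfl | rfl
              · exact ⟨(1, 0, 0), by simp [g, ZMod.val_one]⟩
              · exact ⟨(0, 1, 0), by simp [g, ZMod.val_one]⟩
              · exact ⟨(0, 0, 1), by simp [g, ZMod.val_one]⟩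
            | one => exact ⟨0, by simp [g]⟩
            | mul x x' _ _ e1 e2 =>
              obtain ⟨v, rfl⟩ := e1; obtain ⟨v', rfl⟩ := e2
              refine ⟨v + v', ?_⟩
              show a z0 ^ (v.1 + v'.1).val * a z1 ^ (v.2.1 + v'.2.1).val * a z2 ^ (v.2.2 + v'.2.2).val = _
              rw [hadd z0 hz0, hadd z1 hz1, hadd z2 hz2]
              calc a z0 ^ v.1.val * a z0 ^ v'.1.val * (a z1 ^ v.2.1.val * a z1 ^ v'.2.1.val) *
                    (a z2 ^ v.2.2.val * a z2 ^ v'.2.2.val)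
                  = a z0 ^ v.1.val * (a z0 ^ v'.1.val * a z1 ^ v.2.1.val) * a z1 ^ v'.2.1.val * a z2 ^ v.2.2.val *
                      a z2 ^ v'.2.2.val := by group
                _ = a z0 ^ v.1.val * a z1 ^ v.2.1.val * a z0 ^ v'.1.val * (a z1 ^ v'.2.1.val * a z2 ^ v.2.2.val) *
                      a z2 ^ v'.2.2.val := by rw [hA z0 hz0 z1 hz1]; group
                _ = a z0 ^ v.1.val * a z1 ^ v.2.1.val * (a z0 ^ v'.1.val * a z2 ^ v.2.2.val) * a z1 ^ v'.2.1.val *
                      a z2 ^ v'.2.2.val := by rw [hA z1 hz1 z2 hz2]; group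
                _ = g v * g v' := by rw [hA z0 hz0 z2 hz2]; simp only [g]; group
            | inv x hx' e1 =>
              rwa [inv_eq_of_mul_eq_one_right (hel x (hUle hx'))]
          have := Nat.card_le_card_of_surjective (fun v => (⟨g v, by
            exact mul_mem (mul_mem (pow_mem hg0 _) (pow_mem hg1 _)) (pow_mem hg2 _)⟩ : U))
            (fun u => (hcl u u.2).imp fun v e => Subtype.ext e)
          rwa [Nat.card_eq_fintype_card (α := ZMod 2 × ZMod 2 × ZMod 2)] at this
        -- three independent vectors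
        refine le_antisymm hle ?_
        obtain ⟨mM, hmM, hdm⟩ : ∃ m ∈ M, d = π m := ⟨_, hdM, rfl⟩
        have hpm : p mM = 0 := by
          have : (⟨mM, hMR hmM⟩ : R) ∈ ξ.ker := hMker ▸ hmM
          show pn _ = 0
          rw [show c * mM * c⁻¹ * mM⁻¹ = 1 from this]; exact hn.map_one
        have hpa : ∀ v : Vec (ZMod 2), ∃ u ∈ U, ∃ x ∈ R, π x = u ∧ p x = v := by
          rintro ⟨i, j, l⟩
          have hb : ∀ z ∈ R, z * mM ∈ R ∧ π (z * mM) = a z ∧ p (z * mM) = p z := fun z hz =>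
            ⟨mul_mem hz (hMR hmM), by rw [map_mul, ← hdm], by rw [hp.mul z hz _ (hMR hmM), hpm, add_zero]⟩
          obtain ⟨r0, e0', q0⟩ := hb z0 hz0
          obtain ⟨r1, e1', q1⟩ := hb z1 hz1
          obtain ⟨r2, e2', q2⟩ := hb z2 hz2
          refine ⟨_, mul_mem (mul_mem (pow_mem hg0 i.val) (pow_mem hg1 j.val)) (pow_mem hg2 l.val), _,
            mul_mem (mul_mem (pow_mem r0 i.val) (pow_mem r1 j.val)) (pow_mem r2 l.val), ?_, ?_⟩
          · rw [map_mul, map_mul, map_pow, map_pow, map_pow, e0', e1', e2']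
          · rw [hp.mul _ (mul_mem (pow_mem r0 _) (pow_mem r1 _)) _ (pow_mem r2 _),
              hp.mul _ (pow_mem r0 _) _ (pow_mem r1 _)]
            rcases zmod_two_cases i with rfl | rfl <;> rcases zmod_two_cases j with rfl | rfl <;>
              rcases zmod_two_cases l with rfl | rfl <;>
              simp [hp.map_one, q0, q1, q2, hpz0, hpz1, hpz2, ZMod.val_one, e0, Prod.ext_iff]
        choose u hu x hx hxu hpx using hpa
        have hinj : Function.Injective fun v => (⟨u v, hu v⟩ : U) := fun v v' e => by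
          have e : π (x v) = π (x v') := by rw [hxu, hxu]; exact congrArg Subtype.val e
          have hk : (x v)⁻¹ * x v' ∈ N := QuotientGroup.eq.1 e
          have hp0 : p ((x v)⁻¹ * x v') = 0 := by
            show pn _ = 0
            rw [← hcN _ hk c hcR, mul_inv_cancel_right, mul_inv_cancel]; exact hn.map_one
          rw [hp.mul _ (inv_mem (hx v)) _ (hx v'), mul_add_pair hp (hx v), hpx, hpx] at hp0
          have hh : ∀ q q' : Vec (ZMod 2), q + q' = 0 → q = q' := by decide +kernel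
          exact hh _ _ hp0
        have := Nat.card_le_card_of_injective _ hinj
        rwa [Nat.card_eq_fintype_card (α := Vec (ZMod 2))] at this
    haveI := hUn
    set L := U.comap π
    have hNL : N ≤ L := fun n hn => by
      show π n ∈ U
      rw [show π n = 1 from (QuotientGroup.eq_one_iff n).2 hn]; exact one_mem _
    have hLR : L ≤ R := fun a ha => by
      obtain ⟨b, hb, e⟩ := hUle ha
      have := (QuotientGroup.eq).1 e
      have h := mul_mem hb (hNR this)
      rwa [mul_inv_cancel_left] at h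
    have hLc : Nat.card L = 64 := by
      rw [← card_map_mul hNL, hN, map_comap_eq_self_of_surjective hπs, hU8]
    obtain ⟨F, p, hp, hpk⟩ := exists_natsec hS L N hNL (fun a ha => hsqN a (hLR ha)) (by omega)
      (fun r hr a ha => hab r hr a (hLR ha))
      (fun y hy h => stab_mem hS hy L hLR (fix_small hLR (fun a ha => hNL (hab _ hy a ha)) (by omega)) (hP ▸ h))
    rcases line hp hn hnker (fun a ha => hsqN a (hLR ha)) hN2 (fun a ha b hb c hc => hcc a (hLR ha) b (hLR hb) c (hLR hc))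
        (fun a ha b hb => hcinv a (hLR ha) b (hLR hb))
        (fun a ha h => ⟨hN2 a ((hpk a ha).1 h), fun b hb => hcN a ((hpk a ha).1 h) b (hLR hb)⟩) with h | ⟨hLcomm, hinv, hsur⟩
    · have := card_le_of_elementary hS L h
      omega
    obtain ⟨w, hw, hw'⟩ : ∃ w ∈ R, w ∉ L := by
      by_contra h; push Not at h
      have := Nat.card_le_card_of_injective _ (inclusion_injective (show R ≤ L from h))
      omega
    have hF : Four F L p := ⟨inferInstance, hLR, hLcomm, fun a ha => hN2 _ (hsqN a (hLR ha)), hp, hinv⟩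
    rcases inverts_or_central hp hLcomm hinv (fun x hx h => hN2 x ((hpk x hx).1 h))
        (fun x hx h => (hcN x ((hpk x hx).1 h) w hw).symm)
        (fun x hx => (hsur _ (hab w hw x (hLR hx))).imp fun u hu => ⟨hu.1, hu.2.symm⟩)
        (fun y => ⟨w⁻¹ * (y * w * y⁻¹), two_cosets hLR (by omega) w hw hw' _ (hcj y w hw) (fun h => hw' (by
          have := Subgroup.Normal.conj_mem (inferInstance : L.Normal) _ h y⁻¹
          rwa [show y⁻¹ * (y * w * y⁻¹) * y⁻¹⁻¹ = w by group] at this)), by group⟩) with h | h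
    · refine hcomm (comm_of_index hLR (by omega) hLcomm hw hw' fun x hx => ?_)
      have := h x hx
      rw [mul_inv_eq_one, mul_inv_eq_iff_eq_mul] at this
      exact this
    · exact false_of_inverted hS IH hF hLR (by omega) hLc hw hw' h

/-- The case of a natural minimal subgroup over `ℤ/4 × (ℤ/2)³`. -/
theorem false_of_natural_thirtytwo (hS : Setting R)
    (IH : ∀ (Z : Type u) [Group Z] [Finite Z] (R' : Subgroup Z), Setting R' → Nat.card R' < Nat.card R → Good R')
    (N : Subgroup Y) [N.Normal] (hNP : N ≤ sqs R) (hN : Nat.card N = 8)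
    {Fn : Frame R} {pn : Y → Vec (ZMod 2)} (hn : NatSec Fn N pn) (hnker : ∀ n ∈ N, pn n = 0 → n = 1)
    (hcN : ∀ n ∈ N, ∀ a ∈ R, n * a = a * n) (hN2 : ∀ n ∈ N, n * n = 1)
    (hnofix : ∀ n ∈ N, (∀ y, y * n * y⁻¹ = n) → n = 1)
    (habel : ∀ p ∈ R.map (QuotientGroup.mk' N), ∀ q ∈ R.map (QuotientGroup.mk' N), p * q = q * p)
    (hc32 : Nat.card (R.map (QuotientGroup.mk' N)) = 32)
    (hP2 : Nat.card (sqs (R.map (QuotientGroup.mk' N))) = 2) : False := by
  haveI := hS.normal
  haveI : (sqs R).Normal := sqs_normal R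
  have hNR : N ≤ R := hNP.trans (sqs_le R)
  set π := QuotientGroup.mk' N
  haveI hRn : (R.map π).Normal := Subgroup.Normal.map inferInstance π (QuotientGroup.mk'_surjective N)
  have hcardR := card_map_mul (L := R) hNR
  rw [hc32, hN] at hcardR
  have hab : ∀ a ∈ R, ∀ b ∈ R, a * b * a⁻¹ * b⁻¹ ∈ N := fun a ha b hb => by
    refine (QuotientGroup.eq_one_iff _).1 ?_
    show π (a * b * a⁻¹ * b⁻¹) = 1
    rw [map_mul, map_mul, map_mul, habel _ (mem_map_of_mem π ha) _ (mem_map_of_mem π hb), map_inv, map_inv]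
    group
  have hcen := sqs_central hcN hab hN2
  have hcj : ∀ y, ∀ a ∈ R, y * a * y⁻¹ ∈ R := fun y a ha => Subgroup.Normal.conj_mem inferInstance a ha y
  obtain ⟨-, Lb, hLb, hLbn, hLbc⟩ := exists_sqrt_subgroup (R := R.map π) habel ⊥ bot_le
  haveI := hLbn inferInstance
  rw [card_bot, mul_one, hc32, hP2] at hLbc
  have hPc : Nat.card (sqs R) = 16 := by
    have := card_map_mul (L := sqs R) hNP
    rw [map_sqs, hP2, hN] at this
    omega
  set L := Lb.comap π
  have hLmem : ∀ a ∈ R, a * a ∈ N → a ∈ L := fun a ha h => (hLb _).2 ⟨mem_map_of_mem π ha, by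
    rw [mem_bot, ← map_mul]; exact (QuotientGroup.eq_one_iff _).2 h⟩
  have hLsq : ∀ a ∈ L, a * a ∈ N := fun a ha => (QuotientGroup.eq_one_iff _).1 (by
    show π (a * a) = 1; rw [map_mul]; exact mem_bot.1 ((hLb _).1 ha).2)
  have hNL : N ≤ L := fun n hn => hLmem n (hNR hn) (by rw [hN2 n hn]; exact one_mem _)
  have hLR : L ≤ R := fun a ha => by
    obtain ⟨b, hb, e⟩ := ((hLb _).1 ha).1
    have := (QuotientGroup.eq).1 e
    have h := mul_mem hb (hNR this)
    rwa [mul_inv_cancel_left] at h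
  have hLc : Nat.card L = 128 := by
    rw [← card_map_mul hNL, hN, map_comap_eq_self_of_surjective (QuotientGroup.mk'_surjective N)]
    omega
  obtain ⟨w, hw, hw'⟩ : ∃ w ∈ R, w ∉ L := by
    by_contra h; push Not at h
    have := Nat.card_le_card_of_injective _ (inclusion_injective (show R ≤ L from h))
    omega
  set z := w * w with hzd
  have hzP : z ∈ sqs R := mem_sqs hw
  have hzR : z ∈ R := sqs_le R hzP
  have hzN : z ∉ N := fun h => hw' (hLmem w hw h)
  have hzsq : z * z ∈ N := by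
    refine (QuotientGroup.eq_one_iff _).1 ?_
    show π (z * z) = 1
    rw [map_mul]
    have hx' : π z ∈ sqs (R.map π) := map_sqs π R ▸ mem_map_of_mem π hzP
    have := pow_card_eq_one' (G := sqs (R.map π)) (x := ⟨π z, hx'⟩)
    rw [hP2, pow_two] at this
    exact congrArg Subtype.val this
  have hzy : ∀ y, z⁻¹ * (y * z * y⁻¹) ∈ N := fun y =>
    two_cosets hNP (by omega) z hzP hzN _ (Subgroup.Normal.conj_mem inferInstance z hzP y) fun h => hzN (by
      have := Subgroup.Normal.conj_mem (inferInstance : N.Normal) _ h y⁻¹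
      rwa [show y⁻¹ * (y * z * y⁻¹) * y⁻¹⁻¹ = z by group] at this)
  have hz2 : z * z = 1 := by
    refine hnofix _ hzsq fun y => ?_
    set m := z⁻¹ * (y * z * y⁻¹)
    have hm := hzy y
    calc y * (z * z) * y⁻¹ = z * (m * z) * m := by simp only [m]; group
      _ = z * z * (m * m) := by rw [hcN m hm z hzR]; group
      _ = z * z := by rw [hN2 m hm, mul_one]
  have hP2' : ∀ x ∈ sqs R, x * x = 1 := fun x hx => by
    by_cases h : x ∈ N
    · exact hN2 x h
    · have hm := two_cosets hNP (by omega) z hzP hzN x hx h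
      set m := z⁻¹ * x
      calc x * x = z * (m * z) * m := by simp only [m]; group
        _ = z * z * (m * m) := by rw [hcN m hm z hzR]; group
        _ = 1 := by rw [hz2, hN2 m hm, one_mul]
  have hPL : sqs R ≤ L := fun x hx => hLmem x (sqs_le R hx) (by rw [hP2' x hx]; exact one_mem _)
  obtain ⟨F, p, hp, hpk⟩ := exists_natsec hS L (sqs R) hPL (fun a ha => mem_sqs (hLR ha)) (by omega)
    (fun r hr a ha => comm_mem_sqs hr (hLR ha))
    (fun y hy h => stab_mem hS hy L hLR (fix_small hLR (fun a ha => hNL (hab _ hy a ha)) (by omega)) h)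
  rcases line hp hn hnker hLsq hN2 (fun a ha b hb c hc => hcN _ (hab a (hLR ha) b (hLR hb)) c (hLR hc))
      (fun a ha b hb => hN2 _ (hab a (hLR ha) b (hLR hb)))
      (fun a ha h => ⟨hP2' a ((hpk a ha).1 h), fun b hb => hcen a ((hpk a ha).1 h) b (hLR hb)⟩) with h | ⟨hLcomm, hinv, hsur⟩
  · have := card_le_of_elementary hS L h
    omega
  have hwy : ∀ y, ∃ l ∈ L, y * w * y⁻¹ = w * l := fun y =>
    ⟨w⁻¹ * (y * w * y⁻¹), two_cosets hLR (by omega) w hw hw' _ (hcj y w hw) (fun h => hw' (by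
      have := Subgroup.Normal.conj_mem (inferInstance : L.Normal) _ h y⁻¹
      rwa [show y⁻¹ * (y * w * y⁻¹) * y⁻¹⁻¹ = w by group] at this)), by group⟩
  -- a fixed lift gives a smaller setting
  have hquot : ∀ z' ∈ sqs R, z' ∉ N → (∀ y, y * z' * y⁻¹ = z') → False := fun z' hz' hz'N hfix => by
    haveI : (zpowers z').Normal := ⟨by rintro - ⟨i, rfl⟩ g; exact ⟨i, by rw [← conj_zpow, hfix]⟩⟩
    have hKP : zpowers z' ≤ sqs R := zpowers_le.2 hz'
    have hKc : Nat.card (zpowers z') = 2 := by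
      haveI : Fact (Nat.Prime 2) := ⟨Nat.prime_two⟩
      rw [Nat.card_zpowers]
      exact orderOf_eq_prime (by rw [pow_two, hP2' z' hz']) (fun e => hz'N (e ▸ one_mem _))
    have hc' := card_map_mul (L := R) (hKP.trans (sqs_le R))
    rw [hKc] at hc'
    refine not_good_of_big (by omega) (IH _ _ (hS.quot _ hKP) (by omega)) ?_
    by_contra hno
    push Not at hno
    have : sqs R ≤ zpowers z' := (closure_le _).2 (by
      rintro - ⟨a, ha, rfl⟩
      refine (QuotientGroup.eq_one_iff (a * a)).1 ?_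
      exact (map_mul (QuotientGroup.mk' (zpowers z')) a a).trans (hno _ (mem_map_of_mem _ ha)))
    have := Nat.card_le_card_of_injective _ (inclusion_injective this)
    omega
  rcases inverts_or_central hp hLcomm hinv (fun x hx h => hP2' x ((hpk x hx).1 h))
      (fun x hx h => (hcen x ((hpk x hx).1 h) w hw).symm)
      (fun x hx => (hsur _ (hab w hw x (hLR hx))).imp fun u hu => ⟨hu.1, hu.2.symm⟩) hwy with h | h
  · have hcomm : ∀ a ∈ R, ∀ b ∈ R, a * b = b * a := comm_of_index hLR (by omega) hLcomm hw hw' fun x hx => by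
      have := h x hx
      rw [mul_inv_eq_one, mul_inv_eq_iff_eq_mul] at this
      exact this
    by_cases hmov : ∀ b ∈ L, ∃ y, y * (b * b * z) * y⁻¹ ≠ b * b * z
    · have hF : Four F L p := ⟨inferInstance, hLR, hLcomm, fun a ha => hN2 _ (hLsq a ha), hp, hinv⟩
      refine false_of_moved hS.rank hS.toTop hF (fun r hr a ha => hcomm r hr a (hLR ha)) (hPL hzP) hz2
        (fun b hb e => hzN (e ▸ hLsq b hb)) (fun a ha h' => ?_) hmov (fun y hy => ?_)
      · have haP := (hpk a ha).1 h'
        by_cases haN : a ∈ N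
        · obtain ⟨b, hb, e⟩ := hsur a haN
          exact ⟨b, hb, Or.inl e⟩
        · obtain ⟨b, hb, e⟩ := hsur _ (two_cosets hNP (by omega) z hzP hzN a haP haN)
          exact ⟨b, hb, Or.inr (by rw [← e, hcomm _ (mul_mem (inv_mem hzR) (hLR ha)) _ hzR, mul_inv_cancel_left])⟩
      · have hyR : y ^ 4 ∈ R := by
          refine F.φ_eq_mid.1 ?_
          rw [pow_succ, pow_succ, pow_two, F.map_mul, F.map_mul, F.map_mul, hy]
          decide +kernel
        by_cases hyL : y ^ 4 ∈ L
        · exact Or.inl hyL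
        · right
          have h1 : y ^ 4 * y ^ 4 ∈ sqs R := mem_sqs hyR
          have h2 : y ^ 4 * y ^ 4 ∉ N := fun hh => hyL (hLmem _ hyR hh)
          obtain ⟨b, hb, e⟩ := hsur _ (two_cosets hNP (by omega) z hzP hzN _ h1 h2)
          refine ⟨b, hb, ?_⟩
          rw [← e, hcomm _ (mul_mem (inv_mem hzR) (sqs_le R h1)) _ hzR, mul_inv_cancel_left]
    · push Not at hmov
      obtain ⟨b, hb, hfix⟩ := hmov
      exact hquot _ (mul_mem (hNP (hLsq b hb)) hzP) (fun hh => hzN (by
        have := mul_mem (inv_mem (hLsq b hb)) hh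
        rwa [inv_mul_cancel_left] at this)) hfix
  · -- the commutators equal the squares
    refine hquot z hzP hzN fun y => ?_
    obtain ⟨l, hl, hle⟩ := hwy y
    have hlN := hLsq l hl
    calc y * z * y⁻¹ = y * w * y⁻¹ * (y * w * y⁻¹) := by rw [hzd]; group
      _ = w * l * (w * l) := by rw [hle]
      _ = w * l * w * l := by group
      _ = w * (w * (w * l * w⁻¹ * l⁻¹)⁻¹ * l) * l := by
        have e : l * w = w * l * (l⁻¹ * w⁻¹ * l * w) := by group
        have e2 : (w * l * w⁻¹ * l⁻¹)⁻¹ = l * w * l⁻¹ * w⁻¹ := by group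
        rw [e2]
        have e3 : l * w * l⁻¹ * w⁻¹ * w = w * (l * w * l⁻¹ * w⁻¹) := by
          refine hcN _ ?_ w hw
          exact hab l (hLR hl) w hw
        calc w * l * w * l = w * (l * w * l⁻¹ * w⁻¹ * w) * l * l := by group
          _ = _ := by rw [e3]; group
      _ = w * (w * (l * l)⁻¹ * l) * l := by rw [h l hl]
      _ = z := by rw [hzd]; group

/-- The determination of `R`. -/
theorem good_of_setting (hS : Setting R) : Good R := by
  suffices H : ∀ (n : ℕ) (Z : Type u) [Group Z] [Finite Z] (R' : Subgroup Z), Setting R' → Nat.card R' = n → Good R' from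
    H _ Y R hS rfl
  intro n
  induction n using Nat.strong_induction_on with
  | _ n ih =>
    intro Z _ _ R hS hcard
    classical
    have IH : ∀ (Z' : Type u) [Group Z'] [Finite Z'] (R' : Subgroup Z'), Setting R' → Nat.card R' < Nat.card R → Good R' :=
      fun Z' _ _ R' h hlt => ih _ (hcard ▸ hlt) Z' R' h rfl
    haveI := hS.normal
    haveI : Fact (Nat.Prime 2) := ⟨Nat.prime_two⟩
    haveI : (sqs R).Normal := sqs_normal R
    obtain ⟨y7, hy7, hy7R⟩ := hS.toTop.exists_seven
    by_cases hbot : sqs R = ⊥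
    · have hel : ∀ r ∈ R, r * r = 1 := fun r hr => mem_bot.1 (hbot ▸ mem_sqs hr)
      have hle := card_le_of_elementary hS R hel
      obtain ⟨j, hj⟩ := IsPGroup.iff_card.1 hS.two
      have hbig : ¬ Nat.card R < 7 := fun h7 => hy7 (hS.self y7 (hbot ▸ fix_small bot_le (fun a ha => by
        rw [← hbot]; exact comm_mem_sqs hy7R ha) (by rw [card_bot, mul_one]; exact h7)))
      have hj4 : j ≤ 4 := (Nat.pow_le_pow_iff_right (by norm_num : 1 < 2)).1 (by rw [← hj]; exact hle)
      refine Or.inl ⟨hel, ?_⟩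
      interval_cases j <;> omega
    -- a minimal normal subgroup below the squares
    have hex : ∃ k, ∃ N : Subgroup Z, N.Normal ∧ N ≠ ⊥ ∧ N ≤ sqs R ∧ Nat.card N = k :=
      ⟨_, sqs R, inferInstance, hbot, le_rfl, rfl⟩
    obtain ⟨N, hNn, hNb, hNP, hNk⟩ := Nat.find_spec hex
    haveI := hNn
    have hmin : ∀ K : Subgroup Z, K.Normal → K ≤ N → K = ⊥ ∨ K = N := fun K hK hle => by
      by_contra h
      push Not at h
      refine Nat.find_min hex ?_ ⟨K, hK, h.1, hle.trans hNP, rfl⟩
      rw [← hNk]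
      exact lt_of_le_of_ne (Nat.card_le_card_of_injective _ (inclusion_injective hle))
        fun e => h.2 (eq_of_le_of_card_ge hle e.ge)
    have hNR : N ≤ R := hNP.trans (sqs_le R)
    have hcN : ∀ x ∈ N, ∀ a ∈ R, x * a = a * x := by
      haveI := hS.two.isNilpotent
      have hne : N.subgroupOf R ≠ ⊥ := fun e => hNb (by
        rw [← inf_eq_left.2 hNR, ← subgroupOf_map_subtype, e, Subgroup.map_bot])
      have h := CfsgLib.PGroupBasic.inf_center_ne_bot (N.subgroupOf R) hne
      have hsub : N ⊓ centralizer (R : Set Z) ≠ ⊥ := fun e => h (by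
        refine (eq_bot_iff_forall _).2 fun x hx => Subtype.ext (mem_bot.1 (e ▸ ?_))
        exact mem_inf.2 ⟨(mem_inf.1 hx).1, mem_centralizer_iff.2 fun a ha =>
          congrArg Subtype.val (mem_center_iff.1 (mem_inf.1 hx).2 ⟨a, ha⟩)⟩)
      rcases hmin (N ⊓ centralizer (R : Set Z)) inferInstance inf_le_left with h' | h'
      · exact absurd h' hsub
      · exact fun x hx a ha => (mem_centralizer_iff.1 ((h'.ge.trans inf_le_right) hx) a ha).symm
    have hN2 : ∀ x ∈ N, x * x = 1 := by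
      let K : Subgroup Z :=
        { carrier := {x | x ∈ N ∧ x * x = 1}
          one_mem' := ⟨one_mem _, one_mul 1⟩
          mul_mem' := by
            rintro a b ⟨ha, ha'⟩ ⟨hb, hb'⟩
            refine ⟨mul_mem ha hb, ?_⟩
            rw [show a * b * (a * b) = a * (b * a) * b by group, hcN b hb a (hNR ha),
              show a * (a * b) * b = a * a * (b * b) by group, ha', hb', one_mul]
          inv_mem' := by rintro a ⟨ha, ha'⟩; exact ⟨inv_mem ha, by rw [← mul_inv_rev, ha', inv_one]⟩ }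
      have hK : K.Normal := ⟨by
        rintro a ⟨ha, ha'⟩ g
        refine ⟨hNn.conj_mem a ha g, ?_⟩
        rw [show g * a * g⁻¹ * (g * a * g⁻¹) = g * (a * a) * g⁻¹ by group, ha']; group⟩
      rcases hmin K hK (fun x hx => hx.1) with h | h
      · exfalso
        have hNp : IsPGroup 2 N := hS.two.to_le hNR
        obtain ⟨j, hj⟩ := IsPGroup.iff_card.1 hNp
        have hj0 : j ≠ 0 := fun e => hNb (eq_bot_of_card_eq _ (by rw [hj, e, pow_zero]))
        obtain ⟨x, hx⟩ := exists_prime_orderOf_dvd_card' (G := N) 2 (hj ▸ dvd_pow_self 2 hj0)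
        have hx2 : (x : Z) * x = 1 := by
          have := hx ▸ pow_orderOf_eq_one x
          rw [pow_two] at this
          exact congrArg Subtype.val this
        have : (x : Z) ∈ K := ⟨x.2, hx2⟩
        rw [h, mem_bot, OneMemClass.coe_eq_one] at this
        rw [this, orderOf_one] at hx
        exact absurd hx (by norm_num)
      · exact fun x hx => (h.ge hx).2
    have hNle := card_le_of_elementary hS N hN2
    have hgood := IH _ _ (hS.quot N hNP) (by
      have h := card_map_mul (L := R) hNR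
      have h1 : 1 < Nat.card N := (Finite.one_lt_card_iff_nontrivial).2 ((nontrivial_iff_ne_bot N).2 hNb)
      have h2 : 0 < Nat.card (R.map (QuotientGroup.mk' N)) := Nat.card_pos
      nlinarith)
    have hzp : ∀ x ∈ N, x ≠ 1 → Nat.card (zpowers x) = 2 := fun x hx hx1 => by
      rw [Nat.card_zpowers]; exact orderOf_eq_prime (by rw [pow_two, hN2 x hx]) hx1
    by_cases htriv : ∀ y, ∀ x ∈ N, y * x * y⁻¹ = x
    · obtain ⟨x, hx, hx1⟩ : ∃ x ∈ N, x ≠ 1 := by
        by_contra h; push Not at h; exact hNb ((eq_bot_iff_forall N).2 h)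
      have hxN : zpowers x = N := (hmin (zpowers x) ⟨by
        rintro - ⟨i, rfl⟩ g; exact ⟨i, by rw [← conj_zpow, htriv g x hx]⟩⟩ (zpowers_le.2 hx)).resolve_left fun e =>
          hx1 (mem_bot.1 (e ▸ mem_zpowers x))
      exact good_of_two hS N hNP (hxN ▸ hzp x hx hx1) hcN hN2 hgood
    have hnofix : ∀ x ∈ N, (∀ y, y * x * y⁻¹ = x) → x = 1 := fun x hx hfix => by
      by_contra hx1
      have hxN : zpowers x = N := (hmin (zpowers x) ⟨by
        rintro - ⟨i, rfl⟩ g; exact ⟨i, by rw [← conj_zpow, hfix]⟩⟩ (zpowers_le.2 hx)).resolve_left fun e =>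
          hx1 (mem_bot.1 (e ▸ mem_zpowers x))
      refine htriv fun y x' hx' => card_two_fixed (hxN ▸ hzp x hx hx1) y x' hx'
    have hcen : centralizer (N : Set Z) = R := (hS.simp' _ inferInstance
      (fun r hr => mem_centralizer_iff.2 fun x hx => hcN x hx r hr)).resolve_right fun e => htriv fun y x hx => by
        have := mem_centralizer_iff.1 (e ▸ mem_top y : y ∈ centralizer (N : Set Z)) x hx
        rw [← this, mul_inv_cancel_right]
    have hN8 : Nat.card N = 8 := by
      obtain ⟨j, hj⟩ := IsPGroup.iff_card.1 (hS.two.to_le hNR)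
      have hbig : ¬ Nat.card N < 7 := fun h7 => hy7 (hcen ▸ mem_centralizer_iff.2 fun x hx => by
        have := fix_small (L := N) (M := (⊥ : Subgroup Z)) bot_le (y := y7) (fun a ha => mem_bot.2 (by
          rw [← hcN a ha _ hy7R]; group)) (by rw [card_bot, mul_one]; exact h7) x hx
        rw [mem_bot, mul_inv_eq_one, mul_inv_eq_iff_eq_mul] at this
        exact this.symm)
      have h16 : Nat.card N ≠ 16 := fun e => by
        obtain ⟨C, hCn, hCle, hC⟩ := four_dim hS.toTop N hN2 e fun r hr a ha => (hcN a ha r hr).symm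
        rcases hmin C hCn hCle with h | h
        · rw [h, card_bot] at hC; omega
        · rw [h, e] at hC; omega
      have hj4 : j ≤ 4 := (Nat.pow_le_pow_iff_right (by norm_num : 1 < 2)).1 (by rw [← hj]; exact hNle)
      interval_cases j <;> omega
    obtain ⟨Fn, pn, hn, hnk⟩ := exists_natsec hS N ⊥ bot_le (fun a ha => mem_bot.2 (hN2 a ha))
      (by rw [card_bot, hN8]) (fun r hr a ha => mem_bot.2 (by rw [← hcN a ha r hr]; group))
      (fun y _ h => hcen ▸ mem_centralizer_iff.2 fun x hx => by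
        have := mem_bot.1 (h x hx)
        rw [mul_inv_eq_one, mul_inv_eq_iff_eq_mul] at this
        exact this.symm)
    have hnker : ∀ x ∈ N, pn x = 0 → x = 1 := fun x hx h => mem_bot.1 ((hnk x hx).1 h)
    exfalso
    set π := QuotientGroup.mk' N
    have hcR := card_map_mul (L := R) hNR
    rcases hgood with ⟨hel, hc⟩ | ⟨hab32, hc32, hP2⟩
    · have hsqN : ∀ a ∈ R, a * a ∈ N := fun a ha => (QuotientGroup.eq_one_iff _).1 (by
        show π (a * a) = 1; rw [map_mul]; exact hel _ (mem_map_of_mem π ha))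
      have hP : sqs R = N := le_antisymm ((closure_le _).2 (by rintro - ⟨a, ha, rfl⟩; exact hsqN a ha)) hNP
      have hab : ∀ a ∈ R, ∀ b ∈ R, a * b * a⁻¹ * b⁻¹ ∈ N := fun a ha b hb => hP ▸ comm_mem_sqs ha hb
      rcases hc with h | h
      · exact false_of_natural_eight hS N hNR hN8 hn hnker hcN hN2 hP hsqN hab (by rw [← hcR, h, hN8])
      · exact false_of_natural_sixteen hS IH N hNR hN8 hn hnker hcN hN2 hP hmin hnofix hsqN hab (by rw [← hcR, h, hN8])
    · exact false_of_natural_thirtytwo hS IH N hNP hN8 hn hnker hcN hN2 hnofix hab32 hc32 hP2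

end CfsgLib.L32
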