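import Cfsg.Agent.SectRankFour.L32.Parity

/-!
No extension of `ℤ/8 × (ℤ/2)³` by `GL(3,2)` with faithful action has sectional rank at most four.
-/

set_option autoImplicit false
set_option linter.style.haveILetI false
set_option linter.unusedSectionVars false
set_option linter.unusedSimpArgs false

namespace CfsgLib.L32

open Subgroup

universe u

variable {Y : Type u} [Group Y] [Finite Y] {R : Subgroup Y}

theorem fix_step (hR : IsPGroup 2 R) (hcomm : ∀ a ∈ R, ∀ b ∈ R, a * b = b * a) {y a k : Y} (hy : y ^ 7 ∈ R)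
    (ha : a ∈ R) (hk : k ∈ R) (h1 : y * a * y⁻¹ = a * k) (h2 : y * k * y⁻¹ = k) : y * a * y⁻¹ = a := by
  have hn : ∀ n : ℕ, y ^ n * a * (y ^ n)⁻¹ = a * k ^ n := fun n => by
    induction n with
    | zero => simp
    | succ n ih =>
      rw [pow_succ', show y * y ^ n * a * (y * y ^ n)⁻¹ = y * (y ^ n * a * (y ^ n)⁻¹) * y⁻¹ by group, ih,
        show y * (a * k ^ n) * y⁻¹ = y * a * y⁻¹ * (y * k ^ n * y⁻¹) by group, h1, ← conj_pow, h2, pow_succ',
        mul_assoc]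
  have h7 := hn 7
  rw [hcomm _ hy a ha, mul_inv_cancel_right, left_eq_mul] at h7
  obtain ⟨j, hj⟩ := hR ⟨k, hk⟩
  have := pow_eq_one_of_odd (n := 7) ⟨3, rfl⟩ h7 (congrArg Subtype.val hj)
  rw [h1, this, mul_one]

theorem fix_small {L M : Subgroup Y} [M.Normal] [L.Normal] {y : Y} (hML : M ≤ L) (hy : ∀ a ∈ L, y ^ 7 * a * (y ^ 7)⁻¹ * a⁻¹ ∈ M)
    (hcard : Nat.card L < 7 * Nat.card M) : ∀ a ∈ L, y * a * y⁻¹ * a⁻¹ ∈ M := by
  set π := QuotientGroup.mk' M
  set Q := L.map π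
  haveI : Q.Normal := Subgroup.Normal.map inferInstance π (QuotientGroup.mk'_surjective M)
  have hQ : Nat.card Q < 7 := by
    have h := card_mul_index (M.subgroupOf L)
    rw [Nat.card_congr (subgroupOfEquivOfLe hML).toEquiv] at h
    have e : (π.subgroupMap L).ker = M.subgroupOf L := by
      ext x; simp [MonoidHom.mem_ker, Subtype.ext_iff, mem_subgroupOf, π]
    rw [← e, index_ker, MonoidHom.range_eq_top.2 (π.subgroupMap_surjective L), card_top] at h
    by_contra h'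
    have := Nat.mul_le_mul_left (Nat.card M) (not_lt.1 h')
    nlinarith [this, h, hcard]
  let f : Q → Q := fun q => ⟨π y * q * (π y)⁻¹, Subgroup.Normal.conj_mem inferInstance q.1 q.2 (π y)⟩
  have hit : ∀ (n : ℕ) (q : Q), ((f^[n] q : Q) : Y ⧸ M) = π y ^ n * q * (π y ^ n)⁻¹ := fun n q => by
    induction n with
    | zero => simp
    | succ n ih =>
      rw [Function.iterate_succ_apply']
      show π y * ((f^[n] q : Q) : Y ⧸ M) * (π y)⁻¹ = _
      rw [ih, pow_succ']; group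
  have h7 : ∀ q, f^[7] q = q := by
    rintro ⟨-, a, ha, rfl⟩
    refine Subtype.ext ((hit 7 _).trans ?_)
    rw [← map_pow, ← map_inv, ← map_mul, ← map_mul, ← mul_inv_eq_one, ← map_inv, ← map_mul]
    exact (QuotientGroup.eq_one_iff _).2 (hy a ha)
  intro a ha
  have := congrArg Subtype.val (fixed_of_seven f h7 hQ ⟨π a, mem_map_of_mem π ha⟩)
  simp only [f] at this
  rw [← map_inv, ← map_mul, ← map_mul, ← mul_inv_eq_one, ← map_inv, ← map_mul] at this
  exact (QuotientGroup.eq_one_iff _).1 this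

theorem card_N_le {F : Frame R} {H M : Subgroup Y} {p : Y → Vec (ZMod 2)} (hp : NatSec F H p)
    (hker : ∀ a ∈ H, p a = 0 → a ∈ M) {N : Subgroup Y}
    (hN : ∀ a, a ∈ N ↔ a ∈ H ∧ (p a = 0 ∨ p a = e0)) : Nat.card N ≤ 2 * Nat.card M := by
  classical
  obtain ⟨q, hq, hpq⟩ := hp.surj e0
  have hm : ∀ a ∈ N, p a ≠ 0 → a * q⁻¹ ∈ M := fun a ha h0 => by
    obtain ⟨haH, h | h⟩ := (hN a).1 ha
    · exact absurd h h0
    refine hker _ (mul_mem haH (inv_mem hq)) ?_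
    rw [hp.mul _ haH _ (inv_mem hq)]
    have e := hp.mul q⁻¹ (inv_mem hq) q hq
    rw [inv_mul_cancel, hp.map_one, hpq] at e
    rw [h]
    generalize p q⁻¹ = z at e ⊢
    revert z; decide +kernel
  let g : N → Bool × M := fun a =>
    if h0 : p a = 0 then (false, ⟨a, hker _ ((hN a).1 a.2).1 h0⟩) else (true, ⟨a * q⁻¹, hm _ a.2 h0⟩)
  have hg : Function.Injective g := by
    intro a b e
    by_cases ha : p a = 0 <;> by_cases hb : p b = 0 <;> simp [g, ha, hb] at e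
    · exact e
    · exact e
  have := Nat.card_le_card_of_injective g hg
  rwa [Nat.card_prod, Nat.card_eq_fintype_card (α := Bool), Fintype.card_bool] at this

/-- An extension of `ℤ/8 × (ℤ/2)³` has sectional rank above four. -/
theorem false_of_eight (hS : Setting R) (hcomm : ∀ a ∈ R, ∀ b ∈ R, a * b = b * a) (hcard : Nat.card R = 64)
    (hP : Nat.card (sqs R) = 4) : False := by
  classical
  haveI := hS.normal
  haveI : (sqs R).Normal := sqs_normal R
  have hconj : ∀ y, ∀ a ∈ R, y * a * y⁻¹ ∈ R := fun y a ha => Subgroup.Normal.conj_mem inferInstance a ha y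
  have hkm : ∀ y, ∀ a ∈ R, y * a * y⁻¹ * a⁻¹ ∈ R := fun y a ha => mul_mem (hconj y a ha) (inv_mem ha)
  have hsqmul : ∀ a ∈ R, ∀ b ∈ R, a * b * (a * b) = a * a * (b * b) := fun a ha b hb => by
    rw [show a * b * (a * b) = a * (b * a) * b by group, hcomm b hb a ha]; group
  -- every element of `sqs R` is a square
  have hPsq : ∀ x ∈ sqs R, ∃ a ∈ R, x = a * a := fun x hx => by
    induction hx using closure_induction with
    | mem x hx => obtain ⟨a, ha, rfl⟩ := hx; exact ⟨a, ha, rfl⟩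
    | one => exact ⟨1, one_mem _, by group⟩
    | mul x y _ _ h1 h2 =>
      obtain ⟨a, ha, rfl⟩ := h1; obtain ⟨b, hb, rfl⟩ := h2
      exact ⟨a * b, mul_mem ha hb, (hsqmul a ha b hb).symm⟩
    | inv x _ h => obtain ⟨a, ha, rfl⟩ := h; exact ⟨a⁻¹, inv_mem ha, by group⟩
  let sq : R →* Y := MonoidHom.mk' (fun a => (a : Y) * a) fun a b => hsqmul a a.2 b b.2
  have hrange : sq.range = sqs R := by
    ext x
    refine ⟨?_, fun hx => ?_⟩
    · rintro ⟨a, rfl⟩; exact mem_sqs a.2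
    · obtain ⟨a, ha, rfl⟩ := hPsq x hx; exact ⟨⟨a, ha⟩, rfl⟩
  -- preimages under squaring
  have hpre : ∀ M : Subgroup Y, M ≤ sqs R → ∃ L : Subgroup Y,
      (∀ a, a ∈ L ↔ a ∈ R ∧ a * a ∈ M) ∧ (M.Normal → L.Normal) ∧ Nat.card L = 16 * Nat.card M := by
    intro M hM
    refine ⟨(M.comap sq).map R.subtype, fun a => ⟨?_, fun ⟨ha, ha'⟩ => ⟨⟨a, ha⟩, ha', rfl⟩⟩, fun hMn => ⟨?_⟩, ?_⟩
    · rintro ⟨b, hb, rfl⟩; exact ⟨b.2, hb⟩
    · rintro - ⟨b, hb, rfl⟩ g
      refine ⟨⟨g * b * g⁻¹, hconj g b b.2⟩, ?_, rfl⟩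
      show g * b * g⁻¹ * (g * b * g⁻¹) ∈ M
      rw [show g * (b : Y) * g⁻¹ * (g * b * g⁻¹) = g * ((b : Y) * b) * g⁻¹ by group]
      exact hMn.conj_mem _ hb g
    · rw [card_map_of_injective R.subtype_injective]
      have h1 := card_mul_index (M.comap sq)
      rw [index_comap, hrange] at h1
      have h2 := relIndex_mul_index hM
      have h3 := card_mul_index M
      have h4 := card_mul_index (sqs R)
      rw [hP] at h4; rw [hcard] at h1
      have h5 : M.relIndex (sqs R) * Nat.card M = 4 := by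
        have : (M.relIndex (sqs R) * Nat.card M) * (sqs R).index = 4 * (sqs R).index := by
          rw [h4, ← h3, ← h2]; ring
        exact Nat.eq_of_mul_eq_mul_right (Nat.pos_of_ne_zero index_ne_zero_of_finite) this
      have : Nat.card (M.comap sq) * M.relIndex (sqs R) = 16 * Nat.card M * M.relIndex (sqs R) := by
        rw [h1, mul_assoc, mul_comm (Nat.card M), h5]
        norm_num
      exact Nat.eq_of_mul_eq_mul_right (Nat.pos_of_ne_zero (by
        intro e; rw [e] at h5; simp at h5)) this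
  obtain ⟨s7, hs7, hs7p⟩ := hS.toTop.exists_seven
  have hbot : (⊥ : Subgroup Y).Normal := inferInstance
  obtain ⟨Om, hOm, hOmn, hOmc⟩ := hpre ⊥ bot_le
  haveI := hOmn hbot
  rw [card_bot, mul_one] at hOmc
  have hOmR : Om ≤ R := fun a ha => ((hOm a).1 ha).1
  have hOm2 : ∀ a ∈ Om, a * a = 1 := fun a ha => mem_bot.1 ((hOm a).1 ha).2
  have hsq_comm : ∀ y, ∀ a ∈ R, y * a * y⁻¹ * a⁻¹ * (y * a * y⁻¹ * a⁻¹) = y * (a * a) * y⁻¹ * (a * a)⁻¹ := fun y a ha => by
    rw [hsqmul _ (hconj y a ha) _ (inv_mem ha)]; group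
  have h7c : ∀ a ∈ R, s7 ^ 7 * a * (s7 ^ 7)⁻¹ * a⁻¹ = 1 := fun a ha => by
    rw [hcomm _ hs7p a ha]; group
  have hPfix : ∀ x ∈ sqs R, s7 * x * s7⁻¹ = x := fun x hx => by
    have := fix_small (L := sqs R) (M := (⊥ : Subgroup Y)) (y := s7) bot_le
      (fun a ha => mem_bot.2 (h7c a (sqs_le R ha))) (by rw [card_bot, hP]; norm_num) x hx
    rwa [mem_bot, mul_inv_eq_one] at this
  -- fixing `Om` pointwise is impossible
  have hnofix : ¬ ∀ a ∈ Om, s7 * a * s7⁻¹ = a := fun h => by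
    refine hs7 (hS.self s7 fun a ha => ?_)
    have hk : s7 * a * s7⁻¹ * a⁻¹ ∈ Om := (hOm _).2 ⟨hkm s7 a ha, mem_bot.2 (by
      rw [hsq_comm s7 a ha, hPfix _ (mem_sqs ha), mul_inv_cancel])⟩
    have := fix_step hS.two hcomm hs7p ha (hkm s7 a ha) (by rw [hcomm a ha _ (hkm s7 a ha)]; group) (h _ hk)
    rw [this, mul_inv_cancel]; exact one_mem _
  have hliftfix : ∀ (L M : Subgroup Y), L ≤ R → (∀ k ∈ M, s7 * k * s7⁻¹ = k) →
      (∀ a ∈ L, s7 * a * s7⁻¹ * a⁻¹ ∈ M) → ∀ a ∈ L, s7 * a * s7⁻¹ = a := fun L M hL hM h a ha =>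
    fix_step hS.two hcomm hs7p (hL ha) (hkm s7 a (hL ha))
      (by rw [hcomm a (hL ha) _ (hkm s7 a (hL ha))]; group) (hM _ (h a ha))
  -- `sqs R` is cyclic
  obtain ⟨z, hz, hz2⟩ : ∃ z ∈ sqs R, z * z ≠ 1 := by
    by_contra h; push Not at h
    have hle : sqs R ≤ Om := fun x hx => (hOm x).2 ⟨sqs_le R hx, mem_bot.2 (h x hx)⟩
    refine hnofix (hliftfix Om (sqs R) hOmR hPfix (fix_small hle (fun a ha => ?_) (by rw [hOmc, hP]; norm_num)))
    rw [h7c a (hOmR ha)]; exact one_mem _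
  have hz4 : orderOf z = 4 := by
    have hd : orderOf z ∣ 4 := hP ▸ (Subgroup.orderOf_mk z hz ▸ _root_.orderOf_dvd_natCard _)
    have hle := Nat.le_of_dvd (by norm_num) hd
    have hne : ¬ orderOf z ∣ 2 := fun h2 => hz2 (by
      rw [← pow_two]; exact orderOf_dvd_iff_pow_eq_one.1 h2)
    interval_cases h : orderOf z <;> simp_all (config := { decide := true })
  have hPz : zpowers z = sqs R := eq_of_le_of_card_ge (zpowers_le.2 hz) (by rw [Nat.card_zpowers, hz4, hP])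
  obtain ⟨w0, hw0, hzw⟩ := hPsq z hz
  set m := z * z with hm
  have hz44 : z ^ 4 = 1 := hz4 ▸ pow_orderOf_eq_one z
  have hm2 : m * m = 1 := by rw [hm, ← hz44]; simp [pow_succ, mul_assoc]
  have hm1 : m ≠ 1 := hz2
  have hPcases : ∀ x ∈ sqs R, x = 1 ∨ x = z ∨ x = m ∨ x = z * m := fun x hx => by
    rw [← hPz] at hx
    obtain ⟨n, hn, rfl⟩ := (IsOfFinOrder.mem_zpowers_iff_mem_range_orderOf (isOfFinOrder_of_finite z)).1 hx |> Finset.mem_image.1
    rw [Finset.mem_range, hz4] at hn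
    interval_cases n <;> simp [hm, pow_succ, mul_assoc]
  have hzfix : ∀ y, y * z * y⁻¹ = z := by
    haveI : (centralizer (sqs R : Set Y)).Normal := inferInstance
    rcases hS.simp' (centralizer (sqs R : Set Y)) inferInstance (fun r hr => mem_centralizer_iff.2 fun a ha =>
      hcomm a (sqs_le R ha) r hr) with h | h
    · exact absurd (h ▸ mem_centralizer_iff.2 fun a ha => (mul_inv_eq_iff_eq_mul.1 (hPfix a ha)).symm) hs7
    · intro y
      have := mem_centralizer_iff.1 (h ▸ mem_top y : y ∈ centralizer (sqs R : Set Y)) z hz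
      rw [← this, mul_inv_cancel_right]
  have hmfix : ∀ y, y * m * y⁻¹ = m := fun y => by
    rw [hm, show y * (z * z) * y⁻¹ = y * z * y⁻¹ * (y * z * y⁻¹) by group, hzfix]
  set Mm := zpowers m
  haveI hMn : Mm.Normal := ⟨by rintro - ⟨n, rfl⟩ g; exact ⟨n, by rw [← conj_zpow, hmfix]⟩⟩
  have hMc : Nat.card Mm = 2 := by
    haveI : Fact (Nat.Prime 2) := ⟨Nat.prime_two⟩
    rw [Nat.card_zpowers]; exact orderOf_eq_prime (by rw [pow_two, hm2]) hm1
  have hMmem : ∀ x, x ∈ Mm → x = 1 ∨ x = m := fun x hx => by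
    obtain ⟨n, rfl⟩ := hx
    rcases Int.even_or_odd' n with ⟨i, rfl | rfl⟩
    · left; show m ^ (2 * i) = 1; rw [zpow_mul, zpow_two, hm2, one_zpow]
    · right; show m ^ (2 * i + 1) = m; rw [zpow_add, zpow_mul, zpow_two, hm2, one_zpow, one_mul, zpow_one]
  have hMP : Mm ≤ sqs R := zpowers_le.2 (mul_mem hz hz)
  have hMO : Mm ≤ Om := zpowers_le.2 ((hOm m).2 ⟨sqs_le R (mul_mem hz hz), mem_bot.2 hm2⟩)
  have hmR : m ∈ R := sqs_le R (mul_mem hz hz)
  obtain ⟨p, hpm, hps, hpk⟩ := exists_coord hMO (fun a ha => by rw [hOm2 a ha]; exact one_mem _)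
    (by rw [hOmc, hMc])
  have hne : ∃ y, ∃ a ∈ Om, p (y * a * y⁻¹) ≠ p a := by
    by_contra h; push Not at h
    refine hnofix (hliftfix Om Mm hOmR (fun k hk => hPfix k (hMP hk)) fun a ha => ?_)
    have hca : s7 * a * s7⁻¹ ∈ Om := Subgroup.Normal.conj_mem inferInstance a ha s7
    refine (hpk _ (mul_mem hca (inv_mem ha))).1 ?_
    have e := hpm _ (mul_mem hca (inv_mem ha)) _ ha
    rw [inv_mul_cancel_right, h s7 a ha] at e
    exact (right_eq_add.1 e)
  obtain ⟨F, hF⟩ := exists_frame hS.toTop hpm hps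
    (fun y a ha h0 => by
      rw [hpk _ (Subgroup.Normal.conj_mem inferInstance a ha y)]
      exact hMn.conj_mem _ ((hpk a ha).1 h0) y)
    (fun r hr a ha => by rw [hcomm r hr a (hOmR ha), mul_inv_cancel_right]) hne
  obtain ⟨s, hs⟩ := F.exists_sigma
  obtain ⟨t, ht⟩ := F.exists_tau
  have hcO : ∀ y, ∀ a ∈ Om, y * a * y⁻¹ ∈ Om := fun y a ha => Subgroup.Normal.conj_mem inferInstance a ha y
  have hOcomm : ∀ a ∈ Om, ∀ b ∈ Om, a * b = b * a := fun a ha b hb => hcomm a (hOmR ha) b (hOmR hb)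
  have hmO : m ∈ Om := hMO (mem_zpowers m)
  have hdec : ∀ a ∈ Om, ∀ b ∈ Om, p a = p b → a = b ∨ a = b * m := fun a ha b hb e => by
    have hh : b⁻¹ * a ∈ Mm := by
      refine (hpk _ (mul_mem (inv_mem hb) ha)).1 ?_
      have e' := hpm b hb _ (mul_mem (inv_mem hb) ha)
      rw [mul_inv_cancel_left, e] at e'
      exact left_eq_add.1 e'
    rcases hMmem _ hh with h | h
    · exact Or.inl (inv_mul_eq_one.1 h).symm
    · exact Or.inr (by rw [← h, mul_inv_cancel_left])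
  have hpM : p m = 0 := (hpk m hmO).2 (mem_zpowers m)
  -- a lift adapted to `s`
  obtain ⟨b0, hb0, hpb0, hb3⟩ : ∃ b0 ∈ Om, p b0 = e0 ∧
      s * (s * (s * b0 * s⁻¹) * s⁻¹) * s⁻¹ = b0 * (s * b0 * s⁻¹) := by
    obtain ⟨v, hv, hpv⟩ := hps e0
    have h1 := hcO s v hv; have h2 := hcO s _ h1; have h3 := hcO s _ h2
    rcases hdec _ h3 _ (mul_mem hv h1) (by
      rw [hpm v hv _ h1, hF.conj s _ h2, hF.conj s _ h1, hF.conj s v hv, hs, hpv]; decide +kernel) with e | e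
    · exact ⟨v, hv, hpv, e⟩
    · refine ⟨v * m, mul_mem hv hmO, by rw [hpm v hv m hmO, hpv, hpM, add_zero], ?_⟩
      have hc : ∀ x, s * (x * m) * s⁻¹ = s * x * s⁻¹ * m := fun x => by
        rw [show s * (x * m) * s⁻¹ = s * x * s⁻¹ * (s * m * s⁻¹) by group, hmfix]
      rw [hc, hc, hc, e, mul_assoc _ m m, hm2, mul_one]
      rw [show v * m * (s * v * s⁻¹ * m) = v * (m * (s * v * s⁻¹)) * m by group, hOcomm m hmO _ h1,
        show v * (s * v * s⁻¹ * m) * m = v * (s * v * s⁻¹) * (m * m) by group, hm2, mul_one]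
  obtain ⟨b1, hb1d⟩ : ∃ x, x = s * b0 * s⁻¹ := ⟨_, rfl⟩
  obtain ⟨b2, hb2d⟩ : ∃ x, x = s * b1 * s⁻¹ := ⟨_, rfl⟩
  rw [← hb1d, ← hb2d] at hb3
  have hb1 : b1 ∈ Om := hb1d ▸ hcO s b0 hb0
  have hb2 : b2 ∈ Om := hb2d ▸ hcO s b1 hb1
  have hpb1 : p b1 = (0, 1, 0) := by rw [hb1d, hF.conj s b0 hb0, hs, hpb0]; decide
  have hpb2 : p b2 = (0, 0, 1) := by rw [hb2d, hF.conj s b1 hb1, hs, hpb1]; decide
  have hpw : ∀ q ∈ Om, ∀ i j : ZMod 2, q ^ (i + j).val = q ^ i.val * q ^ j.val := fun q hq i j => by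
    rcases zmod_two_cases i with rfl | rfl <;> rcases zmod_two_cases j with rfl | rfl <;>
      simp [show ((1 : ZMod 2) + 1) = 0 by decide, hOm2 q hq, ZMod.val_one]
  let lft : Vec (ZMod 2) → Y := fun v => b0 ^ v.1.val * b1 ^ v.2.1.val * b2 ^ v.2.2.val
  have hlm : ∀ v, lft v ∈ Om := fun v => mul_mem (mul_mem (pow_mem hb0 _) (pow_mem hb1 _)) (pow_mem hb2 _)
  have hla : ∀ v v', lft (v + v') = lft v * lft v' := fun v v' => by
    have e1 := hOcomm _ (pow_mem hb1 v.2.1.val) _ (pow_mem hb0 v'.1.val)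
    have e2 := hOcomm _ (pow_mem hb2 v.2.2.val) _ (mul_mem (pow_mem hb0 v'.1.val) (pow_mem hb1 v'.2.1.val))
    show b0 ^ (v.1 + v'.1).val * b1 ^ (v.2.1 + v'.2.1).val * b2 ^ (v.2.2 + v'.2.2).val = _
    rw [hpw b0 hb0, hpw b1 hb1, hpw b2 hb2]
    calc b0 ^ v.1.val * b0 ^ v'.1.val * (b1 ^ v.2.1.val * b1 ^ v'.2.1.val) * (b2 ^ v.2.2.val * b2 ^ v'.2.2.val)
        = b0 ^ v.1.val * (b0 ^ v'.1.val * b1 ^ v.2.1.val) * b1 ^ v'.2.1.val * b2 ^ v.2.2.val * b2 ^ v'.2.2.val := by group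
      _ = b0 ^ v.1.val * b1 ^ v.2.1.val * (b0 ^ v'.1.val * b1 ^ v'.2.1.val * b2 ^ v.2.2.val) * b2 ^ v'.2.2.val := by
        rw [← e1]; group
      _ = lft v * lft v' := by rw [← e2]; simp only [lft, mul_assoc]
  have hlp : ∀ v, p (lft v) = v := by
    have hp1 : p 1 = 0 := by simpa using hpm 1 (one_mem _) 1 (one_mem _)
    rintro ⟨a, b, c⟩
    show p (_ * _ * _) = _
    rw [hpm _ (mul_mem (pow_mem hb0 _) (pow_mem hb1 _)) _ (pow_mem hb2 _), hpm _ (pow_mem hb0 _) _ (pow_mem hb1 _)]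
    rcases zmod_two_cases a with rfl | rfl <;> rcases zmod_two_cases b with rfl | rfl <;>
      rcases zmod_two_cases c with rfl | rfl <;>
      simp [hp1, hpb0, hpb1, hpb2, ZMod.val_one, e0, Prod.ext_iff]
  have hls : ∀ v, s * lft v * s⁻¹ = lft (mv sig v) := by
    rintro ⟨a, b, c⟩
    have hconjs : s * lft (a, b, c) * s⁻¹ = b1 ^ a.val * b2 ^ b.val * (b0 * b1) ^ c.val := by
      calc s * (b0 ^ a.val * b1 ^ b.val * b2 ^ c.val) * s⁻¹
          = (s * b0 * s⁻¹) ^ a.val * (s * b1 * s⁻¹) ^ b.val * (s * b2 * s⁻¹) ^ c.val := by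
            rw [conj_pow, conj_pow, conj_pow]; group
        _ = _ := by rw [hb3, ← hb2d, ← hb1d]
    have hcb : Commute b0 b1 := hOcomm b0 hb0 b1 hb1
    have e1 := hOcomm _ (pow_mem hb2 b.val) _ (mul_mem (pow_mem hb0 c.val) (pow_mem hb1 c.val))
    have e2 := hOcomm _ (pow_mem hb1 a.val) _ (pow_mem hb0 c.val)
    rw [hconjs, hcb.mul_pow, mul_assoc (b1 ^ a.val), e1, ← mul_assoc (b1 ^ a.val), ← mul_assoc (b1 ^ a.val), e2,
      mul_assoc (b0 ^ c.val), ← hpw b1 hb1]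
    simp [lft, mv, sig, add_comm]
  have hdecomp : ∀ a ∈ Om, ∃ e : ZMod 2, a = lft (p a) * m ^ e.val := fun a ha => by
    rcases hdec a ha _ (hlm (p a)) (hlp _).symm with h | h
    · exact ⟨0, by rw [ZMod.val_zero, pow_zero, mul_one]; exact h⟩
    · exact ⟨1, by rw [ZMod.val_one, pow_one]; exact h⟩
  -- a root fixed by `s`
  have hkO : ∀ y, ∀ a ∈ R, a * a ∈ sqs R → y * a * y⁻¹ * a⁻¹ ∈ Om := fun y a ha haP => (hOm _).2 ⟨hkm y a ha, mem_bot.2 (by
    rw [hsq_comm y a ha]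
    have hfix : y * (a * a) * y⁻¹ = a * a := by
      rcases hPcases _ haP with e | e | e | e <;> rw [e]
      · group
      · exact hzfix y
      · exact hmfix y
      · rw [show y * (z * m) * y⁻¹ = y * z * y⁻¹ * (y * m * y⁻¹) by group, hzfix, hmfix]
    rw [hfix, mul_inv_cancel])⟩
  obtain ⟨w, hw, hww, hsw⟩ : ∃ w ∈ R, w * w = z ∧ s * w * s⁻¹ = w := by
    set k := s * w0 * s⁻¹ * w0⁻¹ with hk
    have hkm' : k ∈ Om := hkO s w0 hw0 (mem_sqs hw0)
    obtain ⟨u, hu⟩ : ∃ u, mv sig u + u = p k := by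
      have : ∀ e : Vec (ZMod 2), ∃ u, mv sig u + u = e := by decide +kernel
      exact this _
    set lu := lft u with hlud
    have hluR : lu ∈ R := hOmR (hlm u)
    have hwR : w0 * lu ∈ R := mul_mem hw0 hluR
    refine ⟨w0 * lu, hwR, by rw [hsqmul w0 hw0 lu hluR, hOm2 lu (hlm u), mul_one, hzw], ?_⟩
    set k' := s * (w0 * lu) * s⁻¹ * (w0 * lu)⁻¹
    have e : k' = k * (s * lu * s⁻¹ * lu⁻¹) := by
      have h1 : s * lu * s⁻¹ * lu⁻¹ ∈ R := hkm s lu hluR
      calc k' = s * w0 * s⁻¹ * (s * lu * s⁻¹ * lu⁻¹) * w0⁻¹ := by simp only [k']; group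
        _ = s * w0 * s⁻¹ * (w0⁻¹ * (s * lu * s⁻¹ * lu⁻¹)) := by rw [mul_assoc, hcomm _ h1 _ (inv_mem hw0)]
        _ = _ := by simp only [hk]; group
    have hk'O : k' ∈ Om := hkO s _ hwR (mem_sqs hwR)
    have hk'M : k' ∈ Mm := by
      refine (hpk _ hk'O).1 ?_
      have hlc : s * lu * s⁻¹ * lu⁻¹ = lft (mv sig u) * lu := by
        rw [hls, inv_eq_of_mul_eq_one_right (hOm2 lu (hlm u))]
      rw [e, hlc, hpm k hkm' _ (mul_mem (hlm _) (hlm u)), hpm _ (hlm _) _ (hlm u), hlp, hlp, hu]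
      generalize p k = q
      revert q; decide +kernel
    refine fix_step hS.two hcomm (F.sigma_pow_seven hs) hwR (hkm s _ hwR) ?_ ?_
    · rw [hcomm _ hwR _ (hkm s _ hwR)]; group
    · rcases hMmem _ hk'M with h' | h' <;> simp only [k'] at h' <;> rw [h']
      · group
      · exact hmfix s
  -- the five-dimensional model
  obtain ⟨k0, hk0⟩ := hdecomp _ (hcO t b0 hb0)
  obtain ⟨k1, hk1⟩ := hdecomp _ (hcO t b1 hb1)
  obtain ⟨k2, hk2⟩ := hdecomp _ (hcO t b2 hb2)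
  rw [hF.conj t b0 hb0, ht, hpb0] at hk0
  rw [hF.conj t b1 hb1, ht, hpb1] at hk1
  rw [hF.conj t b2 hb2, ht, hpb2] at hk2
  have hwO : t * w * t⁻¹ * w⁻¹ ∈ Om := hkO t w hw (mem_sqs hw)
  obtain ⟨ε, hε⟩ := hdecomp _ hwO
  set u := p (t * w * t⁻¹ * w⁻¹)
  let two : Vec (ZMod 2) × ZMod 2 → Y := fun x => lft x.1 * m ^ x.2.val
  have htwo : ∀ x x', two (x + x') = two x * two x' := fun x x' => by
    show lft (x.1 + x'.1) * m ^ (x.2 + x'.2).val = _
    rw [hla, hpw m hmO]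
    calc lft x.1 * lft x'.1 * (m ^ x.2.val * m ^ x'.2.val) = lft x.1 * (lft x'.1 * m ^ x.2.val) * m ^ x'.2.val := by group
      _ = lft x.1 * (m ^ x.2.val * lft x'.1) * m ^ x'.2.val := by rw [hOcomm _ (hlm _) _ (pow_mem hmO _)]
      _ = _ := by simp only [two]; group
  have htwom : ∀ x, two x ∈ Om := fun x => mul_mem (hlm _) (pow_mem hmO _)
  set kv : Vec (ZMod 2) := (k0, k1, k2)
  have htl : ∀ v, t * lft v * t⁻¹ = two (mv tau v, kv.1 * v.1 + kv.2.1 * v.2.1 + kv.2.2 * v.2.2) := by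
    intro v
    let Φ : Multiplicative (Vec (ZMod 2) × ZMod 2) →* Y := MonoidHom.mk' (fun x => two x.toAdd) fun x y => htwo _ _
    have hpow : ∀ (n : ℕ) x, two (n • x) = two x ^ n := fun n x => map_pow Φ (Multiplicative.ofAdd x) n
    have hid : ∀ k v : Vec (ZMod 2), ((mv tau v, k.1 * v.1 + k.2.1 * v.2.1 + k.2.2 * v.2.2) : Vec (ZMod 2) × ZMod 2) =
        v.1.val • ((mv tau e0, k.1) : Vec (ZMod 2) × ZMod 2) + v.2.1.val • ((mv tau (0, 1, 0), k.2.1) : Vec (ZMod 2) × ZMod 2) +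
          v.2.2.val • ((mv tau (0, 0, 1), k.2.2) : Vec (ZMod 2) × ZMod 2) := by decide +kernel
    rw [hid, htwo, htwo, hpow, hpow, hpow]
    show t * lft v * t⁻¹ = (lft (mv tau e0) * m ^ k0.val) ^ _ * (lft _ * m ^ k1.val) ^ _ * (lft _ * m ^ k2.val) ^ _
    rw [← hk0, ← hk1, ← hk2, conj_pow, conj_pow, conj_pow]
    show t * (b0 ^ _ * b1 ^ _ * b2 ^ _) * t⁻¹ = _
    group
  let co5 : Vec (ZMod 2) × ZMod 2 × ZMod 2 → Y := fun x => two (x.1, x.2.1) * w ^ x.2.2.val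
  have hco_s : ∀ x, s * co5 x * s⁻¹ = co5 (mv sig x.1, x.2) := fun x => by
    show s * (lft x.1 * m ^ x.2.1.val * w ^ x.2.2.val) * s⁻¹ = lft (mv sig x.1) * m ^ x.2.1.val * w ^ x.2.2.val
    calc s * (lft x.1 * m ^ x.2.1.val * w ^ x.2.2.val) * s⁻¹
        = s * lft x.1 * s⁻¹ * (s * m * s⁻¹) ^ x.2.1.val * (s * w * s⁻¹) ^ x.2.2.val := by
          rw [conj_pow, conj_pow]; group
      _ = _ := by rw [hls, hmfix, hsw]
  have hco_t : ∀ x, t * co5 x * t⁻¹ = co5 (fiveT kv u ε x) := by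
    rintro ⟨v, e, j⟩
    show t * (lft v * m ^ e.val * w ^ j.val) * t⁻¹ = two (_, _) * w ^ j.val
    calc t * (lft v * m ^ e.val * w ^ j.val) * t⁻¹
        = t * lft v * t⁻¹ * (t * m * t⁻¹) ^ e.val * (t * w * t⁻¹) ^ j.val := by rw [conj_pow, conj_pow]; group
      _ = two (mv tau v, kv.1 * v.1 + kv.2.1 * v.2.1 + kv.2.2 * v.2.2) * two (0, e) * (t * w * t⁻¹) ^ j.val := by
        rw [htl, hmfix]; congr 2; simp [two, lft]
      _ = _ := by
        rw [← htwo]
        rcases zmod_two_cases j with rfl | rfl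
        · simp [fiveT]
        · rw [ZMod.val_one, pow_one, pow_one, show t * w * t⁻¹ = two (u, ε) * w by
            show t * w * t⁻¹ = lft u * m ^ ε.val * w
            rw [← hε]; group, ← mul_assoc, ← htwo]
          simp [fiveT]
  have hco_inj : Function.Injective co5 := by
    rintro ⟨v, e, j⟩ ⟨v', e', j'⟩ h
    have h : two (v, e) * w ^ j.val = two (v', e') * w ^ j'.val := h
    have hsq : ∀ x (i : ZMod 2), two x * w ^ i.val * (two x * w ^ i.val) = z ^ i.val := fun x i => by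
      rw [hsqmul _ (hOmR (htwom x)) _ (pow_mem hw _), hOm2 _ (htwom x), one_mul, ← hww, ← (Commute.refl w).mul_pow]
    have hj : j = j' := by
      have h2 := hsq (v, e) j
      rw [h, hsq] at h2
      rcases zmod_two_cases j with rfl | rfl <;> rcases zmod_two_cases j' with rfl | rfl
      · rfl
      · rw [ZMod.val_one, ZMod.val_zero, pow_one, pow_zero] at h2; exact absurd (by rw [hm, h2]; group) hz2
      · rw [ZMod.val_one, ZMod.val_zero, pow_one, pow_zero] at h2; exact absurd (by rw [hm, ← h2]; group) hz2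
      · rfl
    subst hj
    have h3 : lft v * m ^ e.val = lft v' * m ^ e'.val := mul_right_cancel h
    have hv : v = v' := by
      have := congrArg p h3
      rcases zmod_two_cases e with rfl | rfl <;> rcases zmod_two_cases e' with rfl | rfl <;>
        simpa [hpm _ (hlm _) _ hmO, hlp, hpM, ZMod.val_one] using this
    subst hv
    have h4 := mul_left_cancel h3
    rcases zmod_two_cases e with rfl | rfl <;> rcases zmod_two_cases e' with rfl | rfl
    · rfl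
    · exact absurd (by simpa [ZMod.val_one] using h4.symm) hm1
    · exact absurd (by simpa [ZMod.val_one] using h4) hm1
    · rfl
  have hco_w : ∀ l x, wY s t l * co5 x * (wY s t l)⁻¹ = co5 (fiveWd kv u ε l x) := by
    intro l
    induction l with
    | nil => intro x; simp [wY, fiveWd]
    | cons b l ih =>
      intro x
      rw [wY, fiveWd]
      cases b
      · rw [if_neg Bool.false_ne_true, if_neg Bool.false_ne_true,
          show t * wY s t l * co5 x * (t * wY s t l)⁻¹ = t * (wY s t l * co5 x * (wY s t l)⁻¹) * t⁻¹ by group,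
          ih, hco_t]
      · rw [if_pos rfl, if_pos rfl,
          show s * wY s t l * co5 x * (s * wY s t l)⁻¹ = s * (wY s t l * co5 x * (wY s t l)⁻¹) * s⁻¹ by group,
          ih, hco_s]
  have hcases := table_five kv u ε fun r hr x => hco_inj (by
    rw [← hco_w, hcomm _ (F.wY_mem hs ht (frame_facts.2.2.1 r hr)) _
      (show co5 x ∈ R from mul_mem (hOmR (htwom _)) (pow_mem hw _))]
    exact mul_inv_cancel_right _ _)
  -- decomposition of `R`
  have hRdec : ∀ a ∈ R, ∃ q ∈ Om, ∃ n : ℕ, a = q * w ^ n := fun a ha => by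
    obtain ⟨n, hn⟩ : ∃ n : ℕ, a * a = z ^ n := by
      rcases hPcases _ (mem_sqs ha) with e | e | e | e <;> rw [e]
      · exact ⟨0, by simp⟩
      · exact ⟨1, by simp⟩
      · exact ⟨2, by rw [pow_two]⟩
      · exact ⟨3, by simp [hm, pow_succ, mul_assoc]⟩
    refine ⟨a * (w ^ n)⁻¹, (hOm _).2 ⟨mul_mem ha (inv_mem (pow_mem hw n)), mem_bot.2 ?_⟩, n, by group⟩
    rw [hsqmul a ha _ (inv_mem (pow_mem hw n)), hn, ← hww, ← mul_inv_rev, ← (Commute.refl w).mul_pow, mul_inv_cancel]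
  have hcm : ∀ y, ∀ a ∈ R, ∀ b ∈ R, y * (a * b) * y⁻¹ * (a * b)⁻¹ = y * a * y⁻¹ * a⁻¹ * (y * b * y⁻¹ * b⁻¹) := fun y a ha b hb => by
    calc y * (a * b) * y⁻¹ * (a * b)⁻¹ = y * a * y⁻¹ * (y * b * y⁻¹ * b⁻¹) * a⁻¹ := by group
      _ = y * a * y⁻¹ * (a⁻¹ * (y * b * y⁻¹ * b⁻¹)) := by rw [mul_assoc, hcomm _ (hkm y b hb) _ (inv_mem ha)]
      _ = _ := by group
  have hcpow : ∀ y, ∀ n : ℕ, y * w ^ n * y⁻¹ * (w ^ n)⁻¹ = (y * w * y⁻¹ * w⁻¹) ^ n := fun y n => by
    induction n with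
    | zero => simp
    | succ n ih => rw [pow_succ, hcm y _ (pow_mem hw n) w hw, ih, pow_succ]
  obtain ⟨H2, hH2, hH2n, hH2c⟩ := hpre Mm hMP
  haveI := hH2n hMn
  rw [hMc] at hH2c
  have hH2R : H2 ≤ R := fun a ha => ((hH2 a).1 ha).1
  rcases hcases with ⟨hk', hε'⟩ | hu0
  · -- `Om` splits
    have hkk : k0 = 0 ∧ k1 = 0 ∧ k2 = 0 := by simpa [kv, Prod.ext_iff] using hk'
    let U : Subgroup Y :=
      { carrier := Set.range lft
        one_mem' := ⟨0, by simp [lft]⟩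
        mul_mem' := by rintro - - ⟨v, rfl⟩ ⟨v', rfl⟩; exact ⟨v + v', hla v v'⟩
        inv_mem' := by rintro - ⟨v, rfl⟩; exact ⟨v, (inv_eq_of_mul_eq_one_right (hOm2 _ (hlm v))).symm⟩ }
    have hgen : ∀ y, (∀ v, y * lft v * y⁻¹ ∈ U) ∧ y * w * y⁻¹ * w⁻¹ ∈ U := by
      refine F.gen_induction hS.toTop hs ht (P := fun y => (∀ v, y * lft v * y⁻¹ ∈ U) ∧ y * w * y⁻¹ * w⁻¹ ∈ U)
        (fun r hr => ⟨fun v => ?_, ?_⟩) ⟨fun v => ⟨_, (hls v).symm⟩, ?_⟩ ⟨fun v => ⟨mv tau v, ?_⟩, ⟨u, ?_⟩⟩ ?_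
      · rw [hcomm r hr _ (hOmR (hlm v)), mul_inv_cancel_right]; exact ⟨v, rfl⟩
      · rw [hcomm r hr w hw]; exact ⟨0, by simp [lft]⟩
      · rw [hsw, mul_inv_cancel]; exact ⟨0, by simp [lft]⟩
      · rw [htl]; simp [two, kv, hkk.1, hkk.2.1, hkk.2.2]
      · rw [hε, hε', ZMod.val_zero, pow_zero, mul_one]
      · rintro a b ⟨ha1, ha2⟩ ⟨hb1', hb2'⟩
        have hU : ∀ x ∈ U, a * x * a⁻¹ ∈ U := by rintro - ⟨v, rfl⟩; exact ha1 v
        refine ⟨fun v => ?_, ?_⟩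
        · rw [show a * b * lft v * (a * b)⁻¹ = a * (b * lft v * b⁻¹) * a⁻¹ by group]; exact hU _ (hb1' v)
        · rw [show a * b * w * (a * b)⁻¹ * w⁻¹ = a * (b * w * b⁻¹ * w⁻¹) * a⁻¹ * (a * w * a⁻¹ * w⁻¹) by group]
          exact mul_mem (hU _ hb2') ha2
    haveI : U.Normal := ⟨by rintro - ⟨v, rfl⟩ g; exact (hgen g).1 v⟩
    have hUm : m ∉ U := by
      rintro ⟨v, hv⟩
      have := hlp v
      rw [hv, hpM] at this
      subst this
      exact hm1 (hv.symm.trans (by simp [lft]))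
    refine false_of_parity hS.rank F hS.two hcomm U Om hOmR ?_ ?_ hF H2 hH2R ?_ ?_ ?_
    · intro a ha ⟨v, hv⟩
      refine (hOm a).2 ⟨ha, mem_bot.2 ?_⟩
      have hP' : lft v ∈ sqs R := hv ▸ mem_sqs ha
      have h2 := hOm2 _ (hlm v)
      rcases hPcases _ hP' with e | e | e | e
      · rw [← hv, e]
      · rw [e] at h2; exact absurd h2 hz2
      · exact absurd ⟨v, e⟩ hUm
      · rw [e, hsqmul z (sqs_le R hz) m hmR, hm2, mul_one] at h2; exact absurd h2 hz2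
    · intro y a ha
      obtain ⟨q, hq, n, rfl⟩ := hRdec a ha
      rw [hcm y q (hOmR hq) _ (pow_mem hw n), hcpow]
      refine mul_mem ?_ (pow_mem (hgen y).2 n)
      obtain ⟨e, he⟩ := hdecomp q hq
      rw [he, hcm y _ (hOmR (hlm _)) _ (pow_mem hmR _), ← conj_pow (a := y), hmfix, mul_inv_cancel, mul_one]
      exact mul_mem ((hgen y).1 _) (inv_mem ⟨_, rfl⟩)
    · intro a ha
      have hm' := ((hH2 a).1 ha).2
      exact ⟨hMO hm', (hpk _ (hMO hm')).2 hm'⟩
    · intro y hy a ha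
      obtain ⟨q, hq, hkq⟩ : ∃ q ∈ Om, y * a * y⁻¹ * a⁻¹ = y * q * y⁻¹ * q⁻¹ := by
        obtain ⟨haR, haM⟩ := (hH2 a).1 ha
        rcases hMmem _ haM with e | e
        · exact ⟨a, (hOm a).2 ⟨haR, mem_bot.2 e⟩, rfl⟩
        · have hzi : z⁻¹ ∈ R := inv_mem (sqs_le R hz)
          refine ⟨a * z⁻¹, (hOm _).2 ⟨mul_mem haR hzi, mem_bot.2 ?_⟩, ?_⟩
          · rw [hsqmul a haR _ hzi, e, hm]; group
          · rw [hcm y a haR _ hzi, show y * z⁻¹ * y⁻¹ = (y * z * y⁻¹)⁻¹ by group, hzfix, mul_inv_cancel, mul_one]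
      rw [hkq]
      have hqc := hcO y q hq
      refine ⟨mul_mem hqc (inv_mem hq), ?_⟩
      rw [inv_eq_of_mul_eq_one_right (hOm2 q hq), hpm _ hqc q hq, hF.conj y q hq]
      rcases hy with e | e <;> rw [e]
      · rw [← frame_facts.2.2.2.2.2.2.2.1]; exact add_transvection wB (by simp) _
      · exact add_transvection wC (by simp) _
    · intro N hN
      have := card_N_le hF (fun a ha h0 => (hpk a ha).1 h0) hN
      rw [hMc] at this; rw [hH2c]; omega
  · -- the root is fixed modulo `⟨m⟩`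
    have hgen : ∀ y, y * w * y⁻¹ * w⁻¹ ∈ Mm := by
      refine F.gen_induction hS.toTop hs ht (P := fun y => y * w * y⁻¹ * w⁻¹ ∈ Mm) (fun r hr => ?_) ?_ ?_ ?_
      · rw [hcomm r hr w hw, mul_inv_cancel_right, mul_inv_cancel]; exact one_mem _
      · rw [hsw, mul_inv_cancel]; exact one_mem _
      · rw [hε, hu0]
        refine mul_mem ?_ (pow_mem (mem_zpowers m) _)
        simp [lft]
      · intro a b ha hb
        rw [show a * b * w * (a * b)⁻¹ * w⁻¹ = a * (b * w * b⁻¹ * w⁻¹) * a⁻¹ * (a * w * a⁻¹ * w⁻¹) by group]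
        exact mul_mem (hMn.conj_mem _ hb a) ha
    have hOH : Om ≤ H2 := fun a ha => (hH2 a).2 ⟨hOmR ha, by rw [hOm2 a ha]; exact one_mem _⟩
    have hPH : sqs R ≤ H2 := fun x hx => (hH2 x).2 ⟨sqs_le R hx, by
      rcases hPcases x hx with e | e | e | e <;> rw [e]
      · rw [mul_one]; exact one_mem _
      · exact mem_zpowers m
      · rw [hm2]; exact one_mem _
      · rw [hsqmul z (sqs_le R hz) m hmR, hm2, mul_one]; exact mem_zpowers m⟩
    obtain ⟨q, hqm, hqs, hqk⟩ := exists_coord hPH (fun a ha => mem_sqs (hH2R ha)) (by rw [hH2c, hP])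
    have hne' : ∃ y, ∃ a ∈ H2, q (y * a * y⁻¹) ≠ q a := by
      by_contra h; push Not at h
      refine hnofix fun a ha => hliftfix H2 (sqs R) hH2R hPfix (fun a ha => ?_) a (hOH ha)
      have hca : s7 * a * s7⁻¹ ∈ H2 := Subgroup.Normal.conj_mem inferInstance a ha s7
      refine (hqk _ (mul_mem hca (inv_mem ha))).1 ?_
      have e := hqm _ (mul_mem hca (inv_mem ha)) _ ha
      rw [inv_mul_cancel_right, h s7 a ha] at e
      exact (right_eq_add.1 e)
    obtain ⟨F', hF'⟩ := exists_frame hS.toTop hqm hqs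
      (fun y a ha h0 => by
        rw [hqk _ (Subgroup.Normal.conj_mem inferInstance a ha y)]
        exact Subgroup.Normal.conj_mem inferInstance _ ((hqk a ha).1 h0) y)
      (fun r hr a ha => by rw [hcomm r hr a (hH2R ha), mul_inv_cancel_right]) hne'
    refine false_of_parity hS.rank F' hS.two hcomm Om H2 hH2R ?_ ?_ hF' R le_rfl ?_ ?_ ?_
    · intro a ha haO
      refine (hH2 a).2 ⟨ha, ?_⟩
      have h2 := hOm2 _ haO
      rcases hPcases _ (mem_sqs ha) with e | e | e | e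
      · rw [e]; exact one_mem _
      · rw [e] at h2; exact absurd h2 hz2
      · rw [e]; exact mem_zpowers m
      · rw [e, hsqmul z (sqs_le R hz) m hmR, hm2, mul_one] at h2; exact absurd h2 hz2
    · exact fun y a ha => hkO y a ha (mem_sqs ha)
    · exact fun a ha => ⟨hPH (mem_sqs ha), (hqk _ (hPH (mem_sqs ha))).2 (mem_sqs ha)⟩
    · intro y hy a ha
      obtain ⟨q0, hq0, n, rfl⟩ := hRdec a ha
      rw [hcm y q0 (hOmR hq0) _ (pow_mem hw n), hcpow]
      have hk1' : (y * w * y⁻¹ * w⁻¹) ^ n ∈ H2 := hOH (hMO (pow_mem (hgen y) n))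
      have hk0' : y * q0 * y⁻¹ * q0⁻¹ ∈ H2 := hOH (mul_mem (hcO y q0 hq0) (inv_mem hq0))
      refine ⟨mul_mem hk0' hk1', ?_⟩
      rw [hqm _ hk0' _ hk1', (hqk _ hk1').2 (hMP (pow_mem (hgen y) n)), add_zero,
        inv_eq_of_mul_eq_one_right (hOm2 q0 hq0), hqm _ (hOH (hcO y q0 hq0)) _ (hOH hq0), hF'.conj y q0 (hOH hq0)]
      rcases hy with e | e <;> rw [e]
      · rw [← frame_facts.2.2.2.2.2.2.2.1]; exact add_transvection wB (by simp) _
      · exact add_transvection wC (by simp) _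
    · intro N hN
      have := card_N_le hF' (fun a ha h0 => (hqk a ha).1 h0) hN
      rw [hP] at this; rw [hcard]; omega

end CfsgLib.L32
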