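import Cfsg.Agent.SectRankFour.L32.Kill
import Cfsg.Agent.SectRankFour.L32.Eight
import Cfsg.Agent.SectRankFour.FrattiniLayers

/-!
Commutator and squaring maps on sections carrying the natural module of `GL(3,2)`.
-/

set_option autoImplicit false
set_option linter.style.haveILetI false
set_option linter.unusedSectionVars false
set_option linter.unusedSimpArgs false

namespace CfsgLib.L32

open Subgroup

universe u

variable {Y : Type u} [Group Y] [Finite Y] {R : Subgroup Y}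

theorem basis_facts : (∀ v : Vec (ZMod 2), v ≠ 0 → v ≠ (1, 0, 0) →
      ∃ M : Mat (ZMod 2), det3 M = 1 ∧ mv M (1, 0, 0) = (1, 0, 0) ∧ mv M (0, 1, 0) = v) ∧
    (∀ v : Vec (ZMod 2), v + v = 0) := by decide +kernel

theorem mul_add_pair {F : Frame R} {L : Subgroup Y} {p : Y → Vec (ZMod 2)} (hp : NatSec F L p) {x : Y}
    (hx : x ∈ L) : p x⁻¹ = p x := by
  have := hp.mul x⁻¹ (inv_mem hx) x hx
  rw [inv_mul_cancel, hp.map_one] at this
  generalize p x⁻¹ = a, p x = b at this ⊢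
  revert this; revert a b; decide +kernel

theorem NatSec.ker_mem {F : Frame R} {L : Subgroup Y} {p : Y → Vec (ZMod 2)} (hp : NatSec F L p) {M : Subgroup Y}
    (hker : ∀ a ∈ L, p a = 0 → a ∈ M) {a b : Y} (ha : a ∈ L) (hb : b ∈ L) (h : p a = p b) : a⁻¹ * b ∈ M := by
  refine hker _ (mul_mem (inv_mem ha) hb) ?_
  rw [hp.mul _ (inv_mem ha) _ hb, mul_add_pair hp ha, h, basis_facts.2]

/-- A biadditive commutator into a trivial module vanishes on the natural module. -/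
theorem comm_of_sigma {F : Frame R} {L : Subgroup Y} [L.Normal] {p : Y → Vec (ZMod 2)} (hp : NatSec F L p)
    {s : Y} (hs : F.φ s = sig) (hcc : ∀ a ∈ L, ∀ b ∈ L, ∀ c ∈ L, a * b * a⁻¹ * b⁻¹ * c = c * (a * b * a⁻¹ * b⁻¹))
    (hinv : ∀ a ∈ L, ∀ b ∈ L, (a * b * a⁻¹ * b⁻¹) * (a * b * a⁻¹ * b⁻¹) = 1)
    (hsfix : ∀ a ∈ L, ∀ b ∈ L, s * (a * b * a⁻¹ * b⁻¹) * s⁻¹ = a * b * a⁻¹ * b⁻¹)
    (hker : ∀ a ∈ L, p a = 0 → ∀ b ∈ L, a * b = b * a) : ∀ a ∈ L, ∀ b ∈ L, a * b = b * a := by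
  obtain ⟨a0, ha0, hp0⟩ := hp.surj e0
  obtain ⟨a1, ha1d⟩ : ∃ x, x = s * a0 * s⁻¹ := ⟨_, rfl⟩
  obtain ⟨a2, ha2d⟩ : ∃ x, x = s * a1 * s⁻¹ := ⟨_, rfl⟩
  have hn : ∀ a ∈ L, s * a * s⁻¹ ∈ L := fun a ha => Subgroup.Normal.conj_mem inferInstance a ha s
  have ha1 : a1 ∈ L := ha1d ▸ hn a0 ha0
  have ha2 : a2 ∈ L := ha2d ▸ hn a1 ha1
  have hp1 : p a1 = (0, 1, 0) := by rw [ha1d, hp.conj s a0 ha0, hs, hp0]; decide
  have hp2 : p a2 = (0, 0, 1) := by rw [ha2d, hp.conj s a1 ha1, hs, hp1]; decide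
  set c : Y → Y → Y := fun a b => a * b * a⁻¹ * b⁻¹ with hc
  have hone : ∀ a ∈ L, ∀ b ∈ L, c a b = 1 → a * b = b * a := fun a _ b _ h => by
    have h : a * b * a⁻¹ * b⁻¹ = 1 := h
    rw [mul_inv_eq_one, mul_inv_eq_iff_eq_mul] at h; exact h
  have hk : ∃ k ∈ L, p k = 0 ∧ s * a2 * s⁻¹ = a0 * a1 * k := by
    refine ⟨(a0 * a1)⁻¹ * (s * a2 * s⁻¹), mul_mem (inv_mem (mul_mem ha0 ha1)) (hn a2 ha2), ?_, by group⟩
    rw [hp.mul _ (inv_mem (mul_mem ha0 ha1)) _ (hn a2 ha2), mul_add_pair hp (mul_mem ha0 ha1),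
      hp.mul _ ha0 _ ha1, hp.conj s a2 ha2, hs, hp0, hp1, hp2]
    decide
  obtain ⟨k, hkL, hpk, hsa2⟩ := hk
  have hleft : ∀ x ∈ L, ∀ y ∈ L, ∀ z ∈ L, c (x * y) z = c x z * c y z := fun x hx y hy z hz => by
    show x * y * z * (x * y)⁻¹ * z⁻¹ = x * z * x⁻¹ * z⁻¹ * (y * z * y⁻¹ * z⁻¹)
    calc x * y * z * (x * y)⁻¹ * z⁻¹ = x * (y * z * y⁻¹ * z⁻¹) * (z * x⁻¹ * z⁻¹) := by group
      _ = y * z * y⁻¹ * z⁻¹ * (x * (z * x⁻¹ * z⁻¹)) := by rw [← hcc y hy z hz x hx, mul_assoc]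
      _ = y * z * y⁻¹ * z⁻¹ * (x * z * x⁻¹ * z⁻¹) := by group
      _ = _ := hcc y hy z hz _ (mul_mem (mul_mem (mul_mem hx hz) (inv_mem hx)) (inv_mem hz))
  have hself : ∀ x, c x x = 1 := fun x => by simp [hc]
  have hkc : ∀ x ∈ L, c k x = 1 := fun x hx => by
    show k * x * k⁻¹ * x⁻¹ = 1
    rw [hker k hkL hpk x hx]; group
  have hswap : ∀ x ∈ L, ∀ y ∈ L, c x y = c y x := fun x hx y hy => by
    have : (c y x)⁻¹ = c x y := by simp only [hc]; group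
    rw [← this]; exact inv_eq_of_mul_eq_one_right (hinv y hy x hx)
  have hs_c : ∀ x ∈ L, ∀ y ∈ L, c x y = c (s * x * s⁻¹) (s * y * s⁻¹) := fun x hx y hy => by
    simp only [hc]; conv_lhs => rw [← hsfix x hx y hy]
    group
  have e01 : c a0 a1 = c a1 a2 := by rw [hs_c a0 ha0 a1 ha1, ← ha1d, ← ha2d]
  have e20 : c a2 a0 = 1 := by
    have h := hs_c a1 ha1 a2 ha2
    rw [← ha2d, hsa2, hswap a2 ha2 _ (mul_mem (mul_mem ha0 ha1) hkL), hleft _ (mul_mem ha0 ha1) k hkL a2 ha2,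
      hleft a0 ha0 a1 ha1 a2 ha2, hkc a2 ha2, mul_one, right_eq_mul] at h
    rw [hswap a2 ha2 a0 ha0]; exact h
  have e01' : c a0 a1 = 1 := by
    have h := hs_c a2 ha2 a0 ha0
    rw [hsa2, ← ha1d, hleft _ (mul_mem ha0 ha1) k hkL a1 ha1, hleft a0 ha0 a1 ha1 a1 ha1, hself, hkc a1 ha1,
      mul_one, mul_one, e20] at h
    exact h.symm
  have e12 : c a1 a2 = 1 := e01 ▸ e01'
  have h01 := hone a0 ha0 a1 ha1 e01'
  have h12 := hone a1 ha1 a2 ha2 e12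
  have h20 := hone a2 ha2 a0 ha0 e20
  -- the commuting elements generate
  set S : Set Y := {a0, a1, a2} ∪ {x | x ∈ L ∧ p x = 0}
  have hgen : ∀ a ∈ L, a ∈ closure S := by
    intro a ha
    have hm : ∀ x ∈ S, x ∈ closure S := fun x hx => subset_closure hx
    obtain ⟨q, hq, hqc, hpq⟩ : ∃ q ∈ L, q ∈ closure S ∧ p q = p a := by
      have h0 : a0 ∈ closure S := hm _ (Or.inl (Or.inl rfl))
      have h1 : a1 ∈ closure S := hm _ (Or.inl (Or.inr (Or.inl rfl)))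
      have h2 : a2 ∈ closure S := hm _ (Or.inl (Or.inr (Or.inr rfl)))
      obtain ⟨x, y, z⟩ : Vec (ZMod 2) := p a
      refine ⟨a0 ^ x.val * a1 ^ y.val * a2 ^ z.val, mul_mem (mul_mem (pow_mem ha0 _) (pow_mem ha1 _)) (pow_mem ha2 _),
        mul_mem (mul_mem (pow_mem h0 _) (pow_mem h1 _)) (pow_mem h2 _), ?_⟩
      rw [hp.mul _ (mul_mem (pow_mem ha0 _) (pow_mem ha1 _)) _ (pow_mem ha2 _),
        hp.mul _ (pow_mem ha0 _) _ (pow_mem ha1 _)]
      rcases zmod_two_cases x with rfl | rfl <;> rcases zmod_two_cases y with rfl | rfl <;>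
        rcases zmod_two_cases z with rfl | rfl <;>
        simp [hp.map_one, hp0, hp1, hp2, ZMod.val_one, e0, Prod.ext_iff]
    have : q⁻¹ * a ∈ closure S := hm _ (Or.inr ⟨mul_mem (inv_mem hq) ha, by
      rw [hp.mul _ (inv_mem hq) _ ha, mul_add_pair hp hq, hpq, basis_facts.2]⟩)
    have := mul_mem hqc this
    rwa [mul_inv_cancel_left] at this
  have hS : ∀ x ∈ S, ∀ y ∈ S, x * y = y * x := by
    rintro x ((rfl | rfl | rfl) | ⟨hx, hpx⟩) y ((rfl | rfl | rfl) | ⟨hy, hpy⟩)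
    all_goals first
      | rfl
      | assumption
      | exact h01.symm
      | exact h12.symm
      | exact h20.symm
      | (exact hker _ hx hpx _ (by assumption))
      | (exact (hker _ hy hpy _ (by assumption)).symm)
  intro a ha b hb
  have := (isMulCommutative_closure hS).is_comm.comm ⟨a, hgen a ha⟩ ⟨b, hgen b hb⟩
  exact congrArg Subtype.val this

/-- An element whose commutators with an abelian natural section are invariant under `s` centralises it. -/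
theorem hom_zero {F : Frame R} {L : Subgroup Y} [L.Normal] {p : Y → Vec (ZMod 2)} (hp : NatSec F L p)
    {s : Y} (hs : F.φ s = sig) {w : Y}
    (hcen : ∀ x ∈ L, ∀ y ∈ L, w * x * w⁻¹ * x⁻¹ * y = y * (w * x * w⁻¹ * x⁻¹))
    (hker : ∀ x ∈ L, p x = 0 → w * x = x * w)
    (heq : ∀ x ∈ L, w * (s * x * s⁻¹) * w⁻¹ * (s * x * s⁻¹)⁻¹ = w * x * w⁻¹ * x⁻¹) :
    ∀ x ∈ L, w * x = x * w := by
  obtain ⟨a0, ha0, hp0⟩ := hp.surj e0
  obtain ⟨a1, ha1d⟩ : ∃ x, x = s * a0 * s⁻¹ := ⟨_, rfl⟩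
  obtain ⟨a2, ha2d⟩ : ∃ x, x = s * a1 * s⁻¹ := ⟨_, rfl⟩
  have hn : ∀ a ∈ L, s * a * s⁻¹ ∈ L := fun a ha => Subgroup.Normal.conj_mem inferInstance a ha s
  have ha1 : a1 ∈ L := ha1d ▸ hn a0 ha0
  have ha2 : a2 ∈ L := ha2d ▸ hn a1 ha1
  have hp1 : p a1 = (0, 1, 0) := by rw [ha1d, hp.conj s a0 ha0, hs, hp0]; decide
  have hp2 : p a2 = (0, 0, 1) := by rw [ha2d, hp.conj s a1 ha1, hs, hp1]; decide
  set d : Y → Y := fun x => w * x * w⁻¹ * x⁻¹ with hd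
  have hmul : ∀ x ∈ L, ∀ y ∈ L, d (x * y) = d x * d y := fun x hx y hy => by
    show w * (x * y) * w⁻¹ * (x * y)⁻¹ = w * x * w⁻¹ * x⁻¹ * (w * y * w⁻¹ * y⁻¹)
    calc w * (x * y) * w⁻¹ * (x * y)⁻¹ = w * x * w⁻¹ * ((w * y * w⁻¹ * y⁻¹) * x⁻¹) := by group
      _ = w * x * w⁻¹ * (x⁻¹ * (w * y * w⁻¹ * y⁻¹)) := by rw [hcen y hy _ (inv_mem hx)]
      _ = _ := by group
  have h1 : d a1 = d a0 := by rw [ha1d]; exact heq a0 ha0
  have h2 : d a2 = d a0 := by rw [ha2d]; exact (heq a1 ha1).trans h1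
  have hk : ∀ k ∈ L, p k = 0 → d k = 1 := fun k hk hpk => by
    show w * k * w⁻¹ * k⁻¹ = 1
    rw [hker k hk hpk]; group
  have hsa : (a0 * a1)⁻¹ * (s * a2 * s⁻¹) ∈ L := mul_mem (inv_mem (mul_mem ha0 ha1)) (hn a2 ha2)
  have h0 : d a0 = 1 := by
    have e : d (s * a2 * s⁻¹) = d a0 * d a1 := by
      conv_lhs => rw [← mul_inv_cancel_left (a0 * a1) (s * a2 * s⁻¹)]
      rw [hmul _ (mul_mem ha0 ha1) _ hsa, hmul _ ha0 _ ha1, hk _ hsa, mul_one]
      rw [hp.mul _ (inv_mem (mul_mem ha0 ha1)) _ (hn a2 ha2), mul_add_pair hp (mul_mem ha0 ha1),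
        hp.mul _ ha0 _ ha1, hp.conj s a2 ha2, hs, hp0, hp1, hp2]
      decide
    have e2 : d (s * a2 * s⁻¹) = d a2 := heq a2 ha2
    rw [e2, h2, h1] at e
    exact left_eq_mul.1 e
  intro x hx
  have hb : ∀ y : Y, w * y * w⁻¹ * y⁻¹ = 1 → w * y = y * w := fun y h => by
    rw [mul_inv_eq_one, mul_inv_eq_iff_eq_mul] at h; exact h
  refine hb x ?_
  obtain ⟨q, hq, hdq, hpq⟩ : ∃ q ∈ L, d q = 1 ∧ p q = p x := by
    obtain ⟨a, b, c⟩ : Vec (ZMod 2) := p x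
    refine ⟨a0 ^ a.val * a1 ^ b.val * a2 ^ c.val, mul_mem (mul_mem (pow_mem ha0 _) (pow_mem ha1 _)) (pow_mem ha2 _), ?_, ?_⟩
    · rcases zmod_two_cases a with rfl | rfl <;> rcases zmod_two_cases b with rfl | rfl <;>
        rcases zmod_two_cases c with rfl | rfl <;>
        simp [ZMod.val_one, hmul _ ha0 _ ha1, hmul _ ha0 _ ha2, hmul _ ha1 _ ha2, hmul _ (mul_mem ha0 ha1) _ ha2,
          h0, h1, h2, hk 1 (one_mem _) hp.map_one]
    · rw [hp.mul _ (mul_mem (pow_mem ha0 _) (pow_mem ha1 _)) _ (pow_mem ha2 _),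
        hp.mul _ (pow_mem ha0 _) _ (pow_mem ha1 _)]
      rcases zmod_two_cases a with rfl | rfl <;> rcases zmod_two_cases b with rfl | rfl <;>
        rcases zmod_two_cases c with rfl | rfl <;>
        simp [hp.map_one, hp0, hp1, hp2, ZMod.val_one, e0, Prod.ext_iff]
  show d x = 1
  have e : x = q * (q⁻¹ * x) := by group
  rw [e, hmul q hq _ (mul_mem (inv_mem hq) hx), hdq, one_mul, hk _ (mul_mem (inv_mem hq) hx)]
  rw [hp.mul _ (inv_mem hq) _ hx, mul_add_pair hp hq, hpq, basis_facts.2]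

/-- A squaring map from the natural module to the natural module is zero or an isomorphism, and the
commutators vanish. -/
theorem line {F Fn : Frame R} {L N : Subgroup Y} [L.Normal] [N.Normal] {p pn : Y → Vec (ZMod 2)}
    (hp : NatSec F L p) (hn : NatSec Fn N pn) (hnker : ∀ n ∈ N, pn n = 0 → n = 1)
    (hsq : ∀ x ∈ L, x * x ∈ N) (hN2 : ∀ n ∈ N, n * n = 1)
    (hcc : ∀ a ∈ L, ∀ b ∈ L, ∀ c ∈ L, a * b * a⁻¹ * b⁻¹ * c = c * (a * b * a⁻¹ * b⁻¹))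
    (hcinv : ∀ a ∈ L, ∀ b ∈ L, (a * b * a⁻¹ * b⁻¹) * (a * b * a⁻¹ * b⁻¹) = 1)
    (hker : ∀ a ∈ L, p a = 0 → a * a = 1 ∧ ∀ b ∈ L, a * b = b * a) :
    (∀ x ∈ L, x * x = 1) ∨
      ((∀ a ∈ L, ∀ b ∈ L, a * b = b * a) ∧ (∀ x ∈ L, x * x = 1 → p x = 0) ∧ ∀ n ∈ N, ∃ x ∈ L, n = x * x) := by
  classical
  have hconjL : ∀ y, ∀ a ∈ L, y * a * y⁻¹ ∈ L := fun y a ha => Subgroup.Normal.conj_mem inferInstance a ha y
  have hwd : ∀ a ∈ L, ∀ b ∈ L, p a = p b → a * a = b * b := fun a ha b hb h => by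
    have hk : p (a⁻¹ * b) = 0 := by
      rw [hp.mul _ (inv_mem ha) _ hb, mul_add_pair hp ha, h, basis_facts.2]
    obtain ⟨hk2, hkc⟩ := hker _ (mul_mem (inv_mem ha) hb) hk
    set k := a⁻¹ * b
    have e : b = a * k := by simp only [k]; group
    calc a * a = a * a * (k * k) := by rw [hk2, mul_one]
      _ = a * (a * k) * k := by group
      _ = a * (k * a) * k := by rw [hkc a ha]
      _ = b * b := by rw [e]; group
  by_cases hall : ∀ x ∈ L, x * x = 1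
  · exact Or.inl hall
  push Not at hall
  refine Or.inr ?_
  have hnz : ∀ x ∈ L, x * x = 1 → p x = 0 := by
    intro x hx hx2
    by_contra hpx
    obtain ⟨z, hz, hz2⟩ := hall
    have hpz : p z ≠ 0 := fun h => hz2 (hker z hz h).1
    obtain ⟨M, hM, hMx⟩ := trans_vec (p x) hpx
    obtain ⟨M', hM', hMz⟩ := trans_vec (p z) hpz
    obtain ⟨y, hy⟩ := F.surj M hM
    obtain ⟨y', hy'⟩ := F.surj M' hM'
    obtain ⟨a, ha, hpa⟩ := hp.surj e0
    have e1 : x * x = y * (a * a) * y⁻¹ := by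
      rw [hwd x hx _ (hconjL y a ha) (by rw [hp.conj y a ha, hy, hpa, hMx])]; group
    have e2 : z * z = y' * (a * a) * y'⁻¹ := by
      rw [hwd z hz _ (hconjL y' a ha) (by rw [hp.conj y' a ha, hy', hpa, hMz])]; group
    refine hz2 ?_
    rw [hx2, eq_comm, conj_eq_one_iff] at e1
    rw [e2, e1]; group
  have hsurj : ∀ n ∈ N, ∃ x ∈ L, n = x * x := by
    intro n hn'
    by_cases h1 : n = 1
    · exact ⟨1, one_mem _, by rw [h1]; group⟩
    obtain ⟨a, ha, hpa⟩ := hp.surj e0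
    have hq0 : pn (a * a) ≠ 0 := fun h => by
      have := hnz a ha (hnker _ (hsq a ha) h)
      rw [hpa] at this; exact absurd this (by decide)
    obtain ⟨M, hM, hMn⟩ := trans_vec (pn n) (fun h => h1 (hnker n hn' h))
    obtain ⟨M', hM', hMa⟩ := trans_vec (pn (a * a)) hq0
    obtain ⟨y, hy⟩ := Fn.surj M hM
    obtain ⟨y', hy'⟩ := Fn.surj M' hM'
    refine ⟨y * (y'⁻¹ * a * y'⁻¹⁻¹) * y⁻¹, hconjL y _ (hconjL _ a ha), ?_⟩
    set z := y'⁻¹ * (a * a) * y'⁻¹⁻¹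
    have hzN : z ∈ N := Subgroup.Normal.conj_mem inferInstance _ (hsq a ha) _
    have hpz : pn z = e0 := by
      have e := hn.conj y' z hzN
      rw [show y' * z * y'⁻¹ = a * a by simp only [z]; group, hy', ← hMa] at e
      have hinj : ∀ u v, mv M' u = mv M' v → u = v := fun u v huv => by
        have := inj_of_det M' hM' (u + v) (by rw [mv_add, huv, basis_facts.2])
        have hh : ∀ u v : Vec (ZMod 2), u + v = 0 → u = v := by decide +kernel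
        exact hh u v this
      exact (hinj _ _ e).symm
    have hm : y * z * y⁻¹ ∈ N := Subgroup.Normal.conj_mem inferInstance _ hzN y
    have : n = y * z * y⁻¹ := by
      have h0 := hnker _ (mul_mem (inv_mem hn') hm) (by
        rw [hn.mul _ (inv_mem hn') _ hm, mul_add_pair hn hn', hn.conj y z hzN, hy, hpz, hMn, basis_facts.2])
      rwa [inv_mul_eq_one] at h0
    rw [this]; simp only [z]; group
  refine ⟨?_, hnz, hsurj⟩
  choose A hA hpA using hp.surj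
  have hgb : Function.Bijective fun v => (⟨A v * A v, hsq _ (hA v)⟩ : N) := by
    refine (Nat.bijective_iff_surjective_and_card _).2 ⟨fun n => ?_, ?_⟩
    · obtain ⟨x, hx, hxe⟩ := hsurj n n.2
      exact ⟨p x, Subtype.ext ((hwd _ (hA _) x hx (hpA _)).trans hxe.symm)⟩
    · refine (Nat.card_eq_of_bijective (fun n : N => pn n) ⟨fun a b h => Subtype.ext ?_, fun v => ?_⟩).symm
      · exact inv_mul_eq_one.1 (hnker _ (mul_mem (inv_mem a.2) b.2) (by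
          have h : pn a = pn b := h
          rw [hn.mul _ (inv_mem a.2) _ b.2, mul_add_pair hn a.2, h, basis_facts.2]))
      · obtain ⟨n, hn', e⟩ := hn.surj v; exact ⟨⟨n, hn'⟩, e⟩
  have hqinj : ∀ x ∈ L, ∀ x' ∈ L, x * x = x' * x' → p x = p x' := fun x hx x' hx' h => by
    refine hgb.1 (Subtype.ext ?_)
    show A (p x) * A (p x) = A (p x') * A (p x')
    rw [hwd _ (hA _) x hx (hpA _), hwd _ (hA _) x' hx' (hpA _), h]
  set c : Y → Y → Y := fun a b => a * b * a⁻¹ * b⁻¹ with hc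
  have hcN : ∀ a ∈ L, ∀ b ∈ L, c a b ∈ N := fun a ha b hb => by
    have e : c a b = a * a * (a⁻¹ * b * (a⁻¹ * b)) * (b⁻¹ * b⁻¹) := by simp only [hc]; group
    rw [e]
    exact mul_mem (mul_mem (hsq a ha) (hsq _ (mul_mem (inv_mem ha) hb))) (hsq _ (inv_mem hb))
  have hwdc : ∀ a ∈ L, ∀ b ∈ L, ∀ a' ∈ L, ∀ b' ∈ L, p a = p a' → p b = p b' → c a b = c a' b' := by
    intro a ha b hb a' ha' b' hb' h1 h2
    have ka : a⁻¹ * a' ∈ L := mul_mem (inv_mem ha) ha'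
    have kb : b⁻¹ * b' ∈ L := mul_mem (inv_mem hb) hb'
    have hka := (hker _ ka (by rw [hp.mul _ (inv_mem ha) _ ha', mul_add_pair hp ha, h1, basis_facts.2])).2
    have hkb := (hker _ kb (by rw [hp.mul _ (inv_mem hb) _ hb', mul_add_pair hp hb, h2, basis_facts.2])).2
    set k := a⁻¹ * a' with hk
    set l := b⁻¹ * b' with hl
    have ea : a' = a * k := by rw [hk]; group
    have eb : b' = b * l := by rw [hl]; group
    rw [ea, eb]
    show a * b * a⁻¹ * b⁻¹ = a * k * (b * l) * (a * k)⁻¹ * (b * l)⁻¹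
    symm
    calc a * k * (b * l) * (a * k)⁻¹ * (b * l)⁻¹ = a * (k * (b * l)) * k⁻¹ * a⁻¹ * l⁻¹ * b⁻¹ := by group
      _ = a * (b * l) * a⁻¹ * l⁻¹ * b⁻¹ := by rw [hka (b * l) (mul_mem hb kb)]; group
      _ = a * b * (l * a⁻¹) * l⁻¹ * b⁻¹ := by group
      _ = a * b * a⁻¹ * b⁻¹ := by rw [hkb a⁻¹ (inv_mem ha)]; group
  obtain ⟨MA, MB, hdA, hdB, hA0, hA1, hB0, hB1, hfixAB⟩ := line_stab
  obtain ⟨a, ha, hpa⟩ := hp.surj (1, 0, 0)
  obtain ⟨b, hb, hpb⟩ := hp.surj (0, 1, 0)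
  have hab : c a b = 1 := by
    obtain ⟨x, hx, hxe⟩ := hsurj _ (hcN a ha b hb)
    obtain ⟨yA, hyA⟩ := F.surj MA hdA
    obtain ⟨yB, hyB⟩ := F.surj MB hdB
    have hcy : ∀ y, y * c a b * y⁻¹ = c (y * a * y⁻¹) (y * b * y⁻¹) := fun y => by simp only [hc]; group
    have fixed : ∀ y, c (y * a * y⁻¹) (y * b * y⁻¹) = c a b → mv (F.φ y) (p x) = p x := fun y hy => by
      rw [← hp.conj y x hx]
      refine hqinj _ (hconjL y x hx) x hx ?_
      rw [show y * x * y⁻¹ * (y * x * y⁻¹) = y * (x * x) * y⁻¹ by group, ← hxe, hcy, hy]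
    have hx0 : p x = 0 := by
      refine hfixAB _ (hyA ▸ fixed yA ?_) (hyB ▸ fixed yB ?_)
      · exact hwdc _ (hconjL _ a ha) _ (hconjL _ b hb) a ha b hb (by rw [hp.conj _ a ha, hyA, hpa, hA0])
          (by rw [hp.conj _ b hb, hyA, hpb, hA1])
      · rw [hwdc _ (hconjL _ a ha) _ (hconjL _ b hb) b hb (a * b) (mul_mem ha hb) (by rw [hp.conj _ a ha, hyB, hpa, hB0, hpb])
          (by rw [hp.conj _ b hb, hyB, hpb, hB1, hp.mul a ha b hb, hpa, hpb]; decide)]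
        have e : c b (a * b) = (c a b)⁻¹ := by simp only [hc]; group
        rw [e]; exact inv_eq_of_mul_eq_one_right (hcinv a ha b hb)
    rw [hxe]; exact (hker x hx hx0).1
  intro x hx x' hx'
  suffices h : c x x' = 1 by
    have h : x * x' * x⁻¹ * x'⁻¹ = 1 := h
    rw [mul_inv_eq_one, mul_inv_eq_iff_eq_mul] at h; exact h
  by_cases h0 : p x = 0
  · show x * x' * x⁻¹ * x'⁻¹ = 1
    rw [(hker x hx h0).2 x' hx']; group
  by_cases h0' : p x' = 0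
  · show x * x' * x⁻¹ * x'⁻¹ = 1
    rw [← (hker x' hx' h0').2 x hx]; group
  by_cases heq : p x = p x'
  · rw [hwdc x hx x' hx' x hx x hx rfl heq.symm]
    simp [hc]
  obtain ⟨M1, hM1, hM1x⟩ := trans_vec (p x) h0
  obtain ⟨y1, hy1⟩ := F.surj M1 hM1
  set z := y1⁻¹ * x' * y1⁻¹⁻¹
  have hz : z ∈ L := hconjL _ x' hx'
  have hyz : mv M1 (p z) = p x' := by
    rw [← hy1, ← hp.conj y1 z hz]; simp only [z]; group
  have hz0 : p z ≠ 0 := fun h => h0' (by rw [← hyz, h, mv_zero])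
  have hz1 : p z ≠ (1, 0, 0) := fun h => heq (by rw [← hM1x, ← hyz, h]; rfl)
  obtain ⟨M2, hM2, hM2a, hM2b⟩ := basis_facts.1 (p z) hz0 hz1
  obtain ⟨y2, hy2⟩ := F.surj M2 hM2
  rw [hwdc x hx x' hx' (y1 * (y2 * a * y2⁻¹) * y1⁻¹) (hconjL _ _ (hconjL _ a ha)) (y1 * (y2 * b * y2⁻¹) * y1⁻¹)
    (hconjL _ _ (hconjL _ b hb))
    (by rw [hp.conj y1 _ (hconjL _ a ha), hp.conj y2 a ha, hy1, hy2, hpa, hM2a]; exact hM1x.symm)
    (by rw [hp.conj y1 _ (hconjL _ b hb), hp.conj y2 b hb, hy1, hy2, hpb, hM2b, hyz])]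
  have e : c (y1 * (y2 * a * y2⁻¹) * y1⁻¹) (y1 * (y2 * b * y2⁻¹) * y1⁻¹) = y1 * y2 * c a b * (y1 * y2)⁻¹ := by
    simp only [hc]; group
  rw [e, hab]; group

/-- An element acting on a squaring-natural section by commutators centralises or inverts it. -/
theorem inverts_or_central {F : Frame R} {L : Subgroup Y} [L.Normal] {p : Y → Vec (ZMod 2)}
    (hp : NatSec F L p) (hLc : ∀ a ∈ L, ∀ b ∈ L, a * b = b * a) (hinv : ∀ x ∈ L, x * x = 1 → p x = 0)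
    (hker : ∀ x ∈ L, p x = 0 → x * x = 1) {w : Y}
    (hkw : ∀ x ∈ L, p x = 0 → w * x = x * w)
    (hroot : ∀ x ∈ L, ∃ u ∈ L, u * u = w * x * w⁻¹ * x⁻¹)
    (hw : ∀ y, ∃ l ∈ L, y * w * y⁻¹ = w * l) :
    (∀ x ∈ L, w * x * w⁻¹ * x⁻¹ = 1) ∨ ∀ x ∈ L, w * x * w⁻¹ * x⁻¹ = x * x := by
  classical
  have hsqm : ∀ a ∈ L, ∀ b ∈ L, a * b * (a * b) = a * a * (b * b) := fun a ha b hb => by
    rw [show a * b * (a * b) = a * (b * a) * b by group, hLc b hb a ha]; group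
  have huniq : ∀ u ∈ L, ∀ u' ∈ L, u * u = u' * u' → p u = p u' := fun u hu u' hu' h => by
    have h0 := hinv _ (mul_mem (inv_mem hu) hu') (by rw [hsqm _ (inv_mem hu) _ hu', ← h]; group)
    rw [hp.mul _ (inv_mem hu) _ hu', mul_add_pair hp hu] at h0
    generalize p u = q, p u' = q' at h0 ⊢
    revert h0; revert q q'; decide +kernel
  set d : Y → Y := fun x => w * x * w⁻¹ * x⁻¹ with hd
  have hdm : ∀ x ∈ L, ∀ y ∈ L, d (x * y) = d x * d y := fun x hx y hy => by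
    obtain ⟨u, hu, hue⟩ := hroot y hy
    show w * (x * y) * w⁻¹ * (x * y)⁻¹ = _
    calc w * (x * y) * w⁻¹ * (x * y)⁻¹ = w * x * w⁻¹ * ((w * y * w⁻¹ * y⁻¹) * x⁻¹) := by group
      _ = w * x * w⁻¹ * (x⁻¹ * (w * y * w⁻¹ * y⁻¹)) := by rw [← hue, hLc _ (mul_mem hu hu) _ (inv_mem hx)]
      _ = _ := by simp only [hd]; group
  have hdk : ∀ x ∈ L, ∀ x' ∈ L, p x = p x' → d x = d x' := fun x hx x' hx' h => by
    have hk : d (x⁻¹ * x') = 1 := by
      show w * (x⁻¹ * x') * w⁻¹ * (x⁻¹ * x')⁻¹ = 1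
      rw [hkw _ (mul_mem (inv_mem hx) hx') (by rw [hp.mul _ (inv_mem hx) _ hx', mul_add_pair hp hx, h, basis_facts.2])]
      group
    conv_rhs => rw [← mul_inv_cancel_left x x', hdm x hx _ (mul_mem (inv_mem hx) hx'), hk, mul_one]
  choose rt hrt hrte using hroot
  choose A hA hpA using hp.surj
  let G : Vec (ZMod 2) → Vec (ZMod 2) := fun v => p (rt (A v) (hA v))
  have hG : ∀ x (hx : x ∈ L), p (rt x hx) = G (p x) := fun x hx =>
    huniq _ (hrt x hx) _ (hrt _ _) (by rw [hrte, hrte]; exact hdk x hx _ (hA _) (hpA _).symm)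
  have hadd : ∀ v v', G (v + v') = G v + G v' := fun v v' => by
    have e := hG _ (mul_mem (hA v) (hA v'))
    rw [hp.mul _ (hA v) _ (hA v'), hpA, hpA] at e
    rw [← e, ← hp.mul _ (hrt _ _) _ (hrt _ _)]
    refine huniq _ (hrt _ _) _ (mul_mem (hrt _ _) (hrt _ _)) ?_
    rw [hrte, hsqm _ (hrt _ _) _ (hrt _ _), hrte, hrte]
    exact hdm _ (hA v) _ (hA v')
  have hcj : ∀ y, ∀ a ∈ L, y * a * y⁻¹ ∈ L := fun y a ha => Subgroup.Normal.conj_mem inferInstance a ha y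
  have heq : ∀ y v, G (mv (F.φ y) v) = mv (F.φ y) (G v) := fun y v => by
    have e := hG _ (hcj y _ (hA v))
    rw [hp.conj y _ (hA v), hpA] at e
    rw [← e, ← hp.conj y _ (hrt _ _)]
    refine huniq _ (hrt _ _) _ (hcj y _ (hrt _ _)) ?_
    rw [hrte, show y * rt (A v) (hA v) * y⁻¹ * (y * rt (A v) (hA v) * y⁻¹) =
      y * (rt (A v) (hA v) * rt (A v) (hA v)) * y⁻¹ by group, hrte]
    obtain ⟨l, hl, hle⟩ := hw y
    set x := A v
    have hx : x ∈ L := hA v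
    calc w * (y * x * y⁻¹) * w⁻¹ * (y * x * y⁻¹)⁻¹
        = w * (l * (y * x * y⁻¹) * l⁻¹) * w⁻¹ * (y * x * y⁻¹)⁻¹ := by
          rw [hLc l hl _ (hcj y x hx)]; group
      _ = w * l * (y * x * y⁻¹) * (w * l)⁻¹ * (y * x * y⁻¹)⁻¹ := by group
      _ = y * (w * x * w⁻¹ * x⁻¹) * y⁻¹ := by rw [← hle]; group
  obtain ⟨s, hs⟩ := F.exists_sigma
  obtain ⟨t, ht⟩ := F.exists_tau
  set Mt : Mat (ZMod 2) := (G (1, 0, 0), G (0, 1, 0), G (0, 0, 1))
  have hMt : ∀ v, mv Mt v = G v := fun v => (eq_mv G hadd v).symm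
  rcases commutant Mt (mv_ext fun v => by rw [mv_mm, mv_mm, hMt, hMt, ← hs, heq])
    (mv_ext fun v => by rw [mv_mm, mv_mm, hMt, hMt, ← ht, heq]) with h | h
  · refine Or.inl fun x hx => ?_
    rw [← hrte x hx]
    refine hker _ (hrt x hx) ?_
    rw [hG, ← hMt, h]
    simp [mv]
  · refine Or.inr fun x hx => ?_
    rw [← hrte x hx]
    have e : p (rt x hx) = p x := by rw [hG, ← hMt, h, mv_mid]
    have hk := mul_mem (inv_mem (hrt x hx)) hx
    have h2 := hker _ hk (by rw [hp.mul _ (inv_mem (hrt x hx)) _ hx, mul_add_pair hp (hrt x hx), e, basis_facts.2])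
    rw [hsqm _ (inv_mem (hrt x hx)) _ hx, ← mul_inv_rev, inv_mul_eq_one] at h2
    exact h2

end CfsgLib.L32
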