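import Cfsg.Agent.SectRankFour.L32.Tables
import Cfsg.Agent.SectRankFour.Transvection
import Cfsg.Agent.Solvable.SectionalFour
import Cfsg.Agent.Solvable.TwoMetacyclic

/-!
Groups with a normal 2-subgroup whose factor group is simple of order 168, and the natural frame on their
sections of order eight.
-/

set_option autoImplicit false
set_option linter.style.haveILetI false
set_option linter.unusedSectionVars false

namespace CfsgLib.L32

open Subgroup
open scoped commutatorElement

universe u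

variable {Y : Type u} [Group Y] [Finite Y]

/-- The subgroup generated by the squares of a subgroup. -/
def sqs (R : Subgroup Y) : Subgroup Y := closure ((fun r => r * r) '' (R : Set Y))

theorem sqs_le (R : Subgroup Y) : sqs R ≤ R :=
  (closure_le _).2 (by rintro - ⟨r, hr, rfl⟩; exact mul_mem hr hr)

theorem mem_sqs {R : Subgroup Y} {r : Y} (hr : r ∈ R) : r * r ∈ sqs R := subset_closure ⟨r, hr, rfl⟩

theorem comm_mem_sqs {R : Subgroup Y} {a b : Y} (ha : a ∈ R) (hb : b ∈ R) :
    a * b * a⁻¹ * b⁻¹ ∈ sqs R := by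
  have e : a * b * a⁻¹ * b⁻¹ = a * a * (a⁻¹ * b * (a⁻¹ * b)) * (b⁻¹ * b⁻¹) := by group
  rw [e]
  exact mul_mem (mul_mem (mem_sqs ha) (mem_sqs (mul_mem (inv_mem ha) hb))) (mem_sqs (inv_mem hb))

theorem sqs_normal (R : Subgroup Y) [R.Normal] : (sqs R).Normal := ⟨fun x hx g => by
  induction hx using closure_induction with
  | mem x hx =>
    obtain ⟨r, hr, rfl⟩ := hx
    rw [show g * (r * r) * g⁻¹ = g * r * g⁻¹ * (g * r * g⁻¹) by group]
    exact mem_sqs (Subgroup.Normal.conj_mem inferInstance r hr g)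
  | one => simp
  | mul x y hx hy h1 h2 =>
    rw [show g * (x * y) * g⁻¹ = g * x * g⁻¹ * (g * y * g⁻¹) by group]; exact mul_mem h1 h2
  | inv x hx h => rw [show g * x⁻¹ * g⁻¹ = (g * x * g⁻¹)⁻¹ by group]; exact inv_mem h⟩

theorem map_sqs {Z : Type*} [Group Z] [Finite Z] (f : Y →* Z) (R : Subgroup Y) :
    (sqs R).map f = sqs (R.map f) := by
  rw [sqs, sqs, MonoidHom.map_closure, Set.image_image, coe_map, Set.image_image]
  simp

/-- A normal subgroup with simple factor group of order 168. -/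
structure Top (R : Subgroup Y) : Prop where
  normal : R.Normal
  index : R.index = 168
  simp' : ∀ K : Subgroup Y, K.Normal → R ≤ K → K = R ∨ K = ⊤

/-- The standing hypotheses on `R = O₂(Y)`. -/
structure Setting (R : Subgroup Y) : Prop extends Top R where
  rank : Cfsg.SectionalPRankLE 2 4 Y
  two : IsPGroup 2 R
  self : ∀ y, (∀ v ∈ R, y * v * y⁻¹ * v⁻¹ ∈ sqs R) → y ∈ R

/-- The possible outcomes. -/
def Good (R : Subgroup Y) : Prop :=
  ((∀ r ∈ R, r * r = 1) ∧ (Nat.card R = 8 ∨ Nat.card R = 16)) ∨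
    ((∀ a ∈ R, ∀ b ∈ R, a * b = b * a) ∧ Nat.card R = 32 ∧ Nat.card (sqs R) = 2)

theorem Top.map {R : Subgroup Y} (hR : Top R) {Z : Type*} [Group Z] [Finite Z] (f : Y →* Z)
    (hf : Function.Surjective f) (hK : f.ker ≤ R) : Top (R.map f) := by
  refine ⟨hR.normal.map f hf, ?_, fun K hKn hle => ?_⟩
  · rw [index_map_eq _ hf hK]; exact hR.index
  · rcases hR.simp' (K.comap f) (hKn.comap f) (map_le_iff_le_comap.1 hle) with h | h
    · exact Or.inl (by rw [← h, map_comap_eq_self_of_surjective hf])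
    · exact Or.inr (by rw [← map_comap_eq_self_of_surjective hf K, h, map_top_of_surjective _ hf])

theorem Setting.quot {R : Subgroup Y} (hR : Setting R) (K : Subgroup Y) [K.Normal] (hK : K ≤ sqs R) :
    Setting (R.map (QuotientGroup.mk' K)) := by
  have hf := QuotientGroup.mk'_surjective K
  refine ⟨hR.toTop.map _ hf (by rw [QuotientGroup.ker_mk']; exact hK.trans (sqs_le R)),
    CfsgLib.TwoMetacyclic.sectional_quotient hR.rank K, hR.two.map _, fun y hy => ?_⟩
  obtain ⟨y, rfl⟩ := hf y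
  refine mem_map_of_mem _ (hR.self y fun v hv => ?_)
  have h := hy _ (mem_map_of_mem _ hv)
  rw [← map_mul, ← map_inv, ← map_mul, ← map_inv, ← map_mul, ← map_sqs] at h
  obtain ⟨s, hs, he⟩ := h
  have := hK ((QuotientGroup.eq).1 he)
  exact (mul_mem_cancel_left (inv_mem hs)).1 this

theorem fixed_of_seven {α : Type*} [Finite α] (f : α → α) (hf : ∀ a, f^[7] a = a) (hcard : Nat.card α < 7) (a : α) :
    f a = a := by
  have hp : Function.minimalPeriod f a ∣ 7 := Function.IsPeriodicPt.minimalPeriod_dvd (hf a)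
  rcases (Nat.dvd_prime (by norm_num)).1 hp with h | h
  · exact Function.minimalPeriod_eq_one_iff_isFixedPt.1 h
  · exfalso
    have hinj : Function.Injective (fun i : Fin 7 => f^[i] a) := fun i j hij => by
      have := Function.iterate_injOn_Iio_minimalPeriod (f := f) (x := a)
      exact Fin.ext (this (by rw [h]; exact i.2) (by rw [h]; exact j.2) hij)
    have := Nat.card_le_card_of_injective _ hinj
    rw [Nat.card_eq_fintype_card, Fintype.card_fin] at this
    omega

variable {R : Subgroup Y}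

theorem Top.exists_seven (hR : Top R) : ∃ y, y ∉ R ∧ y ^ 7 ∈ R := by
  haveI := hR.normal
  haveI : Fact (Nat.Prime 7) := ⟨by norm_num⟩
  obtain ⟨q, hq⟩ := exists_prime_orderOf_dvd_card' (G := Y ⧸ R) 7
    (by rw [← index_eq_card, hR.index]; norm_num)
  obtain ⟨y, rfl⟩ := QuotientGroup.mk'_surjective R q
  refine ⟨y, fun h => ?_, (QuotientGroup.eq_one_iff _).1 (by rw [QuotientGroup.mk_pow]; exact hq ▸ pow_orderOf_eq_one _)⟩
  rw [QuotientGroup.mk'_apply, (QuotientGroup.eq_one_iff y).2 h, orderOf_one] at hq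
  norm_num at hq

/-- A set of elements whose inverse is automatic: it contains everything once it contains generators. -/
theorem submonoid_top {P : Y → Prop} (h1 : P 1) (hm : ∀ a b, P a → P b → P (a * b))
    {S : Set Y} (hS : closure S = ⊤) (hP : ∀ s ∈ S, P s) (y : Y) : P y := by
  have hy : y ∈ Submonoid.closure S := by
    rw [← closure_toSubmonoid_of_finite, hS]; exact mem_top y
  induction hy using Submonoid.closure_induction with
  | mem x hx => exact hP x hx
  | one => exact h1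
  | mul x y _ _ a b => exact hm x y a b

theorem zmod_two_cases : ∀ a : ZMod 2, a = 0 ∨ a = 1 := by decide

theorem eq_mv (F : Vec (ZMod 2) → Vec (ZMod 2)) (hF : ∀ v w, F (v + w) = F v + F w) (v : Vec (ZMod 2)) :
    F v = mv (F (1, 0, 0), F (0, 1, 0), F (0, 0, 1)) v := by
  have h0 : F 0 = 0 := by simpa using hF 0 0
  obtain ⟨a, b, c⟩ := v
  have hs : ((a, b, c) : Vec (ZMod 2)) = (a, 0, 0) + (0, b, 0) + (0, 0, c) := by simp
  rw [hs, hF, hF]
  rcases zmod_two_cases a with rfl | rfl <;> rcases zmod_two_cases b with rfl | rfl <;>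
    rcases zmod_two_cases c with rfl | rfl <;> simp [mv, Prod.mk_zero_zero, h0, Prod.ext_iff]

/-- The natural frame: the action of `Y/R` as matrices of determinant one. -/
structure Frame (R : Subgroup Y) where
  /-- The matrix of an element. -/
  φ : Y → Mat (ZMod 2)
  map_mul : ∀ y z, φ (y * z) = mm (φ y) (φ z)
  eq_iff : ∀ y z, φ y = φ z ↔ y⁻¹ * z ∈ R
  det : ∀ y, det3 (φ y) = 1
  surj : ∀ M, det3 M = 1 → ∃ y, φ y = M

/-- A word in two elements. -/
def wY (s t : Y) : List Bool → Y
  | [] => 1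
  | b :: l => (if b then s else t) * wY s t l

theorem wY_append (s t : Y) (l m : List Bool) : wY s t (l ++ m) = wY s t l * wY s t m := by
  induction l with
  | nil => simp [wY]
  | cons b l ih => simp [wY, ih, mul_assoc]

variable (F : Frame R)

theorem Frame.φ_one : F.φ 1 = mid := by
  have h := F.map_mul 1 1
  rw [one_mul] at h
  refine mv_ext fun v => ?_
  have hi := inj_of_det _ (F.det 1)
  have e := congrArg (fun M => mv M v) h
  simp only [mv_mm] at e
  have : mv (F.φ 1) (mv (F.φ 1) v - v) = 0 := by rw [sub_eq_add_neg, mv_add, mv_neg, ← e, add_neg_cancel]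
  rw [mv_mid, ← sub_eq_zero]
  exact hi _ this

theorem Frame.φ_eq_mid {y : Y} : F.φ y = mid ↔ y ∈ R := by
  rw [← F.φ_one, eq_comm, F.eq_iff, inv_one, one_mul]

theorem Frame.φ_wY (s t : Y) (l : List Bool) : F.φ (wY s t l) = wd (F.φ s) (F.φ t) l := by
  induction l with
  | nil => exact F.φ_one
  | cons b l ih => rw [wY, F.map_mul, ih, wd]; cases b <;> rfl

theorem Frame.exists_sigma : ∃ y, F.φ y = sig := F.surj _ (by decide)

theorem Frame.exists_tau : ∃ y, F.φ y = tau := F.surj _ (by decide)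

theorem Frame.wY_mem {s t : Y} (hs : F.φ s = sig) (ht : F.φ t = tau) {l : List Bool}
    (hl : wd sig tau l = mid) : wY s t l ∈ R :=
  F.φ_eq_mid.1 (by rw [F.φ_wY, hs, ht, hl])

theorem Frame.sigma_pow_seven {s : Y} (hs : F.φ s = sig) : s ^ 7 ∈ R := by
  obtain ⟨t, ht⟩ := F.exists_tau
  have := F.wY_mem hs ht frame_facts.1
  simpa [wY, pow_succ, mul_assoc] using this

/-- Elements over the two generators together with `R` generate. -/
theorem Frame.closure_eq_top (hR : Top R) {s t : Y} (hs : F.φ s = sig) (ht : F.φ t = tau) :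
    closure ((R : Set Y) ∪ {s, t}) = ⊤ := by
  haveI := hR.normal
  set K := closure ((R : Set Y) ∪ {s, t}) with hKdef
  have hRK : R ≤ K := fun r hr => subset_closure (Or.inl hr)
  have hs' : s ∈ K := subset_closure (Or.inr (Or.inl rfl))
  have ht' : t ∈ K := subset_closure (Or.inr (Or.inr rfl))
  have hw : ∀ l, wY s t l ∈ K := fun l => by
    induction l with
    | nil => exact one_mem _
    | cons b l ih => exact mul_mem (by cases b <;> assumption) ih
  set π := QuotientGroup.mk' R
  have hne : ∀ y, F.φ y ≠ mid → π y ≠ 1 := fun y hy h => hy (F.φ_eq_mid.2 ((QuotientGroup.eq_one_iff y).1 h))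
  have hdvd : ∀ {y : Y} {n : ℕ}, y ∈ K → orderOf (π y) = n → n ∣ Nat.card (K.map π) := fun {y n} hy hn => by
    rw [← hn]
    rw [← Subgroup.orderOf_mk (π y) (mem_map_of_mem π hy)]
    exact _root_.orderOf_dvd_natCard _
  haveI : Fact (Nat.Prime 7) := ⟨by norm_num⟩
  haveI : Fact (Nat.Prime 3) := ⟨by norm_num⟩
  haveI : Fact (Nat.Prime 2) := ⟨by norm_num⟩
  obtain ⟨f1, f2, f3, f4, f5, f6, f7, f8, f9, f10, f11, f12⟩ := frame_facts
  have h7 : orderOf (π s) = 7 := orderOf_eq_prime
    (by rw [← map_pow]; exact (QuotientGroup.eq_one_iff _).2 (F.sigma_pow_seven hs))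
    (hne s (by rw [hs]; exact f2))
  have hwn : ∀ l, wd sig tau l ≠ mid → π (wY s t l) ≠ 1 := fun l hl => hne _ (by rw [F.φ_wY, hs, ht]; exact hl)
  have hw1 : ∀ l, wd sig tau l = mid → π (wY s t l) = 1 := fun l hl =>
    (QuotientGroup.eq_one_iff _).2 (F.wY_mem hs ht hl)
  have h3 : orderOf (π (wY s t wX)) = 3 := orderOf_eq_prime
    (by have := hw1 _ f6; rw [wY_append, wY_append, _root_.map_mul, _root_.map_mul] at this
        rw [pow_succ, pow_two, this]) (hwn _ (by decide))
  have h4 : orderOf (π (wY s t wG)) = 2 ^ (1 + 1) := orderOf_eq_prime_pow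
    (by rw [pow_one, pow_two, ← _root_.map_mul, ← wY_append]; exact hwn wA (by rw [f7]; decide))
    (by have := hw1 _ f5; rw [wY_append, wY_append, wY_append, _root_.map_mul, _root_.map_mul, _root_.map_mul] at this
        rw [show (2 : ℕ) ^ (1 + 1) = 3 + 1 by norm_num, pow_succ, pow_succ, pow_two, this])
  have h84 : 84 ∣ Nat.card (K.map π) := by
    have e : (84 : ℕ) = 7 * (3 * 2 ^ (1 + 1)) := by norm_num
    rw [e]
    exact Nat.Coprime.mul_dvd_of_dvd_of_dvd (by norm_num) (hdvd hs' h7)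
      (Nat.Coprime.mul_dvd_of_dvd_of_dvd (by norm_num) (hdvd (hw _) h3) (hdvd (hw _) h4))
  have hmul := card_mul_index (K.map π)
  rw [← index_eq_card (H := R), hR.index, index_map_eq _ (QuotientGroup.mk'_surjective R)
    (by rw [QuotientGroup.ker_mk']; exact hRK)] at hmul
  obtain ⟨m, hm⟩ := h84
  rw [hm] at hmul
  have hK2 : K.index = 1 ∨ K.index = 2 := by
    have h2 : K.index ∣ 2 := ⟨m, by rw [mul_assoc] at hmul; linarith⟩
    exact (Nat.dvd_prime Nat.prime_two).1 h2
  rcases hK2 with h | h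
  · exact index_eq_one.1 h
  · rcases hR.simp' K (normal_of_index_eq_two h) hRK with h' | h'
    · rw [h', hR.index] at h; norm_num at h
    · exact h'

theorem Frame.gen_induction (hR : Top R) {s t : Y} (hs : F.φ s = sig) (ht : F.φ t = tau) {P : Y → Prop}
    (hr : ∀ r ∈ R, P r) (h1 : P s) (h2 : P t) (hm : ∀ a b, P a → P b → P (a * b)) (y : Y) : P y :=
  submonoid_top (hr 1 (one_mem _)) hm (F.closure_eq_top hR hs ht)
    (by rintro z (hz | rfl | rfl) <;> [exact hr z hz; exact h1; exact h2]) y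

/-- A section of `Y` carrying the natural module of the frame. -/
structure NatSec (L : Subgroup Y) (p : Y → Vec (ZMod 2)) : Prop where
  mul : ∀ a ∈ L, ∀ b ∈ L, p (a * b) = p a + p b
  surj : ∀ v, ∃ a ∈ L, p a = v
  conj : ∀ y, ∀ a ∈ L, p (y * a * y⁻¹) = mv (F.φ y) (p a)

theorem NatSec.map_one {L : Subgroup Y} {p : Y → Vec (ZMod 2)} (h : NatSec F L p) : p 1 = 0 := by
  simpa using h.mul 1 (one_mem _) 1 (one_mem _)

/-- An elementary section of order eight is coordinatised. -/
theorem exists_coord {L M : Subgroup Y} [M.Normal] (hML : M ≤ L) (hsq : ∀ a ∈ L, a * a ∈ M)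
    (hcard : Nat.card L = 8 * Nat.card M) :
    ∃ p : Y → Vec (ZMod 2), (∀ a ∈ L, ∀ b ∈ L, p (a * b) = p a + p b) ∧ (∀ v, ∃ a ∈ L, p a = v) ∧
      ∀ a ∈ L, p a = 0 ↔ a ∈ M := by
  classical
  set π := QuotientGroup.mk' M
  set Q := L.map π
  have h2 : ∀ q ∈ Q, q * q = 1 := by
    rintro - ⟨a, ha, rfl⟩
    rw [← map_mul]; exact (QuotientGroup.eq_one_iff _).2 (hsq a ha)
  have hinv : ∀ q ∈ Q, q⁻¹ = q := fun q hq => inv_eq_of_mul_eq_one_right (h2 q hq)
  have hc : ∀ a ∈ Q, ∀ b ∈ Q, a * b = b * a := fun a ha b hb => by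
    have := hinv _ (mul_mem ha hb)
    rw [mul_inv_rev, hinv a ha, hinv b hb] at this
    exact this.symm
  have hQ : Nat.card Q = 8 := by
    have h := card_mul_index (M.subgroupOf L)
    rw [Nat.card_congr (subgroupOfEquivOfLe hML).toEquiv] at h
    have h' : (M.subgroupOf L).index = Nat.card Q := by
      have e : (π.subgroupMap L).ker = M.subgroupOf L := by
        ext x; simp [MonoidHom.mem_ker, Subtype.ext_iff, mem_subgroupOf, π]
      rw [← e, index_ker, MonoidHom.range_eq_top.2 (π.subgroupMap_surjective L), card_top]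
    rw [h', hcard, mul_comm (8 : ℕ)] at h
    exact Nat.eq_of_mul_eq_mul_left Nat.card_pos h
  obtain ⟨a, ha, ha1⟩ : ∃ a ∈ Q, a ≠ 1 := by
    by_contra h; push Not at h
    rw [(eq_bot_iff_forall Q).2 h, card_bot] at hQ; norm_num at hQ
  have hbd : ∀ {n : ℕ} (l : Fin n → Y ⧸ M), n < 8 → ∃ b ∈ Q, ∀ i, b ≠ l i := fun {n} l hn => by
    by_contra h; push Not at h
    choose g hg using h
    have := Nat.card_le_card_of_injective (fun q : Q => g q q.2) (fun x y hxy => by
      have hxy : g x x.2 = g y y.2 := hxy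
      exact Subtype.ext ((hg x x.2).trans (hxy ▸ (hg y y.2).symm)))
    rw [hQ, Nat.card_eq_fintype_card, Fintype.card_fin] at this
    omega
  obtain ⟨b, hb, hb'⟩ := hbd ![1, a] (by norm_num)
  obtain ⟨c, hc', hcne⟩ := hbd ![1, a, b, a * b] (by norm_num)
  set f : Vec (ZMod 2) → Y ⧸ M := fun v => a ^ v.1.val * b ^ v.2.1.val * c ^ v.2.2.val
  have hfm : ∀ v, f v ∈ Q := fun v => mul_mem (mul_mem (pow_mem ha _) (pow_mem hb _)) (pow_mem hc' _)
  have hadd : ∀ q ∈ Q, ∀ i j : ZMod 2, q ^ (i + j).val = q ^ i.val * q ^ j.val := fun q hq i j => by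
    rcases zmod_two_cases i with rfl | rfl <;> rcases zmod_two_cases j with rfl | rfl <;>
      simp [show ((1 : ZMod 2) + 1) = 0 by decide, h2 q hq, ZMod.val_one]
  have hf : ∀ v w, f (v + w) = f v * f w := fun v w => by
    have e1 := hc _ (pow_mem hb v.2.1.val) _ (pow_mem ha w.1.val)
    have e2 := hc _ (pow_mem hc' v.2.2.val) _ (mul_mem (pow_mem ha w.1.val) (pow_mem hb w.2.1.val))
    show a ^ (v.1 + w.1).val * b ^ (v.2.1 + w.2.1).val * c ^ (v.2.2 + w.2.2).val = _
    rw [hadd a ha, hadd b hb, hadd c hc']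
    calc a ^ v.1.val * a ^ w.1.val * (b ^ v.2.1.val * b ^ w.2.1.val) * (c ^ v.2.2.val * c ^ w.2.2.val)
        = a ^ v.1.val * (a ^ w.1.val * b ^ v.2.1.val) * b ^ w.2.1.val * c ^ v.2.2.val * c ^ w.2.2.val := by group
      _ = a ^ v.1.val * b ^ v.2.1.val * (a ^ w.1.val * b ^ w.2.1.val * c ^ v.2.2.val) * c ^ w.2.2.val := by
        rw [← e1]; group
      _ = f v * f w := by rw [← e2]; simp only [f, mul_assoc]
  have hker : ∀ v, f v = 1 → v = 0 := by
    rintro ⟨x, y, z⟩ h
    have hz := hcne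
    have hy := hb'
    simp only [Fin.forall_fin_succ, Matrix.cons_val_zero, Matrix.cons_val_succ, IsEmpty.forall_iff, and_true] at hz hy
    have iab : (a * b)⁻¹ = a * b := hinv _ (mul_mem ha hb)
    rcases zmod_two_cases z with rfl | rfl <;> rcases zmod_two_cases y with rfl | rfl <;>
      rcases zmod_two_cases x with rfl | rfl <;>
      simp [f, ZMod.val_one, mul_eq_one_iff_eq_inv'] at h ⊢ <;>
      first
        | exact ha1 h
        | exact hy.1 h
        | exact hz.1 h
        | exact hy.2 (h.trans (hinv a ha))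
        | exact hz.2.1 (h.trans (hinv a ha))
        | exact hz.2.2.1 (h.trans (hinv b hb))
        | exact hz.2.2.2 (h.trans ((mul_inv_rev a b).symm.trans iab))
  have hinj : Function.Injective (fun v => (⟨f v, hfm v⟩ : Q)) := fun v w hvw => by
    have h : f v = f w := congrArg Subtype.val hvw
    have : f (v + w) = 1 := by rw [hf, h, h2 _ (hfm w)]
    have := hker _ this
    exact (add_eq_zero_iff_eq_neg.1 this).trans (by
      obtain ⟨x, y, z⟩ := w; simp [ZMod.neg_eq_self_mod_two])
  have hbij := (Nat.bijective_iff_injective_and_card _).2 ⟨hinj, by rw [hQ, Nat.card_eq_fintype_card]; rfl⟩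
  let e := Equiv.ofBijective _ hbij
  have he : ∀ q : Q, f (e.symm q) = q := fun q => congrArg Subtype.val (e.apply_symm_apply q)
  have hq : ∀ x ∈ L, π x ∈ Q := fun x hx => mem_map_of_mem π hx
  refine ⟨fun x => if hx : π x ∈ Q then e.symm ⟨π x, hx⟩ else 0, fun x hx y hy => ?_, fun v => ?_, fun x hx => ?_⟩
  · beta_reduce
    rw [dif_pos (hq x hx), dif_pos (hq y hy), dif_pos (hq _ (mul_mem hx hy))]
    apply hinj
    apply Subtype.ext
    simp only [he, hf, map_mul]
  · obtain ⟨x, hx, hxe⟩ := hfm v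
    refine ⟨x, hx, ?_⟩
    beta_reduce
    rw [dif_pos (hq x hx)]
    apply hinj; apply Subtype.ext
    simp only [he]; exact hxe
  · beta_reduce
    rw [dif_pos (hq x hx)]
    constructor
    · intro h
      have := he ⟨π x, hq x hx⟩
      rw [h] at this
      have h1 : π x = 1 := by simpa [f] using this.symm
      exact (QuotientGroup.eq_one_iff x).1 h1
    · intro h
      apply hinj; apply Subtype.ext
      have h1 : π x = 1 := (QuotientGroup.eq_one_iff x).2 h
      simp [he, h1, f]

/-- A coordinatised section with nontrivial action gives a frame. -/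
theorem exists_frame (hR : Top R) {L : Subgroup Y} [L.Normal] {p : Y → Vec (ZMod 2)}
    (hmul : ∀ a ∈ L, ∀ b ∈ L, p (a * b) = p a + p b) (hsurj : ∀ v, ∃ a ∈ L, p a = v)
    (hinv : ∀ y, ∀ a ∈ L, p a = 0 → p (y * a * y⁻¹) = 0)
    (htriv : ∀ r ∈ R, ∀ a ∈ L, p (r * a * r⁻¹) = p a)
    (hne : ∃ y, ∃ a ∈ L, p (y * a * y⁻¹) ≠ p a) :
    ∃ F : Frame R, NatSec F L p := by
  classical
  haveI := hR.normal
  choose A hA hpA using hsurj
  have hconj : ∀ y, ∀ a ∈ L, y * a * y⁻¹ ∈ L := fun y a ha => Subgroup.Normal.conj_mem inferInstance a ha y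
  have hp1 : p 1 = 0 := by simpa using hmul 1 (one_mem _) 1 (one_mem _)
  let G : Y → Vec (ZMod 2) → Vec (ZMod 2) := fun y v => p (y * A v * y⁻¹)
  have hwd : ∀ y, ∀ a ∈ L, p (y * a * y⁻¹) = G y (p a) := fun y a ha => by
    have hm : (A (p a))⁻¹ * a ∈ L := mul_mem (inv_mem (hA _)) ha
    have h0 : p ((A (p a))⁻¹ * a) = 0 := by
      have := hmul (A (p a)) (hA _) _ hm
      rw [mul_inv_cancel_left, hpA] at this
      simpa using this.symm
    have h := hinv y _ hm h0
    have e : y * a * y⁻¹ = y * A (p a) * y⁻¹ * (y * ((A (p a))⁻¹ * a) * y⁻¹) := by group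
    rw [e, hmul _ (hconj y _ (hA _)) _ (hconj y _ hm), h, add_zero]
  have hadd : ∀ y v w, G y (v + w) = G y v + G y w := fun y v w => by
    have e := hwd y _ (mul_mem (hA v) (hA w))
    rw [hmul _ (hA v) _ (hA w), hpA, hpA] at e
    rw [← e, show y * (A v * A w) * y⁻¹ = y * A v * y⁻¹ * (y * A w * y⁻¹) by group,
      hmul _ (hconj y _ (hA v)) _ (hconj y _ (hA w))]
  let φ : Y → Mat (ZMod 2) := fun y => (G y (1, 0, 0), G y (0, 1, 0), G y (0, 0, 1))
  have hact : ∀ y, ∀ a ∈ L, p (y * a * y⁻¹) = mv (φ y) (p a) := fun y a ha => by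
    rw [hwd y a ha, eq_mv _ (hadd y)]
  have hφm : ∀ y z, φ (y * z) = mm (φ y) (φ z) := fun y z => mv_ext fun v => by
    rw [← hpA v, ← hact _ _ (hA v), mv_mm, ← hact _ _ (hA v), ← hact _ _ (hconj z _ (hA v))]
    group
  have hφ1 : φ 1 = mid := mv_ext fun v => by
    rw [← hpA v, ← hact _ _ (hA v), mv_mid, one_mul, inv_one, mul_one]
  have hdet : ∀ y, det3 (φ y) = 1 := fun y => det_of_inj _ fun v hv => by
    have := congrArg (mv (φ y⁻¹)) hv
    rwa [mv_zero, ← mv_mm, ← hφm, inv_mul_cancel, hφ1, mv_mid] at this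
  let K : Subgroup Y :=
    { carrier := {y | φ y = mid}
      one_mem' := hφ1
      mul_mem' := fun {a b} (ha : φ a = mid) (hb : φ b = mid) => by
        show φ (a * b) = mid
        exact mv_ext fun v => by rw [hφm, mv_mm, ha, hb, mv_mid, mv_mid]
      inv_mem' := fun {a} (ha : φ a = mid) => by
        show φ a⁻¹ = mid
        exact mv_ext fun v => by
          rw [show φ a⁻¹ = φ a⁻¹ from rfl]
          have := congrArg (fun M => mv M v) (hφm a a⁻¹)
          simp only [mul_inv_cancel, hφ1, mv_mm, ha, mv_mid] at this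
          rw [← this, mv_mid] }
  haveI hKn : K.Normal := ⟨fun a (ha : φ a = mid) g => show φ (g * a * g⁻¹) = mid from mv_ext fun v => by
    rw [hφm, hφm, mv_mm, mv_mm, ha, mv_mid, ← mv_mm, ← hφm, mul_inv_cancel, hφ1]⟩
  have hK : K = R := by
    rcases hR.simp' K hKn (fun r hr => show φ r = mid from mv_ext fun v => by
      rw [← hpA v, ← hact _ _ (hA v), htriv r hr _ (hA v), mv_mid]) with h | h
    · exact h
    · obtain ⟨y, a, ha, hne⟩ := hne
      have hy : φ y = mid := (h ▸ mem_top y : y ∈ K)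
      exact absurd (by rw [hact y a ha, hy, mv_mid]) hne
  have hiff : ∀ y z, φ y = φ z ↔ y⁻¹ * z ∈ R := fun y z => by
    rw [← hK]; show φ y = φ z ↔ φ (y⁻¹ * z) = mid
    constructor
    · intro h; rw [hφm, ← h, ← hφm, inv_mul_cancel, hφ1]
    · intro h
      refine mv_ext fun v => ?_
      have := congrArg (fun M => mv M v) (hφm y (y⁻¹ * z))
      simp only [mul_inv_cancel_left, h, mv_mm, mv_mid] at this
      exact this.symm
  have hsur : ∀ M, det3 M = 1 → ∃ y, φ y = M := by
    let Φ : Y ⧸ R → {M : Mat (ZMod 2) // det3 M = 1} := fun q => ⟨φ q.out, hdet _⟩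
    have hinj : Function.Injective Φ := fun q q' h => by
      rw [← QuotientGroup.out_eq' q, ← QuotientGroup.out_eq' q']
      exact QuotientGroup.eq.2 ((hiff _ _).1 (congrArg Subtype.val h))
    have hbij := (Nat.bijective_iff_injective_and_card Φ).2 ⟨hinj, by
      rw [← index_eq_card, hR.index, Nat.card_eq_fintype_card, card_det]⟩
    intro M hM
    obtain ⟨q, hq⟩ := hbij.2 ⟨M, hM⟩
    exact ⟨q.out, congrArg Subtype.val hq⟩
  exact ⟨⟨φ, hφm, hiff, hdet, hsur⟩, hmul, fun v => ⟨A v, hA v, hpA v⟩, hact⟩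

/-- An elementary normal subgroup of order sixteen centralised by `R` has an invariant subgroup of order two or eight. -/
theorem four_dim (hR : Top R) (L : Subgroup Y) [L.Normal] (h2 : ∀ a ∈ L, a * a = 1) (hL : Nat.card L = 16)
    (hRL : ∀ r ∈ R, ∀ a ∈ L, r * a = a * r) :
    ∃ C : Subgroup Y, C.Normal ∧ C ≤ L ∧ (Nat.card C = 2 ∨ Nat.card C = 8) := by
  classical
  haveI := hR.normal
  obtain ⟨s, hs, hs7⟩ := hR.exists_seven
  have hinv : ∀ a ∈ L, a⁻¹ = a := fun a ha => inv_eq_of_mul_eq_one_right (h2 a ha)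
  have hcomm : ∀ a ∈ L, ∀ b ∈ L, a * b = b * a := fun a ha b hb => by
    have := hinv _ (mul_mem ha hb); rw [mul_inv_rev, hinv a ha, hinv b hb] at this; exact this.symm
  letI : CommGroup L := { (inferInstance : Group L) with mul_comm := fun a b => Subtype.ext (hcomm a a.2 b b.2) }
  have hzp : ∀ c ∈ L, c ≠ 1 → Nat.card (zpowers c) = 2 := fun c hc hc1 => by
    haveI : Fact (Nat.Prime 2) := ⟨Nat.prime_two⟩
    rw [Nat.card_zpowers]; exact orderOf_eq_prime (by rw [pow_two, h2 c hc]) hc1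
  have hcen : ∀ c ∈ L, c ≠ 1 → (∀ y, y * c * y⁻¹ = c) → ∃ C : Subgroup Y, C.Normal ∧ C ≤ L ∧ (Nat.card C = 2 ∨ Nat.card C = 8) := fun c hc hc1 hfix => by
    refine ⟨zpowers c, ⟨?_⟩, zpowers_le.2 hc, Or.inl (hzp c hc hc1)⟩
    rintro - ⟨k, rfl⟩ g
    exact ⟨k, by rw [← conj_zpow, hfix]⟩
  let α : MulAut L := MulAut.conjNormal s
  have hα : ∀ a : L, ((α a : L) : Y) = s * a * s⁻¹ := fun a => MulAut.conjNormal_apply s a
  have hW2 : ∀ v : L, v * v = 1 := fun v => Subtype.ext (h2 v v.2)
  have hα7 : α ^ 7 = 1 := by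
    rw [← map_pow]; ext a
    rw [MulAut.conjNormal_apply, MulAut.one_apply, hRL _ hs7 _ a.2, mul_inv_cancel_right]
  haveI : Fact (Nat.Prime 7) := ⟨by norm_num⟩
  have hmod := SectRankFour.modEq_ker hW2 (p := 7) hα7
  have hker : ∀ a : L, a ∈ (SectRankFour.delta α).ker ↔ α a = a := fun a => SectRankFour.mem_ker_delta hW2 α a
  have hdvd : Nat.card (SectRankFour.delta α).ker ∣ 16 := hL ▸ card_subgroup_dvd_card _
  have hmulc := SectRankFour.card_ker_range α
  by_cases hall : ∀ a : L, α a = a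
  · -- everything commutes with `s`, hence with `Y`
    have hcent : centralizer (L : Set Y) = ⊤ := by
      haveI : (centralizer (L : Set Y)).Normal := inferInstance
      rcases hR.simp' _ ‹_› (fun r hr => mem_centralizer_iff.2 fun a ha => (hRL r hr a ha).symm) with h | h
      · refine absurd (h ▸ fun a ha => ?_ : s ∈ R) hs
        have := hα ⟨a, ha⟩
        rw [hall] at this
        exact eq_mul_inv_iff_mul_eq.1 this
      · exact h
    obtain ⟨c, hc, hc1⟩ : ∃ c ∈ L, c ≠ 1 := by
      by_contra h; push Not at h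
      rw [(eq_bot_iff_forall L).2 h, card_bot] at hL; norm_num at hL
    exact hcen c hc hc1 fun y => by
      have := (hcent ▸ mem_top y : y ∈ centralizer (L : Set Y)) c hc
      rw [← this, mul_inv_cancel_right]
  have hk2 : Nat.card (SectRankFour.delta α).ker = 2 := by
    have hne : Nat.card (SectRankFour.delta α).ker ≠ 16 := fun h => hall fun a =>
      (hker a).1 ((eq_top_of_card_eq (SectRankFour.delta α).ker (by rw [h, hL])).symm ▸ mem_top a)
    rw [hL] at hmod
    have hle := Nat.le_of_dvd (by norm_num) hdvd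
    interval_cases h : Nat.card (SectRankFour.delta α).ker <;>
      simp_all (config := {decide := true}) [Nat.ModEq]
  rw [hk2, hL] at hmulc
  set U := (SectRankFour.delta α).range
  have hU : Nat.card U = 8 := by omega
  obtain ⟨c, hcker, hc1⟩ : ∃ c ∈ (SectRankFour.delta α).ker, c ≠ 1 := by
    by_contra h; push Not at h
    rw [(eq_bot_iff_forall _).2 h, card_bot] at hk2; norm_num at hk2
  have hfix : α c = c := (hker c).1 hcker
  have hker' : ∀ a : L, α a = a → a = 1 ∨ a = c := fun a ha => by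
    obtain ⟨z, hz, huni⟩ := (Nat.card_eq_two_iff' (1 : (SectRankFour.delta α).ker)).1 hk2
    by_cases ha1 : a = 1
    · exact Or.inl ha1
    · have e1 := huni ⟨a, (hker a).2 ha⟩ (fun e => ha1 (congrArg Subtype.val e))
      have e2 := huni ⟨c, hcker⟩ (fun e => hc1 (congrArg Subtype.val e))
      exact Or.inr (congrArg Subtype.val (e1.trans e2.symm))
  have hαU : ∀ u ∈ U, α u ∈ U := by
    rintro - ⟨a, rfl⟩; exact ⟨α a, by simp [SectRankFour.delta_apply, map_mul]⟩
  have hcoe : ∀ (n : ℕ) (x : L), (α ^ n) x = (⇑α)^[n] x := fun n x => by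
    induction n with
    | zero => simp
    | succ n ih => rw [pow_succ', MulAut.mul_apply, ih, Function.iterate_succ_apply']
  have hcU : c ∉ U := by
    rintro ⟨a, ha⟩
    rw [SectRankFour.delta_apply] at ha
    have ha' : α a = c * a := by rw [← ha, mul_assoc, hW2, mul_one]
    have hit : ∀ n : ℕ, (α ^ n) a = c ^ n * a := fun n => by
      induction n with
      | zero => simp
      | succ n ih => rw [pow_succ', MulAut.mul_apply, ih, map_mul, map_pow, hfix, ha', pow_succ, mul_assoc]
    have := hit 7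
    rw [hα7, MulAut.one_apply, show (7 : ℕ) = 2 * 3 + 1 from rfl, pow_succ, pow_mul, pow_two, hW2, one_pow, one_mul] at this
    exact hc1 (mul_eq_right.1 this.symm)
  -- `U∖1` and `cU∖c` are orbits of `s`
  have horb : ∀ P : L → Prop, (∀ a, P a → P (α a)) → ∀ u ∈ U, u ≠ 1 → ∀ w ∈ U, w ≠ 1 →
      (P u → P w) ∧ (P (c * u) → P (c * w)) := fun P hP u hu hu1 w hw hw1 => by
    have hit : ∀ n : ℕ, (α ^ n) u ∈ U ∧ (α ^ n) u ≠ 1 := fun n => by
      induction n with
      | zero => exact ⟨hu, hu1⟩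
      | succ n ih =>
        rw [pow_succ', MulAut.mul_apply]
        exact ⟨hαU _ ih.1, fun h => ih.2 ((EmbeddingLike.map_eq_one_iff).1 h)⟩
    have hinj : Function.Injective fun i : Fin 7 => (⟨(α ^ (i : ℕ)) u, hit i⟩ : {x : L // x ∈ U ∧ x ≠ 1}) := by
      have hper : Function.minimalPeriod (⇑α) u = 7 := by
        have hd : Function.minimalPeriod (⇑α) u ∣ 7 := Function.IsPeriodicPt.minimalPeriod_dvd (by
          show (⇑α)^[7] u = u
          rw [← hcoe, hα7, MulAut.one_apply])
        rcases (Nat.dvd_prime (by norm_num)).1 hd with h | h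
        · rcases hker' u (Function.minimalPeriod_eq_one_iff_isFixedPt.1 h) with h' | h'
          · exact absurd h' hu1
          · exact absurd (h' ▸ hu) hcU
        · exact h
      intro i j hij
      have hij : (α ^ (i : ℕ)) u = (α ^ (j : ℕ)) u := congrArg Subtype.val hij
      rw [hcoe, hcoe] at hij
      exact Fin.ext (Function.iterate_injOn_Iio_minimalPeriod (by rw [hper]; exact i.2) (by rw [hper]; exact j.2) hij)
    have hcardS : Nat.card {x : L // x ∈ U ∧ x ≠ 1} = 7 := by
      have h1 : Nat.card {x : U // x ≠ 1} + 1 = 8 := by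
        rw [← hU, ← Nat.card_congr (Equiv.optionSubtypeNe (1 : U)), Finite.card_option]
      rw [Nat.card_congr (⟨fun x => ⟨⟨x, x.2.1⟩, fun h => x.2.2 (congrArg Subtype.val h)⟩,
        fun x => ⟨x.1, x.1.2, fun h => x.2 (Subtype.ext h)⟩, fun _ => rfl, fun _ => rfl⟩ :
        {x : L // x ∈ U ∧ x ≠ 1} ≃ {x : U // x ≠ 1})]
      omega
    obtain ⟨i, hi⟩ := ((Nat.bijective_iff_injective_and_card _).2
      ⟨hinj, by rw [hcardS, Nat.card_eq_fintype_card, Fintype.card_fin]⟩).2 ⟨w, hw, hw1⟩
    have hi : (α ^ (i : ℕ)) u = w := congrArg Subtype.val hi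
    have hPn : ∀ a, P a → ∀ n : ℕ, P ((α ^ n) a) := fun a ha n => by
      induction n with
      | zero => exact ha
      | succ n ih => rw [pow_succ', MulAut.mul_apply]; exact hP _ ih
    have hcn : ∀ n : ℕ, (α ^ n) c = c := fun n => by
      induction n with
      | zero => simp
      | succ n ih => rw [pow_succ', MulAut.mul_apply, ih, hfix]
    exact ⟨fun h => hi ▸ hPn u h i, fun h => by have := hPn _ h (i : ℕ); rwa [map_mul, hcn, hi] at this⟩
  have hsplit : ∀ a : L, a ∈ U ∨ c * a ∈ U := fun a => by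
    have hidx : U.index = 2 := by
      have h := card_mul_index U
      rw [hU, hL] at h
      omega
    by_cases h : a ∈ U
    · exact Or.inl h
    · exact Or.inr ((mul_mem_iff_of_index_two hidx).2 (iff_of_false hcU h))
  let O : Set Y := {a | ∃ y, y * c * y⁻¹ = a}
  have hOα : ∀ a : L, (a : Y) ∈ O → ((α a : L) : Y) ∈ O := by
    rintro a ⟨y, hy⟩; exact ⟨s * y, by rw [hα, ← hy]; group⟩
  have hOc : ∀ y, ∀ a : Y, (y * a * y⁻¹ ∈ O ↔ a ∈ O) := fun y a => by
    constructor
    · rintro ⟨z, hz⟩; exact ⟨y⁻¹ * z, by rw [show y⁻¹ * z * c * (y⁻¹ * z)⁻¹ = y⁻¹ * (z * c * z⁻¹) * y by group, hz]; group⟩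
    · rintro ⟨z, rfl⟩; exact ⟨y * z, by group⟩
  have hcL : ∀ y, y * (c : Y) * y⁻¹ ∈ L := fun y => Subgroup.Normal.conj_mem inferInstance _ c.2 y
  by_cases hcf : ∀ y, y * (c : Y) * y⁻¹ = c
  · exact hcen c c.2 (fun h => hc1 (Subtype.ext h)) hcf
  push Not at hcf
  obtain ⟨y0, hy0⟩ := hcf
  refine ⟨U.map L.subtype, ⟨?_⟩, map_subtype_le _, Or.inr (by rw [card_map_of_injective L.subtype_injective, hU])⟩
  rintro - ⟨u, hu, rfl⟩ g
  refine ⟨⟨g * u * g⁻¹, Subgroup.Normal.conj_mem inferInstance _ u.2 g⟩, ?_, rfl⟩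
  by_cases hu1 : u = 1
  · subst hu1
    exact (congrArg (· ∈ U) (Subtype.ext (show g * ((1 : L) : Y) * g⁻¹ = ((1 : L) : Y) by
      rw [OneMemClass.coe_one, mul_one, mul_inv_cancel]))).mpr (one_mem U)
  have hO1 : ∀ a : L, (a : Y) ∈ O → a ≠ 1 := by
    rintro a ⟨y, hy⟩ rfl
    refine hc1 (Subtype.ext ?_)
    rw [OneMemClass.coe_one, mul_inv_eq_one] at hy
    exact mul_eq_left.1 hy
  have hP := fun w hw hw1 => (horb (fun a : L => (a : Y) ∈ O) hOα u hu hu1 w hw hw1)
  have hP' := fun w hw hw1 => (horb (fun a : L => (a : Y) ∉ O) (fun a ha h => ha ((hOc s a).1 (by rwa [hα] at h)))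
    u hu hu1 w hw hw1)
  have hcO : (c : Y) ∈ O := ⟨1, by group⟩
  -- some moved image of `c`
  let c' : L := ⟨y0 * c * y0⁻¹, hcL y0⟩
  have hc'O : (c' : Y) ∈ O := ⟨y0, rfl⟩
  by_cases hUO : (u : Y) ∈ O
  · -- `O` misses `cU∖c`
    have hnot : ∀ w ∈ U, w ≠ 1 → ((c * w : L) : Y) ∉ O := by
      intro w hw hw1 hin
      have hall' : ∀ a : L, a ≠ 1 → (a : Y) ∈ O := fun a ha => by
        rcases hsplit a with h | h
        · exact (hP a h ha).1 hUO
        · by_cases he : c * a = 1
          · rw [show a = c by rw [← one_mul a, ← hW2 c, mul_assoc, he, mul_one]]; exact hcO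
          · have := ((horb (fun a : L => (a : Y) ∈ O) hOα w hw hw1 (c * a) h he).2 hin)
            rwa [← mul_assoc, hW2, one_mul] at this
      have hidx : Nat.card O ∣ 168 := by
        let S := centralizer ({(c : Y)} : Set Y)
        have e : Nat.card O = S.index := by
          rw [index_eq_card]
          refine (Nat.card_eq_of_bijective (fun q : Y ⧸ S => (⟨q.out * c * q.out⁻¹, q.out, rfl⟩ : O)) ⟨?_, ?_⟩).symm
          · intro q q' h
            have h : q.out * c * q.out⁻¹ = q'.out * c * q'.out⁻¹ := congrArg Subtype.val h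
            rw [← QuotientGroup.out_eq' q, ← QuotientGroup.out_eq' q']
            refine QuotientGroup.eq.2 (mem_centralizer_singleton_iff.2 ?_)
            calc q.out⁻¹ * q'.out * c = q.out⁻¹ * (q'.out * c * q'.out⁻¹) * q'.out := by group
              _ = c * (q.out⁻¹ * q'.out) := by rw [← h]; group
          · rintro ⟨-, y, rfl⟩
            obtain ⟨k, hk⟩ := QuotientGroup.mk_out_eq_mul S y
            refine ⟨y, Subtype.ext ?_⟩
            show (y : Y ⧸ S).out * c * (y : Y ⧸ S).out⁻¹ = y * c * y⁻¹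
            rw [hk, show y * k * c * (y * (k : Y))⁻¹ = y * ((k : Y) * c * (k : Y)⁻¹) * y⁻¹ by group,
              mem_centralizer_singleton_iff.1 k.2, mul_inv_cancel_right]
        rw [e, ← hR.index]
        exact index_dvd_of_le fun r hr => mem_centralizer_singleton_iff.2 (hRL r hr c c.2)
      have h15 : Nat.card O = 15 := by
        have h1 : Nat.card {a : L // a ≠ 1} + 1 = 16 := by
          rw [← hL, ← Nat.card_congr (Equiv.optionSubtypeNe (1 : L)), Finite.card_option]
        have : Nat.card O = Nat.card {a : L // a ≠ 1} := by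
          refine (Nat.card_eq_of_bijective (fun a : {a : L // a ≠ 1} => (⟨a.1, hall' a.1 a.2⟩ : O)) ⟨?_, ?_⟩).symm
          · intro a b h
            have := congrArg (fun x : O => (x : Y)) h
            exact Subtype.ext (Subtype.ext this)
          · rintro ⟨-, y, rfl⟩
            exact ⟨⟨⟨_, hcL y⟩, hO1 _ ⟨y, rfl⟩⟩, rfl⟩
        omega
      rw [h15] at hidx; norm_num at hidx
    obtain ⟨u1, hu1m, hu1ne, hu1u⟩ : ∃ u1 ∈ U, u1 ≠ 1 ∧ u1 ≠ u := by
      by_contra h; push Not at h
      have := Nat.card_le_card_of_injective (fun x : U => decide (x = 1)) (fun x y hxy => by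
        by_cases hx : x = 1
        · subst hx; simp at hxy; exact hxy.symm
        · have hy : y ≠ 1 := fun e => by subst e; simp [hx] at hxy
          exact Subtype.ext ((h x x.2 (fun e => hx (Subtype.ext e))).trans (h y y.2 (fun e => hy (Subtype.ext e))).symm))
      simp [hU] at this
    have hu2 : u1 * u ∈ U ∧ u1 * u ≠ 1 := ⟨mul_mem hu1m hu, fun h => hu1u (by rw [← mul_one u1, ← hW2 u, ← mul_assoc, h, one_mul])⟩
    have himg : ∀ w ∈ U, w ≠ 1 → ∀ v : L, (v : Y) = g * ((c * w : L) : Y) * g⁻¹ → c * v ∈ U := fun w hw hw1 v hv => by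
      rcases hsplit v with h | h
      · exfalso
        have hv1 : v ≠ 1 := fun e => by
          rw [e, OneMemClass.coe_one, eq_comm, mul_inv_eq_one, mul_eq_left] at hv
          exact hw1 (by rw [← one_mul w, ← hW2 c, mul_assoc, show c * w = 1 from Subtype.ext hv, mul_one]; exact absurd (show c * w = 1 from Subtype.ext hv) (fun e => hcU (by rw [← mul_one c, ← hW2 w, ← mul_assoc, e, one_mul]; exact hw)))
        refine hnot w hw hw1 ((hOc g _).1 ?_)
        rw [← hv]; exact (hP v h hv1).1 hUO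
      · exact h
    have ha := himg u1 hu1m hu1ne ⟨_, Subgroup.Normal.conj_mem inferInstance _ (c * u1 : L).2 g⟩ rfl
    have hb := himg _ hu2.1 hu2.2 ⟨_, Subgroup.Normal.conj_mem inferInstance _ (c * (u1 * u) : L).2 g⟩ rfl
    have hab := mul_mem ha hb
    rw [mul_mul_mul_comm, hW2, one_mul] at hab
    refine (congrArg (· ∈ U) (Subtype.ext ?_)).mp hab
    show g * ((c : Y) * u1) * g⁻¹ * (g * ((c : Y) * (u1 * u)) * g⁻¹) = g * (u : Y) * g⁻¹
    have e : (c : Y) * u1 * ((c : Y) * (u1 * u)) = u := by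
      calc (c : Y) * u1 * ((c : Y) * (u1 * u)) = c * (u1 * c) * (u1 * u) := by group
        _ = c * (c * u1) * (u1 * u) := by rw [hcomm _ u1.2 _ c.2]
        _ = c * c * (u1 * u1) * u := by group
        _ = u := by rw [h2 _ c.2, h2 _ u1.2, one_mul, one_mul]
    conv_rhs => rw [← e]
    group
  · -- `O = cU`
    rcases hsplit ⟨g * u * g⁻¹, Subgroup.Normal.conj_mem inferInstance _ u.2 g⟩ with h | h
    · exact h
    exfalso
    set v : L := ⟨g * u * g⁻¹, Subgroup.Normal.conj_mem inferInstance _ u.2 g⟩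
    have hvO : (v : Y) ∉ O := fun hh => hUO ((hOc g u).1 hh)
    have hcv : c * v ≠ 1 := fun e => hvO (by
      rw [show v = c by rw [← one_mul v, ← hW2 c, mul_assoc, e, mul_one]]; exact hcO)
    have hcu : ((c * u : L) : Y) ∉ O := (horb (fun a : L => (a : Y) ∉ O)
      (fun a ha hh => ha ((hOc s a).1 (by rwa [hα] at hh))) (c * v) h hcv u hu hu1).2
      (by rwa [← mul_assoc, hW2, one_mul])
    rcases hsplit c' with h' | h'
    · exact (hP' c' h' (hO1 _ hc'O)).1 hUO hc'O
    · by_cases e : c * c' = 1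
      · exact hy0 (congrArg (fun a : L => (a : Y)) (show c' = c by rw [← one_mul c', ← hW2 c, mul_assoc, e, mul_one]))
      · have := (hP' (c * c') h' e).2 hcu
        rw [← mul_assoc, hW2, one_mul] at this
        exact this hc'O

end CfsgLib.L32
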