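import Cfsg.Agent.Solvable.SectionalFour

/-!
Elementary abelian sections of order above sixteen built from commuting involutions modulo a subgroup.
-/

set_option autoImplicit false

set_option linter.style.haveILetI false

namespace CfsgLib.L32

open Subgroup
open scoped commutatorElement

variable {Y : Type*} [Group Y] [Finite Y]

theorem false_of_set (hr : Cfsg.SectionalPRankLE 2 4 Y) {N : Subgroup Y} {S : Set Y}
    (hnorm : S ⊆ normalizer (N : Set Y)) (hsq : ∀ x ∈ S, x * x ∈ N)
    (hcomm : ∀ x ∈ S, ∀ y ∈ S, x * y * x⁻¹ * y⁻¹ ∈ N)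
    (hcard : 16 * Nat.card N < Nat.card ↥(N ⊔ closure S)) : False := by
  have hle : N ⊔ closure S ≤ normalizer (N : Set Y) := sup_le le_normalizer ((closure_le _).2 hnorm)
  set K : Subgroup Y := N ⊔ closure S
  haveI : (N.subgroupOf K).Normal := (normal_subgroupOf_iff_le_normalizer le_sup_left).2 hle
  set π := QuotientGroup.mk' (N.subgroupOf K)
  let T : Set ↥K := ((↑) : K → Y) ⁻¹' ((N : Set Y) ∪ S)
  have hT : closure T = ⊤ := by
    apply map_injective K.subtype_injective
    rw [MonoidHom.map_closure, ← MonoidHom.range_eq_map, range_subtype]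
    have e : K.subtype '' T = (N : Set Y) ∪ S := by
      rw [Subgroup.coe_subtype]
      refine Set.image_preimage_eq_of_subset ?_
      rintro x (hx | hx)
      · exact ⟨⟨x, le_sup_left (a := N) hx⟩, rfl⟩
      · exact ⟨⟨x, le_sup_right (a := N) (subset_closure hx)⟩, rfl⟩
    rw [e, Subgroup.closure_union, closure_eq]
  have hz : ∀ x : K, (x : Y) ∈ N → π x = 1 := fun x hx => (QuotientGroup.eq_one_iff x).2 hx
  have hc : ∀ a ∈ π '' T, ∀ b ∈ π '' T, a * b = b * a := by
    rintro - ⟨a, ha, rfl⟩ - ⟨b, hb, rfl⟩
    rcases ha with ha | ha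
    · rw [hz a ha, one_mul, mul_one]
    rcases hb with hb | hb
    · rw [hz b hb, one_mul, mul_one]
    rw [← commutatorElement_eq_one_iff_mul_comm, ← map_commutatorElement]
    exact hz _ (hcomm _ ha _ hb)
  have hgen : closure (π '' T) = ⊤ := by
    rw [← MonoidHom.map_closure, hT, map_top_of_surjective _ (QuotientGroup.mk'_surjective _)]
  have hab : ∀ a b : ↥K ⧸ N.subgroupOf K, a * b = b * a := fun a b => by
    have ha : a ∈ closure (π '' T) := hgen ▸ mem_top a
    have hb : b ∈ closure (π '' T) := hgen ▸ mem_top b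
    induction ha, hb using closure_induction₂ with
    | mem x y hx hy => exact hc x hx y hy
    | one_left x hx => rw [one_mul, mul_one]
    | one_right x hx => rw [one_mul, mul_one]
    | mul_left x y z hx hy hz h1 h2 => rw [mul_assoc, h2, ← mul_assoc, h1, mul_assoc]
    | mul_right y z x hy hz hx h1 h2 => rw [← mul_assoc, h1, mul_assoc, h2, mul_assoc]
    | inv_left x y hx hy h => exact (Commute.inv_left h : _)
    | inv_right x y hx hy h => exact (Commute.inv_right h : _)
  have hinv : ∀ a : ↥K ⧸ N.subgroupOf K, a * a = 1 := fun a => by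
    induction (hgen ▸ mem_top a : a ∈ closure (π '' T)) using closure_induction with
    | mem x hx =>
      obtain ⟨x, hx, rfl⟩ := hx
      rcases hx with hx | hx
      · rw [hz x hx, one_mul]
      · rw [← map_mul]; exact hz _ (hsq _ hx)
    | one => rw [one_mul]
    | mul x y hx hy h1 h2 => rw [mul_assoc, ← mul_assoc y, hab y x, mul_assoc x y y, h2, mul_one, h1]
    | inv x hx h => rw [← mul_inv_rev, h, inv_one]
  have hb := CfsgLib.SectionalFour.section_bound hr (K := K) (N := N) le_sup_left hle
    (fun x hx y hy => by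
      have h1 : π ⁅(⟨x, hx⟩ : K), (⟨y, hy⟩ : K)⁆ = 1 := by
        rw [map_commutatorElement, commutatorElement_eq_one_iff_mul_comm]; exact hab _ _
      have h2 := mem_subgroupOf.1 ((QuotientGroup.eq_one_iff _).1 h1)
      rwa [commutatorElement_def] at h2)
    (fun x hx => by
      have := hinv (π ⟨x, hx⟩)
      rw [← map_mul] at this
      exact mem_subgroupOf.1 ((QuotientGroup.eq_one_iff _).1 this))
  omega

end CfsgLib.L32
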