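import Cfsg.Agent.SectRankFour.L32.Frame
import Cfsg.Agent.SectRankFour.L32.Section

/-!
Extensions of `(ℤ/4)³` and `(ℤ/4)³ × ℤ/2` by `GL(3,2)` have an elementary abelian section of order above sixteen.
-/

set_option autoImplicit false
set_option linter.style.haveILetI false
set_option linter.unusedSectionVars false
set_option linter.unusedSimpArgs false

namespace CfsgLib.L32

open Subgroup

universe u

variable {Y : Type u} [Group Y] [Finite Y] {R : Subgroup Y}

theorem mem_normalizer_of_conj {N : Subgroup Y} {x : Y} (h : ∀ n ∈ N, x * n * x⁻¹ ∈ N) :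
    x ∈ normalizer (N : Set Y) := by
  have hb : Function.Bijective (fun n : N => (⟨x * n * x⁻¹, h n n.2⟩ : N)) :=
    Finite.injective_iff_bijective.1 fun m n e => Subtype.ext
      (mul_left_cancel (mul_right_cancel (congrArg Subtype.val e)))
  refine mem_normalizer_iff.2 fun n => ⟨h n, fun hn => ?_⟩
  obtain ⟨m, hm⟩ := hb.2 ⟨x * n * x⁻¹, hn⟩
  have e : x * (m : Y) * x⁻¹ = x * n * x⁻¹ := congrArg Subtype.val hm
  exact mul_left_cancel (mul_right_cancel e) ▸ m.2

theorem comm_mem_of_squares {N : Subgroup Y} {u v : Y} (hu : u * u ∈ N) (hv : v * v ∈ N)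
    (huv : u * v * (u * v) ∈ N) (hvn : ∀ n ∈ N, v⁻¹ * n * v ∈ N) : u * v * u⁻¹ * v⁻¹ ∈ N := by
  have e : u * v * u⁻¹ * v⁻¹ = u * v * (u * v) * (v⁻¹ * (u * u)⁻¹ * v) * (v * v)⁻¹ := by group
  rw [e]
  exact mul_mem (mul_mem huv (hvn _ (inv_mem hu))) (inv_mem hv)

theorem sq_shift {y a : Y} (hc : y * y * a = a * (y * y)) :
    y * a * (y * a) = y * y * (y * a * y⁻¹) * a := by
  have e : y⁻¹ * a * y = y * a * y⁻¹ := by
    calc y⁻¹ * a * y = y⁻¹ * (a * (y * y)) * y⁻¹ := by group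
      _ = y⁻¹ * (y * y * a) * y⁻¹ := by rw [hc]
      _ = y * a * y⁻¹ := by group
  calc y * a * (y * a) = y * y * (y⁻¹ * a * y) * a := by group
    _ = _ := by rw [e]

/-- A subgroup made of the images of a set of vectors closed under addition. -/
def imgSub {V : Type*} [AddCommGroup V] [Finite V] (f : V → Y) (hf : ∀ v w, f (v + w) = f v * f w)
    (P : V → Prop) (h0 : P 0) (hadd : ∀ v w, P v → P w → P (v + w)) : Subgroup Y where
  carrier := f '' {v | P v}
  one_mem' := ⟨0, h0, by have := hf 0 0; rw [add_zero, left_eq_mul] at this; exact this⟩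
  mul_mem' := by rintro - - ⟨v, hv, rfl⟩ ⟨w, hw, rfl⟩; exact ⟨v + w, hadd v w hv hw, hf v w⟩
  inv_mem' := by
    rintro - ⟨v, hv, rfl⟩
    have hn : ∀ n : ℕ, P (n • v) := fun n => by
      induction n with
      | zero => rw [zero_smul]; exact h0
      | succ n ih => rw [succ_nsmul]; exact hadd _ _ ih hv
    refine ⟨(addOrderOf v - 1) • v, hn _, eq_inv_of_mul_eq_one_left ?_⟩
    rw [← hf, ← succ_nsmul, Nat.sub_add_cancel (addOrderOf_pos v), addOrderOf_nsmul_eq_zero]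
    have := hf 0 0; rw [add_zero, left_eq_mul] at this; exact this

theorem card_imgSub {V : Type*} [AddCommGroup V] [Finite V] (f : V → Y) (hf : ∀ v w, f (v + w) = f v * f w)
    (hinj : Function.Injective f) (P : V → Prop) (h0 : P 0) (hadd : ∀ v w, P v → P w → P (v + w)) :
    Nat.card (imgSub f hf P h0 hadd) = Nat.card {v // P v} :=
  Nat.card_image_of_injective hinj {v | P v}

theorem pow_val_add4 {x : Y} (hx : x ^ 4 = 1) (i j : ZMod 4) : x ^ (i + j).val = x ^ i.val * x ^ j.val := by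
  rw [ZMod.val_add, ← pow_eq_pow_mod _ hx, pow_add]

/-- Coordinates with respect to three elements. -/
def co (b : Y × Y × Y) (v : Vec (ZMod 4)) : Y := b.1 ^ v.1.val * b.2.1 ^ v.2.1.val * b.2.2 ^ v.2.2.val

/-- The embedding of `(ℤ/2)³` as residues. -/
def up (h : Vec (ZMod 2)) : Vec (ZMod 4) := vmap (fun a => (a.val : ZMod 4)) h

theorem up_facts : (∀ h, vmap lo (up h) = h) ∧ (∀ h, up h + up h = vmap dbl h) ∧
    (∀ w, w = up (vmap lo w) + vmap dbl (vmap hi w)) ∧ (∀ w, vmap lo w = 0 → w = vmap dbl (vmap hi w)) ∧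
    (∀ h, vmap lo (vmap dbl h) = 0) ∧ (∀ h, vmap dbl h = 0 → h = 0) := by decide +kernel

theorem InN1_facts : InN1 0 ∧ (∀ v w, InN1 v → InN1 w → InN1 (v + w)) ∧ (∀ n, InN1 n → n = 0 ∨ n = (2, 0, 0)) ∧
    InA1 0 ∧ (∀ v, InA1 v → InN1 (v + v)) := by decide +kernel

theorem InN2_facts : InN2 0 ∧ (∀ v w, InN2 v → InN2 w → InN2 (v + w)) ∧ InA2 0 ∧
    (∀ v, InA2 v → InN2 (v + v)) := by decide +kernel

/-- An abelian normal subgroup of exponent four below `R` carrying the natural module modulo squares. -/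
structure Four (F : Frame R) (A : Subgroup Y) (p : Y → Vec (ZMod 2)) : Prop where
  normal : A.Normal
  le : A ≤ R
  comm : ∀ a ∈ A, ∀ b ∈ A, a * b = b * a
  four : ∀ a ∈ A, a * a * (a * a) = 1
  sec : NatSec F A p
  inv : ∀ a ∈ A, a * a = 1 → p a = 0

variable {F : Frame R} {A : Subgroup Y} {p : Y → Vec (ZMod 2)}

theorem Four.pow_four (h : Four F A p) {a : Y} (ha : a ∈ A) : a ^ 4 = 1 := by
  rw [← h.four a ha, pow_succ, pow_succ, pow_two]; group

theorem Four.co_mem (h : Four F A p) {b : Y × Y × Y} (h0 : b.1 ∈ A) (h1 : b.2.1 ∈ A) (h2 : b.2.2 ∈ A)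
    (v : Vec (ZMod 4)) : co b v ∈ A := mul_mem (mul_mem (pow_mem h0 _) (pow_mem h1 _)) (pow_mem h2 _)

theorem Four.co_add (h : Four F A p) {b : Y × Y × Y} (h0 : b.1 ∈ A) (h1 : b.2.1 ∈ A) (h2 : b.2.2 ∈ A)
    (v w : Vec (ZMod 4)) : co b (v + w) = co b v * co b w := by
  have e1 := h.comm _ (pow_mem h1 v.2.1.val) _ (pow_mem h0 w.1.val)
  have e2 := h.comm _ (pow_mem h2 v.2.2.val) _ (mul_mem (pow_mem h0 w.1.val) (pow_mem h1 w.2.1.val))
  show b.1 ^ (v.1 + w.1).val * b.2.1 ^ (v.2.1 + w.2.1).val * b.2.2 ^ (v.2.2 + w.2.2).val = _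
  rw [pow_val_add4 (h.pow_four h0), pow_val_add4 (h.pow_four h1), pow_val_add4 (h.pow_four h2)]
  calc b.1 ^ v.1.val * b.1 ^ w.1.val * (b.2.1 ^ v.2.1.val * b.2.1 ^ w.2.1.val) *
        (b.2.2 ^ v.2.2.val * b.2.2 ^ w.2.2.val)
      = b.1 ^ v.1.val * (b.1 ^ w.1.val * b.2.1 ^ v.2.1.val) * b.2.1 ^ w.2.1.val * b.2.2 ^ v.2.2.val *
          b.2.2 ^ w.2.2.val := by group
    _ = b.1 ^ v.1.val * b.2.1 ^ v.2.1.val * (b.1 ^ w.1.val * b.2.1 ^ w.2.1.val * b.2.2 ^ v.2.2.val) *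
          b.2.2 ^ w.2.2.val := by rw [← e1]; group
    _ = co b v * co b w := by rw [← e2]; simp only [co, mul_assoc]

/-- The coordinates attached to a lift of the first basis vector. -/
structure Coord (F : Frame R) (A : Subgroup Y) (p : Y → Vec (ZMod 2)) (s : Y) (f : Vec (ZMod 4) → Y) : Prop where
  mem : ∀ v, f v ∈ A
  add : ∀ v w, f (v + w) = f v * f w
  inj : Function.Injective f
  red : ∀ v, p (f v) = vmap lo v
  sigma : s * f (1, 0, 0) * s⁻¹ = f (0, 1, 0) ∧ s * f (0, 1, 0) * s⁻¹ = f (0, 0, 1)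

theorem Coord.zero {s : Y} {f : Vec (ZMod 4) → Y} (C : Coord F A p s f) : f 0 = 1 := by
  have := C.add 0 0; rw [add_zero, left_eq_mul] at this; exact this

theorem Four.coord (h : Four F A p) {s : Y} (hs : F.φ s = sig) {v : Y} (hv : v ∈ A) (hpv : p v = e0) :
    Coord F A p s (co (v, s * v * s⁻¹, s * (s * v * s⁻¹) * s⁻¹)) := by
  haveI := h.normal
  have h1 : s * v * s⁻¹ ∈ A := Subgroup.Normal.conj_mem inferInstance v hv s
  have h2 : s * (s * v * s⁻¹) * s⁻¹ ∈ A := Subgroup.Normal.conj_mem inferInstance _ h1 s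
  set b := (v, s * v * s⁻¹, s * (s * v * s⁻¹) * s⁻¹) with hb
  have hm := h.co_mem (b := b) hv h1 h2
  have ha := h.co_add (b := b) hv h1 h2
  have hp1 : p (s * v * s⁻¹) = (0, 1, 0) := by rw [h.sec.conj s v hv, hs, hpv]; decide
  have hp2 : p (s * (s * v * s⁻¹) * s⁻¹) = (0, 0, 1) := by rw [h.sec.conj s _ h1, hs, hp1]; decide
  have hpow : ∀ a ∈ A, ∀ i : ZMod 4, p (a ^ i.val) = (lo i * (p a).1, lo i * (p a).2.1, lo i * (p a).2.2) := by
    intro a ha i
    have hn : ∀ n : ℕ, p (a ^ n) = ((n : ZMod 2) * (p a).1, (n : ZMod 2) * (p a).2.1, (n : ZMod 2) * (p a).2.2) := by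
      intro n
      induction n with
      | zero => simp [h.sec.map_one, Prod.ext_iff]
      | succ n ih =>
        rw [pow_succ, h.sec.mul _ (pow_mem ha n) _ ha, ih]
        simp [add_mul, Prod.ext_iff]
    rw [hn, show ((i.val : ℕ) : ZMod 2) = lo i by rw [← map_natCast lo, ZMod.natCast_rightInverse i]]
  have hr : ∀ w, p (co b w) = vmap lo w := fun w => by
    show p (v ^ _ * _ * _) = _
    rw [h.sec.mul _ (mul_mem (pow_mem hv _) (pow_mem h1 _)) _ (pow_mem h2 _),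
      h.sec.mul _ (pow_mem hv _) _ (pow_mem h1 _), hpow _ hv, hpow _ h1, hpow _ h2, hpv, hp1, hp2]
    simp [vmap, e0]
  refine ⟨hm, ha, fun x y hxy => ?_, hr, ?_, ?_⟩
  · have h0 : co b (x - y) = 1 := by
      have := ha (x - y) y
      rw [sub_add_cancel, hxy, eq_comm, mul_eq_right] at this
      exact this
    obtain ⟨u1, u2, u3, u4, u5, u6⟩ := up_facts
    have hlo : vmap lo (x - y) = 0 := by rw [← hr, h0, h.sec.map_one]
    have he := u4 _ hlo
    have hsq : co b (up (vmap hi (x - y))) * co b (up (vmap hi (x - y))) = 1 := by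
      rw [← ha, u2, ← he, h0]
    have := h.inv _ (hm _) hsq
    rw [hr, u1] at this
    rw [this] at he
    exact sub_eq_zero.1 (he.trans (by decide))
  · simp [co, b, ZMod.val_one, show ZMod.val (1 : ZMod 4) = 1 from rfl]
  · simp [co, b, ZMod.val_one, show ZMod.val (1 : ZMod 4) = 1 from rfl]

/-- `y` acts on the coordinates through the matrix `M`. -/
def Acts (f : Vec (ZMod 4) → Y) (y : Y) (M : Mat (ZMod 4)) : Prop := ∀ v, y * f v * y⁻¹ = f (mv M v)

theorem eq_mv4 (G : Vec (ZMod 4) → Vec (ZMod 4)) (hG : ∀ v w, G (v + w) = G v + G w) (v : Vec (ZMod 4)) :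
    G v = mv (G (1, 0, 0), G (0, 1, 0), G (0, 0, 1)) v := by
  let Φ : Vec (ZMod 4) →+ Vec (ZMod 4) := AddMonoidHom.mk' G hG
  have hs : ∀ w : Vec (ZMod 4),
      w = w.1.val • ((1, 0, 0) : Vec (ZMod 4)) + w.2.1.val • ((0, 1, 0) : Vec (ZMod 4)) + w.2.2.val • ((0, 0, 1) : Vec (ZMod 4)) := by
    decide +kernel
  conv_lhs => rw [show G v = Φ v from rfl, hs v, map_add, map_add, map_nsmul, map_nsmul, map_nsmul]
  show v.1.val • G _ + v.2.1.val • G _ + v.2.2.val • G _ = _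
  simp [mv, nsmul_eq_mul, Prod.ext_iff, ZMod.natCast_rightInverse v.1, ZMod.natCast_rightInverse v.2.1,
    ZMod.natCast_rightInverse v.2.2]

section Acts

variable {f : Vec (ZMod 4) → Y}

theorem Acts.one : Acts f 1 mid := fun v => by rw [one_mul, inv_one, mul_one, mv_mid]

theorem Acts.mul {y z : Y} {M N : Mat (ZMod 4)} (hy : Acts f y M) (hz : Acts f z N) :
    Acts f (y * z) (mm M N) := fun v => by
  rw [show y * z * f v * (y * z)⁻¹ = y * (z * f v * z⁻¹) * y⁻¹ by group, hz, hy, mv_mm]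

theorem Acts.wY {s t : Y} {S T : Mat (ZMod 4)} (hs : Acts f s S) (ht : Acts f t T) (l : List Bool) :
    Acts f (L32.wY s t l) (wd S T l) := by
  induction l with
  | nil => exact Acts.one
  | cons b l ih => cases b <;> [exact ht.mul ih; exact hs.mul ih]

theorem Acts.of_mem {s : Y} (hcen : ∀ r ∈ R, ∀ a ∈ A, r * a = a * r) (C : Coord F A p s f) {r : Y} (hr : r ∈ R) : Acts f r mid :=
  fun v => by rw [hcen r hr _ (C.mem v), mul_inv_cancel_right, mv_mid]

theorem Acts.unique {s : Y} (C : Coord F A p s f) {y : Y} {M N : Mat (ZMod 4)} (h1 : Acts f y M)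
    (h2 : Acts f y N) : M = N :=
  mv_ext fun v => C.inj ((h1 v).symm.trans (h2 v))

theorem Acts.inv3 {s : Y} (hcen : ∀ r ∈ R, ∀ a ∈ A, r * a = a * r) (C : Coord F A p s f) {y : Y} {M : Mat (ZMod 4)} (hy : Acts f y M)
    (h3 : y * y * y ∈ R) : Acts f y⁻¹ (mm M M) := fun v => by
  have e1 := Acts.of_mem hcen C (inv_mem h3) (mv (mm M M) v)
  rw [mv_mid, ← (hy.mul hy) v] at e1
  rw [← (hy.mul hy) v]
  conv_rhs => rw [← e1]
  group

/-- The matrix of an element, provided it maps the coordinates to themselves. -/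
theorem exists_acts {s : Y} (h : Four F A p) (C : Coord F A p s f) {y : Y} {a0 a1 a2 : Vec (ZMod 4)}
    (h0 : y * f (1, 0, 0) * y⁻¹ = f a0) (h1 : y * f (0, 1, 0) * y⁻¹ = f a1)
    (h2 : y * f (0, 0, 1) * y⁻¹ = f a2) :
    Acts f y (a0, a1, a2) ∧ mmap lo (a0, a1, a2) = F.φ y := by
  haveI := h.normal
  let Φ : Multiplicative (Vec (ZMod 4)) →* Y := MonoidHom.mk' (fun v => f v.toAdd) fun v w => C.add _ _
  have hs : ∀ w : Vec (ZMod 4),
      w = w.1.val • ((1, 0, 0) : Vec (ZMod 4)) + w.2.1.val • ((0, 1, 0) : Vec (ZMod 4)) + w.2.2.val • ((0, 0, 1) : Vec (ZMod 4)) := by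
    decide +kernel
  have hpow : ∀ (n : ℕ) (v : Vec (ZMod 4)), f (n • v) = f v ^ n := fun n v => map_pow Φ (Multiplicative.ofAdd v) n
  have key : Acts f y (a0, a1, a2) := fun v => by
    have e : mv ((a0, a1, a2) : Mat (ZMod 4)) v = v.1.val • a0 + v.2.1.val • a1 + v.2.2.val • a2 := by
      simp [mv, nsmul_eq_mul, Prod.ext_iff, ZMod.natCast_rightInverse v.1, ZMod.natCast_rightInverse v.2.1,
        ZMod.natCast_rightInverse v.2.2]
    conv_lhs => rw [hs v, C.add, C.add, hpow, hpow, hpow]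
    rw [e, C.add, C.add, hpow, hpow, hpow, ← h0, ← h1, ← h2, conj_pow, conj_pow, conj_pow]
    group
  refine ⟨key, mv_ext fun w => ?_⟩
  obtain ⟨u1, -, -, -, -, -⟩ := up_facts
  rw [← u1 w, ← vmap_mv, ← C.red, ← C.red, ← key, h.sec.conj y _ (C.mem _)]

end Acts

/-- The action of the frame generators on suitable coordinates. -/
theorem acts_sigma (h : Four F A p) (hcen : ∀ r ∈ R, ∀ a ∈ A, r * a = a * r) {s : Y} (hs : F.φ s = sig) {f : Vec (ZMod 4) → Y} (C : Coord F A p s f)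
    {a : Vec (ZMod 4)} (h2 : s * f (0, 0, 1) * s⁻¹ = f a) : Acts f s sigF := by
  obtain ⟨hA, hlo⟩ := exists_acts h C C.sigma.1 C.sigma.2 h2
  rw [hs] at hlo
  obtain ⟨-, u2, u3, -, -, -⟩ := up_facts
  have ha : a = (1, 1, 0) + vmap dbl (vmap hi a) := by
    have e : vmap lo a = (1, 1, 0) := by
      have := congrArg (fun M : Mat (ZMod 2) => M.2.2) hlo
      simpa [mmap, sig] using this
    conv_lhs => rw [u3 a, e]
    rfl
  have hrel : wd ((0, 1, 0), (0, 0, 1), a) ((0, 1, 0), (0, 0, 1), a) [true, true, true, true, true, true, true] = mid := by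
    refine Acts.unique C (Acts.wY hA hA _) ?_
    refine Acts.of_mem hcen C ?_
    have := F.sigma_pow_seven hs
    simpa [L32.wY, pow_succ, mul_assoc] using this
  have := sigF_unique (vmap hi a)
  rw [← ha] at this
  rw [← this hrel]
  exact hA

theorem mem_cands (hcen : ∀ r ∈ R, ∀ a ∈ A, r * a = a * r) {s t : Y} (hs : F.φ s = sig) (ht : F.φ t = tau) {f : Vec (ZMod 4) → Y}
    (C : Coord F A p s f) (hS : Acts f s sigF) {M : Mat (ZMod 4)} (hT : Acts f t M) (hlo : mmap lo M = tau) :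
    M ∈ cands := by
  rw [eq_liftMat M, hlo]
  refine table_cands _ fun r hr => ?_
  rw [← hlo, ← eq_liftMat M]
  exact Acts.unique C (Acts.wY hS hT r) (Acts.of_mem hcen C (F.wY_mem hs ht (frame_facts.2.2.1 r hr)))

/-- An extension of `(ℤ/4)³` by `GL(3,2)` has sectional rank above four. -/
theorem false_of_four_cube (hrank : Cfsg.SectionalPRankLE 2 4 Y) (h : Four F R p)
    (hker : ∀ a ∈ R, p a = 0 → ∃ b ∈ R, a = b * b) : False := by
  haveI := h.normal
  have hcen := h.comm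
  obtain ⟨s, hs⟩ := F.exists_sigma
  obtain ⟨t, ht⟩ := F.exists_tau
  obtain ⟨v, hv, hpv⟩ := h.sec.surj e0
  set f := co (v, s * v * s⁻¹, s * (s * v * s⁻¹) * s⁻¹)
  have C : Coord F R p s f := h.coord hs hv hpv
  obtain ⟨u1, u2, u3, u4, u5, u6⟩ := up_facts
  have hsur : ∀ a ∈ R, ∃ w, f w = a := by
    intro a ha
    have hk : ∀ k ∈ R, p k = 0 → ∃ w, f w = k := by
      intro k hk hp0
      obtain ⟨b, hb, rfl⟩ := hker k hk hp0
      set b' := (f (up (p b)))⁻¹ * b with hb'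
      have hb'm : b' ∈ R := mul_mem (inv_mem (C.mem _)) hb
      have hp' : p b' = 0 := by
        have := h.sec.mul _ (C.mem (up (p b))) _ hb'm
        rw [hb', mul_inv_cancel_left, C.red, u1] at this
        simpa using this.symm
      obtain ⟨c, hc, hce⟩ := hker b' hb'm hp'
      refine ⟨vmap dbl (p b), ?_⟩
      rw [← u2, C.add]
      have e : b = f (up (p b)) * (c * c) := by rw [← hce, hb', mul_inv_cancel_left]
      generalize f (up (p b)) = q, C.mem (up (p b)) = hq at e ⊢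
      calc q * q = q * q * (c * c * (c * c)) := by rw [h.four c hc, mul_one]
        _ = q * (q * (c * c)) * (c * c) := by group
        _ = q * (c * c * q) * (c * c) := by rw [h.comm _ hq _ (mul_mem hc hc)]
        _ = b * b := by rw [e]; group
    set a' := (f (up (p a)))⁻¹ * a with ha'
    have ha'm : a' ∈ R := mul_mem (inv_mem (C.mem _)) ha
    have hp' : p a' = 0 := by
      have := h.sec.mul _ (C.mem (up (p a))) _ ha'm
      rw [ha', mul_inv_cancel_left, C.red, u1] at this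
      simpa using this.symm
    obtain ⟨w, hw⟩ := hk a' ha'm hp'
    exact ⟨up (p a) + w, by rw [C.add, hw, ha', mul_inv_cancel_left]⟩
  have hcm : ∀ y, ∀ w, ∃ w', f w' = y * f w * y⁻¹ := fun y w =>
    hsur _ (Subgroup.Normal.conj_mem inferInstance _ (C.mem w) y)
  obtain ⟨a, ha⟩ := hcm s (0, 0, 1)
  have hS := acts_sigma h hcen hs C ha.symm
  obtain ⟨x0, hx0⟩ := hcm t (1, 0, 0)
  obtain ⟨x1, hx1⟩ := hcm t (0, 1, 0)
  obtain ⟨x2, hx2⟩ := hcm t (0, 0, 1)
  obtain ⟨hT, hlo⟩ := exists_acts h C hx0.symm hx1.symm hx2.symm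
  rw [ht] at hlo
  obtain ⟨⟨eX, -, eB, eC⟩, gd, gr, gA⟩ := table_good1 _ (table_words _ (mem_cands hcen hs ht C hS hT hlo))
  set M : Mat (ZMod 4) := (x0, x1, x2)
  set G := wd sigF M wG
  set MA := wd sigF M wA
  set MB := wd sigF M wB
  set MC := wd sigF M wC
  set MX := wd sigF M wX
  set yg := wY s t wG
  set yx := wY s t wX
  obtain ⟨f1, f2, f3, f4, f5, f6, f7, f8, f9, f10, f11, f12⟩ := frame_facts
  have hG : Acts f yg G := Acts.wY hS hT wG
  have hX : Acts f yx MX := Acts.wY hS hT wX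
  have hx3 : yx * yx * yx ∈ R := by rw [← wY_append, ← wY_append]; exact F.wY_mem hs ht f6
  have hd4 : yg * yg * (yg * yg) ∈ R := by
    rw [← wY_append, ← wY_append, ← List.append_assoc]; exact F.wY_mem hs ht f5
  obtain ⟨d, hd⟩ := hsur _ hd4
  have hgd : mv G d = d := C.inj (by rw [← hG, hd]; group)
  obtain ⟨a, hna⟩ := gd d hgd
  have hA : Acts f (yg * yg) MA := by rw [← wY_append]; exact Acts.wY hS hT wA
  set T1 := yg * yg * f a with hT1
  have hφA : F.φ T1 = wd sig tau wA := by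
    rw [hT1, F.map_mul, F.φ_eq_mid.2 (C.mem a), ← wY_append]
    refine mv_ext fun w => ?_
    rw [mv_mm, mv_mid, F.φ_wY, hs, ht]
    rfl
  have haT1 : Acts f T1 MA := fun w => by
    rw [hT1, show yg * yg * f a * f w * (yg * yg * f a)⁻¹ = yg * yg * (f a * f w * (f a)⁻¹) * (yg * yg)⁻¹ by group,
      h.comm _ (C.mem a) _ (C.mem w), mul_inv_cancel_right, hA]
  set N := imgSub f C.add InN1 InN1_facts.1 InN1_facts.2.1
  have hNmem : ∀ w, InN1 w → f w ∈ N := fun w hw => ⟨w, hw, rfl⟩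
  have hT1sq : T1 * T1 = f (d + (mv MA a + a)) := by
    rw [hT1, sq_shift (hcen _ hd4 _ (C.mem a)), hA, ← hd, C.add, C.add, mul_assoc]
  have hNfix : ∀ (y : Y) (P : Mat (ZMod 4)), Acts f y P → mv P (2, 0, 0) = (2, 0, 0) → ∀ n ∈ N, y * n * y⁻¹ ∈ N := by
    rintro y P hy hP - ⟨w, hw, rfl⟩
    rcases InN1_facts.2.2.1 w hw with rfl | rfl
    · rw [hy, mv_zero]; exact hNmem _ InN1_facts.1
    · rw [hy, hP]; exact hNmem _ hw
  set T2 := yx * T1 * yx⁻¹ with hT2
  set T3 := yx * T2 * yx⁻¹ with hT3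
  have hinv := Acts.inv3 hcen C hX hx3
  have hwB : MB = mm (mm MX MA) (mm MX MX) := by
    refine Acts.unique C (Acts.wY hS hT wB) ?_
    rw [wB, List.append_assoc, wY_append, wY_append, wY_append]
    exact ((Acts.wY hS hT wX).mul (Acts.wY hS hT wA)).mul ((Acts.wY hS hT wX).mul (Acts.wY hS hT wX))
  have haT2 : Acts f T2 MB := hwB ▸ (hX.mul haT1).mul hinv
  have hwC : MC = mm (mm MX MB) (mm MX MX) := by
    refine Acts.unique C (Acts.wY hS hT wC) ?_
    rw [wC, List.append_assoc, wY_append, wY_append, wY_append]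
    exact ((Acts.wY hS hT wX).mul (Acts.wY hS hT wB)).mul ((Acts.wY hS hT wX).mul (Acts.wY hS hT wX))
  have haT3 : Acts f T3 MC := hwC ▸ (hX.mul haT2).mul hinv
  have hφinv : F.φ yx⁻¹ = F.φ (yx * yx) := (F.eq_iff _ _).2 (by rw [inv_inv, ← mul_assoc]; exact hx3)
  have hφx : F.φ yx = wd sig tau wX := by rw [F.φ_wY, hs, ht]
  have hφB : F.φ T2 = tau := by
    rw [hT2, F.map_mul (yx * T1), F.map_mul yx T1, hφinv, hφA, F.map_mul yx yx, hφx]
    decide +kernel
  have hφC : F.φ T3 = wd sig tau wC := by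
    rw [hT3, F.map_mul (yx * T2), F.map_mul yx T2, hφinv, hφB, F.map_mul yx yx, hφx]
    decide +kernel
  have hT1N : T1 * T1 ∈ N := hT1sq ▸ hNmem _ hna
  have hT2N : T2 * T2 ∈ N := by
    rw [hT2, show yx * T1 * yx⁻¹ * (yx * T1 * yx⁻¹) = yx * (T1 * T1) * yx⁻¹ by group]
    exact hNfix _ _ hX eX _ hT1N
  have hT3N : T3 * T3 ∈ N := by
    rw [hT3, show yx * T2 * yx⁻¹ * (yx * T2 * yx⁻¹) = yx * (T2 * T2) * yx⁻¹ by group]
    exact hNfix _ _ hX eX _ hT2N
  have hr : T1⁻¹ * (T3 * T2) ∈ R := (F.eq_iff _ _).1 (by rw [F.map_mul T3 T2, hφA, hφC, hφB]; decide +kernel)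
  obtain ⟨r, hr'⟩ := hsur _ hr
  obtain ⟨e, he1, he2⟩ := gr r
  have hT1R : T1 * T1 ∈ R := F.φ_eq_mid.1 (by rw [F.map_mul T1 T1, hφA]; decide +kernel)
  have hT2R : T2 * T2 ∈ R := F.φ_eq_mid.1 (by rw [F.map_mul T2 T2, hφB]; decide +kernel)
  set T2' := T2 * f e with hT2'
  have hT2'N : T2' * T2' ∈ N := by
    rw [hT2', sq_shift (hcen _ hT2R _ (C.mem e)), haT2, mul_assoc, ← C.add]
    exact mul_mem hT2N (hNmem _ he1)
  have hprodN : T3 * T2' * (T3 * T2') ∈ N := by
    have e1 : T3 * T2' = T1 * f (r + e) := by rw [C.add, hr', hT2']; group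
    rw [e1, sq_shift (hcen _ hT1R _ (C.mem _)), haT1, mul_assoc, ← C.add]
    exact mul_mem hT1N (hNmem _ he2)
  have haT2' : Acts f T2' MB := fun w => by
    rw [hT2', show T2 * f e * f w * (T2 * f e)⁻¹ = T2 * (f e * f w * (f e)⁻¹) * T2⁻¹ by group,
      h.comm _ (C.mem e) _ (C.mem w), mul_inv_cancel_right, haT2]
  have hφB' : F.φ T2' = tau := by
    rw [hT2', F.map_mul T2 (f e), F.φ_eq_mid.2 (C.mem e), hφB]; decide +kernel
  set S : Set Y := f '' {w | InA1 w} ∪ {T2', T3}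
  have hfneg : ∀ w, (f w)⁻¹ = f (-w) := fun w =>
    inv_eq_of_mul_eq_one_right (by rw [← C.add, add_neg_cancel, C.zero])
  have hcommA : ∀ (y : Y) (P : Mat (ZMod 4)), Acts f y P → ∀ w, InN1 (mv P w - w) →
      y * f w * y⁻¹ * (f w)⁻¹ ∈ N := fun y P hy w hw => by
    rw [hy, hfneg, ← C.add, ← sub_eq_add_neg]; exact hNmem _ hw
  have hnorm : S ⊆ normalizer (N : Set Y) := by
    rintro x (⟨w, hw, rfl⟩ | rfl | rfl)
    · exact mem_normalizer_of_conj fun n hn => by
        obtain ⟨q, hq, rfl⟩ := hn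
        rw [h.comm _ (C.mem w) _ (C.mem q), mul_inv_cancel_right]; exact hNmem _ hq
    · exact mem_normalizer_of_conj (hNfix _ _ haT2' eB)
    · exact mem_normalizer_of_conj (hNfix _ _ haT3 eC)
  have hswap : ∀ {u v : Y}, u * v * u⁻¹ * v⁻¹ ∈ N → v * u * v⁻¹ * u⁻¹ ∈ N := fun {u v} huv => by
    have := inv_mem huv
    rwa [show (u * v * u⁻¹ * v⁻¹)⁻¹ = v * u * v⁻¹ * u⁻¹ by group] at this
  have hTT : T3 * T2' * T3⁻¹ * T2'⁻¹ ∈ N :=
    comm_mem_of_squares hT3N hT2'N hprodN fun n hn =>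
      (mem_normalizer_iff''.1 (hnorm (Or.inr (Or.inl rfl))) n).1 hn
  have hcomm : ∀ x ∈ S, ∀ y ∈ S, x * y * x⁻¹ * y⁻¹ ∈ N := by
    rintro x (⟨w, hw, rfl⟩ | rfl | rfl) y (⟨z, hz, rfl⟩ | rfl | rfl)
    · rw [h.comm _ (C.mem w) _ (C.mem z)]; simp
    · exact hswap (hcommA _ _ haT2' w (gA w hw).1)
    · exact hswap (hcommA _ _ haT3 w (gA w hw).2)
    · exact hcommA _ _ haT2' z (gA z hz).1
    · simp
    · exact hswap hTT
    · exact hcommA _ _ haT3 z (gA z hz).2
    · exact hTT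
    · simp
  have hsq : ∀ x ∈ S, x * x ∈ N := by
    rintro x (⟨w, hw, rfl⟩ | rfl | rfl)
    · rw [← C.add]; exact hNmem _ (InN1_facts.2.2.2.2 w hw)
    · exact hT2'N
    · exact hT3N
  refine false_of_set hrank hnorm hsq hcomm ?_
  rw [card_imgSub f C.add C.inj, Nat.card_eq_fintype_card, card_InN1]
  have hT2m : T2' ∈ closure S := subset_closure (Or.inr (Or.inl rfl))
  have hT3m : T3 ∈ closure S := subset_closure (Or.inr (Or.inr rfl))
  let Ψ : {w // InA1 w} × Bool × Bool → ↥(N ⊔ closure S) := fun x =>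
    ⟨(if x.2.1 then T3 else 1) * (if x.2.2 then T2' else 1) * f x.1, mem_sup_right (mul_mem (mul_mem
      (by split <;> [exact hT3m; exact one_mem _]) (by split <;> [exact hT2m; exact one_mem _]))
      (subset_closure (Or.inl ⟨x.1.1, x.1.2, rfl⟩)))⟩
  have hinj : Function.Injective Ψ := by
    rintro ⟨⟨w, hw⟩, i, j⟩ ⟨⟨z, hz⟩, i', j'⟩ hΨ
    have hΨ : (if i then T3 else 1) * (if j then T2' else 1) * f w =
        (if i' then T3 else 1) * (if j' then T2' else 1) * f z := congrArg Subtype.val hΨ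
    have hij : i = i' ∧ j = j' := by
      have hφ := congrArg F.φ hΨ
      rw [F.map_mul, F.map_mul, F.map_mul, F.map_mul, F.φ_eq_mid.2 (C.mem w), F.φ_eq_mid.2 (C.mem z),
        apply_ite F.φ, apply_ite F.φ, apply_ite F.φ, apply_ite F.φ, hφB', hφC, F.φ_one] at hφ
      revert hφ
      cases i <;> cases j <;> cases i' <;> cases j' <;> decide +kernel
    obtain ⟨rfl, rfl⟩ := hij
    obtain rfl := C.inj (mul_left_cancel hΨ)
    rfl
  have := Nat.card_le_card_of_injective _ hinj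
  rw [Nat.card_prod, Nat.card_prod, Nat.card_eq_fintype_card, card_InA1, Nat.card_eq_fintype_card, Fintype.card_bool] at this
  omega

end CfsgLib.L32
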