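import Cfsg.Agent.SectRankFour.L32.Kill

/-!
Parity of the fourth power of a lift of an element of order four, and the section it produces.
-/

set_option autoImplicit false
set_option linter.style.haveILetI false
set_option linter.unusedSectionVars false
set_option linter.unusedSimpArgs false

namespace CfsgLib.L32

open Subgroup

universe u

theorem pow_eq_one_of_odd {G : Type*} [Group G] {a : G} {n k : ℕ} (hn : Odd n) (h : a ^ n = 1) (hk : a ^ 2 ^ k = 1) :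
    a = 1 := by
  rw [← orderOf_eq_one_iff]
  refine Nat.Coprime.eq_one_of_dvd (k := orderOf a) ?_ dvd_rfl
  exact Nat.Coprime.coprime_dvd_left (orderOf_dvd_of_pow_eq_one h)
    (Nat.Coprime.coprime_dvd_right (orderOf_dvd_of_pow_eq_one hk) (Nat.Coprime.pow_right k (Nat.coprime_two_right.2 hn)))

/-- The parity identity. -/
theorem parity {Q : Type*} [Group Q] {C : Subgroup Q} (hC : ∀ c ∈ C, ∀ q, c * q = q * c)
    (h2 : ∀ c ∈ C, ∃ k, c ^ 2 ^ k = 1) {g x h : Q} (h4 : g * g * (g * g) ∈ C)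
    (e1 : g⁻¹ * (h * (g * g) * h⁻¹ * (x * (g * g) * x⁻¹)) ∈ C)
    (e2 : (x * (x * (g * g) * x⁻¹) * x⁻¹)⁻¹ *
      (h * (g * g) * h⁻¹ * (x * (g * g) * x⁻¹) * (h * (g * g) * h⁻¹)⁻¹) ∈ C) :
    ∃ w ∈ C, g * w * (g * w) * (g * w * (g * w)) * (g * w * (g * w) * (g * w * (g * w))) = 1 ∧
      (g * w * (g * w))⁻¹ * (x * (x * (g * w * (g * w)) * x⁻¹) * x⁻¹ * (x * (g * w * (g * w)) * x⁻¹)) *
        ((g * w * (g * w))⁻¹ * (x * (x * (g * w * (g * w)) * x⁻¹) * x⁻¹ * (x * (g * w * (g * w)) * x⁻¹))) = 1 := by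
  set c := g⁻¹ * (h * (g * g) * h⁻¹ * (x * (g * g) * x⁻¹))
  obtain ⟨k, hk⟩ := h2 c e1
  -- the cube root of `c⁻¹`
  obtain ⟨j, hj⟩ : ∃ j : ℕ, (c⁻¹ ^ j) ^ 3 = c⁻¹ := by
    obtain ⟨j, hj⟩ : ∃ j, 3 * j % 2 ^ k = 1 % 2 ^ k := by
      by_cases h1 : k = 0
      · exact ⟨0, by simp [h1]⟩
      have hcop : Nat.Coprime 3 (2 ^ k) := Nat.Coprime.pow_right _ (by norm_num)
      obtain ⟨j, hj⟩ := Nat.exists_mul_mod_eq_one_of_coprime hcop (Nat.one_lt_two_pow h1)
      exact ⟨j, by rw [hj.2, Nat.one_mod_eq_one.2 (by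
        intro e; exact absurd e (Nat.one_lt_two_pow h1).ne')]⟩
    refine ⟨j, ?_⟩
    have hk' : c⁻¹ ^ 2 ^ k = 1 := by rw [inv_pow, hk, inv_one]
    rw [← pow_mul, mul_comm j, pow_eq_pow_mod _ hk', hj, ← pow_eq_pow_mod _ hk', pow_one]
  set w := c⁻¹ ^ j
  have hw : w ∈ C := pow_mem (inv_mem e1) j
  refine ⟨w, hw, ?_⟩
  set ε := g * w * (g * w) with hε
  set E2 := x * ε * x⁻¹ with hE2
  set E3 := x * E2 * x⁻¹ with hE3
  set B := h * ε * h⁻¹ with hB
  have hww : ∀ q, w * w * q = q * (w * w) := hC _ (mul_mem hw hw)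
  have hε' : ε = g * g * (w * w) := by
    rw [hε, show g * w * (g * w) = g * (w * g) * w by group, hC w hw g]; group
  have hd : ε * ε ∈ C := by
    rw [hε', show g * g * (w * w) * (g * g * (w * w)) = g * g * (w * w * (g * g)) * (w * w) by group, hww (g * g)]
    rw [show g * g * (g * g * (w * w)) * (w * w) = g * g * (g * g) * (w * w * (w * w)) by group]
    exact mul_mem h4 (mul_mem (mul_mem hw hw) (mul_mem hw hw))
  set d := ε * ε with hdd
  have hconj : ∀ q, q * d * q⁻¹ = d := fun q => by rw [← hC d hd q, mul_inv_cancel_right]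
  have hE2' : E2 = x * (g * g) * x⁻¹ * (w * w) := by
    rw [hE2, hε', show x * (g * g * (w * w)) * x⁻¹ = x * (g * g) * (w * w * x⁻¹) by group, hww x⁻¹]; group
  have hB' : B = h * (g * g) * h⁻¹ * (w * w) := by
    rw [hB, hε', show h * (g * g * (w * w)) * h⁻¹ = h * (g * g) * (w * w * h⁻¹) by group, hww h⁻¹]; group
  have hBE : B * E2 = g * w := by
    rw [hE2', hB']
    set a := h * (g * g) * h⁻¹
    set b := x * (g * g) * x⁻¹
    calc a * (w * w) * (b * (w * w)) = a * (w * w * b) * (w * w) := by group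
      _ = a * b * ((w * w) * (w * w)) := by rw [hww b]; group
      _ = g * c * (w * w * (w * w)) := by simp only [c, a, b]; group
      _ = g * w := by
        rw [show w * w * (w * w) = w ^ 3 * w by simp [pow_succ, mul_assoc], hj]; group
  obtain ⟨c0, hc0, hc0e⟩ : ∃ c0 ∈ C, B * E2 * B⁻¹ = E3 * c0 := by
    refine ⟨E3⁻¹ * (B * E2 * B⁻¹), ?_, by group⟩
    have : E3⁻¹ * (B * E2 * B⁻¹) = (x * (x * (g * g) * x⁻¹) * x⁻¹)⁻¹ *
        (h * (g * g) * h⁻¹ * (x * (g * g) * x⁻¹) * (h * (g * g) * h⁻¹)⁻¹) := by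
      rw [hE3, hE2', hB']
      set a := h * (g * g) * h⁻¹
      set b := x * (g * g) * x⁻¹
      have k1 := hww x⁻¹
      have k2 := hww b
      have k3 := hww a⁻¹
      rw [show x * (b * (w * w)) * x⁻¹ = x * b * x⁻¹ * (w * w) by
        rw [show x * (b * (w * w)) * x⁻¹ = x * b * (w * w * x⁻¹) by group, k1]; group]
      rw [show a * (w * w) * (b * (w * w)) * (a * (w * w))⁻¹ = a * (w * w * b) * a⁻¹ by group, k2]
      rw [show a * (b * (w * w)) * a⁻¹ = a * b * (w * w * a⁻¹) by group, k3]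
      rw [show (x * b * x⁻¹ * (w * w))⁻¹ * (a * b * (a⁻¹ * (w * w))) =
        (w * w)⁻¹ * ((x * b * x⁻¹)⁻¹ * (a * b * a⁻¹)) * (w * w) by group]
      have k4 := hww ((x * b * x⁻¹)⁻¹ * (a * b * a⁻¹))
      rw [mul_assoc (w * w)⁻¹, ← k4, inv_mul_cancel_left]
    rw [this]; exact e2
  have hdE2 : E2 * E2 = d := by rw [hE2, show x * ε * x⁻¹ * (x * ε * x⁻¹) = x * (ε * ε) * x⁻¹ by group, ← hdd, hconj]
  have hdE3 : E3 * E3 = d := by rw [hE3, show x * E2 * x⁻¹ * (x * E2 * x⁻¹) = x * (E2 * E2) * x⁻¹ by group, hdE2, hconj]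
  have hdB : B * B = d := by rw [hB, show h * ε * h⁻¹ * (h * ε * h⁻¹) = h * (ε * ε) * h⁻¹ by group, ← hdd, hconj]
  have hc02 : c0 * c0 = 1 := by
    have e : B * E2 * B⁻¹ * (B * E2 * B⁻¹) = d := by
      rw [show B * E2 * B⁻¹ * (B * E2 * B⁻¹) = B * (E2 * E2) * B⁻¹ by group, hdE2, hconj]
    rw [hc0e, show E3 * c0 * (E3 * c0) = E3 * (c0 * E3) * c0 by group, hC c0 hc0 E3,
      show E3 * (E3 * c0) * c0 = E3 * E3 * (c0 * c0) by group, hdE3] at e
    exact mul_eq_left.1 e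
  have heε : ε = E3 * E2 * (c0 * d) := by
    calc ε = B * E2 * (B * E2) := by rw [hBE, hε]
      _ = B * E2 * B⁻¹ * (B * B) * E2 := by group
      _ = E3 * (c0 * d * E2) := by rw [hc0e, hdB]; group
      _ = E3 * E2 * (c0 * d) := by rw [hC _ (mul_mem hc0 hd) E2]; group
  -- the commutator of `E2` and `E3`
  set γ := (E3 * E2)⁻¹ * (E2 * E3) with hγ
  have hP : E3 * E2 * (E3 * E2) * (c0 * d * (c0 * d)) = d := by
    have e : ε * ε = E3 * E2 * (E3 * E2) * (c0 * d * (c0 * d)) := by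
      rw [heε, show E3 * E2 * (c0 * d) * (E3 * E2 * (c0 * d)) = E3 * E2 * (c0 * d * (E3 * E2)) * (c0 * d) by group,
        hC _ (mul_mem hc0 hd) (E3 * E2)]
      group
    exact e.symm.trans hdd.symm
  have hd2 : d * d = 1 := by
    set δ := E2⁻¹ * (E3⁻¹ * E2 * E3) with hδ
    have hδ' : E3 * E2 * (E3 * E2) = d * d * δ := by
      calc E3 * E2 * (E3 * E2) = E3 * E3 * (E3⁻¹ * E2 * E3) * E2 := by group
        _ = E3 * E3 * (E2 * δ * E2) := by rw [hδ]; group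
        _ = E3 * E3 * (E2 * E2) * (E2⁻¹ * δ * E2) := by group
        _ = d * d * δ := by
          rw [hdE3, hdE2]
          have : δ ∈ C := by
            have e := eq_mul_inv_of_mul_eq hP
            have e' : δ = E2 * (E3 * E3 * (E2 * E2))⁻¹ * (E3 * E2 * (E3 * E2)) * E2⁻¹ := by rw [hδ]; group
            rw [e', e, hdE3, hdE2]
            have hm : (d * d)⁻¹ * (d * (c0 * d * (c0 * d))⁻¹) ∈ C :=
              mul_mem (inv_mem (mul_mem hd hd)) (mul_mem hd (inv_mem (mul_mem (mul_mem hc0 hd) (mul_mem hc0 hd))))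
            rw [show E2 * (d * d)⁻¹ * (d * (c0 * d * (c0 * d))⁻¹) * E2⁻¹ =
              E2 * ((d * d)⁻¹ * (d * (c0 * d * (c0 * d))⁻¹)) * E2⁻¹ by group, ← hC _ hm E2, mul_inv_cancel_right]
            exact hm
          rw [mul_assoc E2⁻¹, hC δ this E2, inv_mul_cancel_left]
    have hδC : δ ∈ C := by
      have e := hP
      rw [hδ'] at e
      have : δ = (d * d)⁻¹ * d * (c0 * d * (c0 * d))⁻¹ := by
        conv_rhs => arg 1; arg 2; rw [← e]
        group
      rw [this]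
      exact mul_mem (mul_mem (inv_mem (mul_mem hd hd)) hd) (inv_mem (mul_mem (mul_mem hc0 hd) (mul_mem hc0 hd)))
    have hδ2 : δ * δ = 1 := by
      have e : E3⁻¹ * (E2 * E2) * E3 = E2 * E2 := by
        rw [hdE2]; simpa using hconj E3⁻¹
      rw [show E3⁻¹ * (E2 * E2) * E3 = (E3⁻¹ * E2 * E3) * (E3⁻¹ * E2 * E3) by group,
        show E3⁻¹ * E2 * E3 = E2 * δ by rw [hδ]; group,
        show E2 * δ * (E2 * δ) = E2 * (δ * E2) * δ by group, hC δ hδC E2,
        show E2 * (E2 * δ) * δ = E2 * E2 * (δ * δ) by group] at e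
      exact mul_eq_left.1 e
    rw [hδ', show c0 * d * (c0 * d) = c0 * (d * c0) * d by group, ← hC c0 hc0 d,
      show c0 * (c0 * d) * d = c0 * c0 * (d * d) by group, hc02, one_mul] at hP
    have hd6 : d ^ 6 = 1 := by
      have hδd : δ = (d * d)⁻¹ * d * (d * d)⁻¹ := by
        conv_rhs => arg 1; arg 2; rw [← hP]
        group
      rw [hδd] at hδ2
      rw [← inv_inj, inv_one, ← hδ2]
      group
    obtain ⟨n, hn⟩ := h2 d hd
    refine pow_eq_one_of_odd (n := 3) (k := n) ⟨1, rfl⟩ ?_ ?_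
    · rw [← hd6]; simp [pow_succ, mul_assoc]
    · rw [← pow_two, ← pow_mul, mul_comm, pow_mul, hn, one_pow]
  refine ⟨hd2, ?_⟩
  have hr : ε⁻¹ * (E3 * E2) = (c0 * d)⁻¹ := by rw [heε]; group
  rw [hr, ← mul_inv_rev, show c0 * d * (c0 * d) = c0 * (d * c0) * d by group, ← hC c0 hc0 d,
    show c0 * (c0 * d) * d = c0 * c0 * (d * d) by group, hc02, hd2, one_mul, inv_one]

variable {Y : Type u} [Group Y] [Finite Y] {R : Subgroup Y}

/-- The section obtained from the parity identity. -/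
theorem false_of_parity (hrank : Cfsg.SectionalPRankLE 2 4 Y) (F : Frame R) (hR : IsPGroup 2 R)
    (hcomm : ∀ a ∈ R, ∀ b ∈ R, a * b = b * a)
    (S H : Subgroup Y) [S.Normal] [H.Normal] (hH : H ≤ R)
    (hsqH : ∀ a ∈ R, a * a ∈ S → a ∈ H) (hcen : ∀ y, ∀ a ∈ R, y * a * y⁻¹ * a⁻¹ ∈ S)
    {p : Y → Vec (ZMod 2)} (hp : NatSec F H p)
    (A0 : Subgroup Y) (hA0 : A0 ≤ R) (hsqA : ∀ a ∈ A0, a * a ∈ H ∧ p (a * a) = 0)
    (hT : ∀ y, (F.φ y = tau ∨ F.φ y = wd sig tau wC) → ∀ a ∈ A0,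
      y * a * y⁻¹ * a⁻¹ ∈ H ∧ (p (y * a * y⁻¹ * a⁻¹) = 0 ∨ p (y * a * y⁻¹ * a⁻¹) = e0))
    (hcard : ∀ N : Subgroup Y, (∀ a, a ∈ N ↔ a ∈ H ∧ (p a = 0 ∨ p a = e0)) → 4 * Nat.card N < Nat.card A0) :
    False := by
  obtain ⟨hmat, hdet, hmatB, hmatC⟩ := parity_facts
  obtain ⟨f1, f2, f3, f4, f5, f6, f7, f8, f9, f10, f11, f12⟩ := frame_facts
  obtain ⟨s, hs⟩ := F.exists_sigma
  obtain ⟨t, ht⟩ := F.exists_tau
  obtain ⟨hy, hhy⟩ := F.surj hmat hdet
  set π := QuotientGroup.mk' S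
  set x := wY s t wX
  have hφg : F.φ (wY s t wG) = wd sig tau wG := by rw [F.φ_wY, hs, ht]
  have hφx : F.φ x = wd sig tau wX := by rw [F.φ_wY, hs, ht]
  have hx3 : x * x * x ∈ R := by rw [← wY_append, ← wY_append]; exact F.wY_mem hs ht f6
  have hφA : ∀ g, F.φ g = wd sig tau wG → F.φ (g * g) = wd sig tau wA := fun g hg => by
    rw [F.map_mul, hg]; decide +kernel
  have hφxi : F.φ x⁻¹ = mm (wd sig tau wX) (wd sig tau wX) := by
    rw [(F.eq_iff x⁻¹ (x * x)).2 (by rw [inv_inv, ← mul_assoc]; exact hx3), F.map_mul, hφx]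
  have hφ2 : ∀ g, F.φ g = wd sig tau wG → F.φ (x * (g * g) * x⁻¹) = tau := fun g hg => by
    rw [F.map_mul (x * (g * g)), F.map_mul x (g * g), hφA g hg, hφx, hφxi]; decide +kernel
  have hφ3 : ∀ g, F.φ g = wd sig tau wG → F.φ (x * (x * (g * g) * x⁻¹) * x⁻¹) = wd sig tau wC := fun g hg => by
    rw [F.map_mul (x * _), F.map_mul x (x * (g * g) * x⁻¹), hφ2 g hg, hφx, hφxi]; decide +kernel
  have hφB : ∀ g, F.φ g = wd sig tau wG → F.φ (hy * (g * g) * hy⁻¹) = mm (wd sig tau wG) tau := fun g hg => by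
    have e1 := F.map_mul (hy * (g * g) * hy⁻¹) hy
    rw [inv_mul_cancel_right, F.map_mul hy (g * g), hφA g hg, hhy, ← hmatB] at e1
    refine mv_ext fun v => ?_
    obtain ⟨y, hy'⟩ := F.surj _ (F.det hy⁻¹)
    have e2 := congrArg (fun M => mv M (mv (F.φ hy⁻¹) v)) e1
    have e3 : mm hmat (F.φ hy⁻¹) = mid := by rw [← hhy, ← F.map_mul, mul_inv_cancel, F.φ_one]
    simp only [mv_mm, ← mv_mm hmat, e3, mv_mid] at e2
    rw [mv_mm]; exact e2.symm
  set g := wY s t wG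
  have hgR : g * g * (g * g) ∈ R := by
    rw [← wY_append, ← wY_append, ← List.append_assoc]; exact F.wY_mem hs ht f5
  have hCc : ∀ c ∈ R.map π, ∀ q, c * q = q * c := by
    rintro - ⟨a, ha, rfl⟩ q
    obtain ⟨y, rfl⟩ := QuotientGroup.mk'_surjective S q
    rw [← map_mul, ← map_mul, eq_comm, ← mul_inv_eq_one, ← map_inv, ← map_mul]
    exact (QuotientGroup.eq_one_iff _).2 (by
      rw [show y * a * (a * y)⁻¹ = y * a * y⁻¹ * a⁻¹ by group]; exact hcen y a ha)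
  have hC2 : ∀ c ∈ R.map π, ∃ k, c ^ 2 ^ k = 1 := fun c hc => by
    obtain ⟨k, hk⟩ := (hR.map π) ⟨c, hc⟩
    exact ⟨k, congrArg Subtype.val hk⟩
  obtain ⟨w, ⟨a, ha, rfl⟩, hd, hr⟩ := parity hCc hC2 (g := π g) (x := π x) (h := π hy)
    (by rw [← map_mul, ← map_mul]; exact mem_map_of_mem π hgR)
    (by
      simp only [← map_mul, ← map_inv]
      refine mem_map_of_mem π ((F.eq_iff _ _).1 ?_)
      rw [F.map_mul (hy * _ * _), hφB g hφg, hφ2 g hφg, hφg]
      decide +kernel)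
    (by
      simp only [← map_mul, ← map_inv]
      refine mem_map_of_mem π ((F.eq_iff _ _).1 ?_)
      have e := F.map_mul (hy * (g * g) * hy⁻¹ * (x * (g * g) * x⁻¹) * (hy * (g * g) * hy⁻¹)⁻¹) (hy * (g * g) * hy⁻¹)
      rw [inv_mul_cancel_right, F.map_mul (hy * (g * g) * hy⁻¹), hφB g hφg, hφ2 g hφg, ← hmatC] at e
      refine mv_ext fun v => ?_
      rw [hφ3 g hφg]
      set B := hy * (g * g) * hy⁻¹
      have e2 := congrArg (fun M => mv M (mv (F.φ B⁻¹) v)) e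
      have e3 : mm (mm (wd sig tau wG) tau) (F.φ B⁻¹) = mid := by
        rw [← hφB g hφg, ← F.map_mul, mul_inv_cancel, F.φ_one]
      simp only [mv_mm] at e2
      rw [← mv_mm (wd sig tau wG) tau, ← mv_mm _ (F.φ B⁻¹), e3, mv_mid] at e2
      exact e2)
  simp only [← map_mul, ← map_inv] at hd hr
  set yg := g * a
  have hφyg : F.φ yg = wd sig tau wG := by
    rw [F.map_mul g a, F.φ_eq_mid.2 ha, hφg]; decide +kernel
  have hdS : yg * yg * (yg * yg) * (yg * yg * (yg * yg)) ∈ S := (QuotientGroup.eq_one_iff _).1 hd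
  have hrS := (QuotientGroup.eq_one_iff _).1 hr
  set T1 := yg * yg with hT1
  set T2 := x * T1 * x⁻¹ with hT2
  set T3 := x * T2 * x⁻¹ with hT3
  set r := T1⁻¹ * (T3 * T2) with hrdef
  have hφT1 : F.φ T1 = wd sig tau wA := hφA yg hφyg
  have hφT2 : F.φ T2 = tau := hφ2 yg hφyg
  have hφT3 : F.φ T3 = wd sig tau wC := hφ3 yg hφyg
  have hT1R : T1 * T1 ∈ R := F.φ_eq_mid.1 (by rw [F.map_mul T1 T1, hφT1]; decide +kernel)
  have hrR : r ∈ R := (F.eq_iff _ _).1 (by rw [F.map_mul T3 T2, hφT1, hφT3, hφT2]; decide +kernel)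
  have hdH : T1 * T1 ∈ H := hsqH _ hT1R hdS
  have hrH : r ∈ H := hsqH _ hrR hrS
  -- the subgroup `N`
  let N : Subgroup Y :=
    { carrier := {a | a ∈ H ∧ (p a = 0 ∨ p a = e0)}
      one_mem' := ⟨one_mem _, Or.inl hp.map_one⟩
      mul_mem' := by
        rintro a b ⟨ha, ha'⟩ ⟨hb, hb'⟩
        refine ⟨mul_mem ha hb, ?_⟩
        rw [hp.mul a ha b hb]
        rcases ha' with e | e <;> rcases hb' with e' | e' <;> rw [e, e'] <;> decide
      inv_mem' := by
        rintro a ⟨ha, ha'⟩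
        refine ⟨inv_mem ha, ?_⟩
        have := hp.mul a⁻¹ (inv_mem ha) a ha
        rw [inv_mul_cancel, hp.map_one] at this
        have hneg : p a⁻¹ = p a := by
          generalize p a⁻¹ = u, p a = v at this ⊢
          revert this; revert u v; decide +kernel
        rwa [hneg] }
  have hNmem : ∀ a, a ∈ N ↔ a ∈ H ∧ (p a = 0 ∨ p a = e0) := fun a => Iff.rfl
  have hyH : ∀ y, ∀ a ∈ H, y * a * y⁻¹ ∈ H := fun y a ha => Subgroup.Normal.conj_mem inferInstance a ha y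
  have hNconj : ∀ y, mv (F.φ y) e0 = e0 → ∀ n ∈ N, y * n * y⁻¹ ∈ N := by
    rintro y hy n ⟨hn, hn'⟩
    refine ⟨hyH y n hn, ?_⟩
    rw [hp.conj y n hn]
    rcases hn' with e | e <;> rw [e]
    · exact Or.inl (mv_zero _)
    · exact Or.inr hy
  have hdN : T1 * T1 ∈ N := by
    refine ⟨hdH, fix_g _ ?_⟩
    rw [← hφyg, ← hp.conj yg _ hdH]
    congr 1
    rw [hT1]; group
  have hT2N : T2 * T2 ∈ N := by
    rw [hT2, show x * T1 * x⁻¹ * (x * T1 * x⁻¹) = x * (T1 * T1) * x⁻¹ by group]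
    exact hNconj x (by rw [hφx]; exact f11) _ hdN
  have hT3N : T3 * T3 ∈ N := by
    rw [hT3, show x * T2 * x⁻¹ * (x * T2 * x⁻¹) = x * (T2 * T2) * x⁻¹ by group]
    exact hNconj x (by rw [hφx]; exact f11) _ hT2N
  have hprodN : T3 * T2 * (T3 * T2) ∈ N := by
    have e : T3 * T2 = T1 * r := by rw [hrdef]; group
    rw [e, sq_shift (hcomm _ hT1R r hrR), mul_assoc]
    refine mul_mem hdN ⟨mul_mem (hyH _ r hrH) hrH, ?_⟩
    rw [hp.mul _ (hyH _ r hrH) _ hrH, hp.conj T1 r hrH, hφT1]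
    exact add_transvection wA (by simp) _
  have he2 : mv (F.φ T2) e0 = e0 := by rw [hφT2]; decide +kernel
  have he3 : mv (F.φ T3) e0 = e0 := by rw [hφT3]; decide +kernel
  set Sg : Set Y := (A0 : Set Y) ∪ {T2, T3}
  have hnorm : Sg ⊆ normalizer (N : Set Y) := by
    rintro z (hz | rfl | rfl)
    · exact mem_normalizer_of_conj fun n hn => by
        rw [hcomm z (hA0 hz) n (hH hn.1), mul_inv_cancel_right]; exact hn
    · exact mem_normalizer_of_conj (hNconj _ he2)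
    · exact mem_normalizer_of_conj (hNconj _ he3)
  have hswap : ∀ {u v : Y}, u * v * u⁻¹ * v⁻¹ ∈ N → v * u * v⁻¹ * u⁻¹ ∈ N := fun {u v} huv => by
    have := inv_mem huv
    rwa [show (u * v * u⁻¹ * v⁻¹)⁻¹ = v * u * v⁻¹ * u⁻¹ by group] at this
  have hTT : T3 * T2 * T3⁻¹ * T2⁻¹ ∈ N :=
    comm_mem_of_squares hT3N hT2N hprodN fun n hn =>
      (mem_normalizer_iff''.1 (hnorm (Or.inr (Or.inl rfl))) n).1 hn
  have hc : ∀ x ∈ Sg, ∀ y ∈ Sg, x * y * x⁻¹ * y⁻¹ ∈ N := by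
    rintro u (hu | rfl | rfl) v (hv | rfl | rfl)
    · rw [hcomm u (hA0 hu) v (hA0 hv)]; simp
    · exact hswap (hT _ (Or.inl hφT2) u hu)
    · exact hswap (hT _ (Or.inr hφT3) u hu)
    · exact hT _ (Or.inl hφT2) v hv
    · simp
    · exact hswap hTT
    · exact hT _ (Or.inr hφT3) v hv
    · exact hTT
    · simp
  have hsq : ∀ x ∈ Sg, x * x ∈ N := by
    rintro u (hu | rfl | rfl)
    · exact ⟨(hsqA u hu).1, Or.inl (hsqA u hu).2⟩
    · exact hT2N
    · exact hT3N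
  refine false_of_set hrank hnorm hsq hc ?_
  have hm2 : T2 ∈ closure Sg := subset_closure (Or.inr (Or.inl rfl))
  have hm3 : T3 ∈ closure Sg := subset_closure (Or.inr (Or.inr rfl))
  let Ψ : A0 × Bool × Bool → ↥(N ⊔ closure Sg) := fun u =>
    ⟨(if u.2.1 then T3 else 1) * (if u.2.2 then T2 else 1) * u.1, mem_sup_right (mul_mem (mul_mem
      (by split <;> [exact hm3; exact one_mem _]) (by split <;> [exact hm2; exact one_mem _]))
      (subset_closure (Or.inl u.1.2)))⟩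
  have hinj : Function.Injective Ψ := by
    rintro ⟨⟨u, hu⟩, i, j⟩ ⟨⟨v, hv⟩, i', j'⟩ e
    have e : (if i then T3 else 1) * (if j then T2 else 1) * u = (if i' then T3 else 1) * (if j' then T2 else 1) * v :=
      congrArg Subtype.val e
    have hij : i = i' ∧ j = j' := by
      have hφ := congrArg F.φ e
      rw [F.map_mul, F.map_mul, F.map_mul, F.map_mul, F.φ_eq_mid.2 (hA0 hu), F.φ_eq_mid.2 (hA0 hv),
        apply_ite F.φ, apply_ite F.φ, apply_ite F.φ, apply_ite F.φ, hφT2, hφT3, F.φ_one] at hφ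
      revert hφ
      cases i <;> cases j <;> cases i' <;> cases j' <;> decide +kernel
    obtain ⟨rfl, rfl⟩ := hij
    obtain rfl := mul_left_cancel e
    rfl
  have hle := Nat.card_le_card_of_injective _ hinj
  rw [Nat.card_prod, Nat.card_prod, Nat.card_eq_fintype_card (α := Bool), Fintype.card_bool] at hle
  have := hcard N hNmem
  omega

end CfsgLib.L32
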