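import Mathlib

/-!
Finite tables on `3 × 3` matrices over `ℤ/2` and `ℤ/4` for the group `GL(3,2)`.
-/

set_option autoImplicit false
set_option synthInstance.maxHeartbeats 1000000
set_option synthInstance.maxSize 800
set_option maxRecDepth 4000

namespace CfsgLib.L32

/-- Vectors of length three. -/
abbrev Vec (R : Type*) := R × R × R

/-- Matrices given by their three columns. -/
abbrev Mat (R : Type*) := Vec R × Vec R × Vec R

section Algebra

variable {R : Type*} [CommRing R]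

/-- A matrix applied to a vector. -/
def mv (M : Mat R) (v : Vec R) : Vec R :=
  (v.1 * M.1.1 + v.2.1 * M.2.1.1 + v.2.2 * M.2.2.1,
   v.1 * M.1.2.1 + v.2.1 * M.2.1.2.1 + v.2.2 * M.2.2.2.1,
   v.1 * M.1.2.2 + v.2.1 * M.2.1.2.2 + v.2.2 * M.2.2.2.2)

/-- The product of two matrices. -/
def mm (M N : Mat R) : Mat R := (mv M N.1, mv M N.2.1, mv M N.2.2)

/-- The identity matrix. -/
def mid : Mat R := ((1, 0, 0), (0, 1, 0), (0, 0, 1))

/-- The determinant. -/
def det3 (M : Mat R) : R :=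
  M.1.1 * (M.2.1.2.1 * M.2.2.2.2 - M.2.1.2.2 * M.2.2.2.1)
    - M.2.1.1 * (M.1.2.1 * M.2.2.2.2 - M.1.2.2 * M.2.2.2.1)
    + M.2.2.1 * (M.1.2.1 * M.2.1.2.2 - M.1.2.2 * M.2.1.2.1)

theorem mv_mm (M N : Mat R) (v : Vec R) : mv (mm M N) v = mv M (mv N v) := by
  simp only [mv, mm, Prod.mk.injEq]; constructor
  · ring
  · constructor <;> ring

theorem mv_mid (v : Vec R) : mv (mid : Mat R) v = v := by
  simp [mv, mid]

theorem mv_add (M : Mat R) (v w : Vec R) : mv M (v + w) = mv M v + mv M w := by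
  simp only [mv, Prod.fst_add, Prod.snd_add, Prod.mk_add_mk, Prod.mk.injEq]; constructor
  · ring
  · constructor <;> ring

theorem mv_zero (M : Mat R) : mv M 0 = 0 := by
  simp [mv]

theorem mv_neg (M : Mat R) (v : Vec R) : mv M (-v) = -mv M v :=
  eq_neg_of_add_eq_zero_left (by rw [← mv_add, neg_add_cancel, mv_zero])

theorem mv_ext {M N : Mat R} (h : ∀ v, mv M v = mv N v) : M = N := by
  have h0 := h (1, 0, 0); have h1 := h (0, 1, 0); have h2 := h (0, 0, 1)
  simp only [mv, one_mul, zero_mul, add_zero, zero_add, Prod.mk.injEq] at h0 h1 h2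
  obtain ⟨⟨a, b, c⟩, ⟨d, e, f⟩, g, i, j⟩ := M
  obtain ⟨⟨a', b', c'⟩, ⟨d', e', f'⟩, g', i', j'⟩ := N
  simp only at h0 h1 h2
  obtain ⟨rfl, rfl, rfl⟩ := h0; obtain ⟨rfl, rfl, rfl⟩ := h1; obtain ⟨rfl, rfl, rfl⟩ := h2; rfl

theorem det3_mm (M N : Mat R) : det3 (mm M N) = det3 M * det3 N := by
  simp only [det3, mm, mv]; ring

theorem det3_mid : det3 (mid : Mat R) = 1 := by simp [det3, mid]

/-- A word in two matrices. -/
def wd (s t : Mat R) : List Bool → Mat R
  | [] => mid
  | b :: l => mm (if b then s else t) (wd s t l)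

end Algebra

/-- Apply a map to the entries of a vector. -/
def vmap {R S : Type*} (f : R → S) (v : Vec R) : Vec S := (f v.1, f v.2.1, f v.2.2)

/-- Apply a map to the entries of a matrix. -/
def mmap {R S : Type*} (f : R → S) (M : Mat R) : Mat S := (vmap f M.1, vmap f M.2.1, vmap f M.2.2)

theorem vmap_mv {R S : Type*} [CommRing R] [CommRing S] (f : R →+* S) (M : Mat R) (v : Vec R) :
    vmap f (mv M v) = mv (mmap f M) (vmap f v) := by
  simp [vmap, mmap, mv]

/-- Reduction modulo two. -/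
def lo : ZMod 4 →+* ZMod 2 := ZMod.castHom (by norm_num) (ZMod 2)

/-- The second binary digit. -/
def hi (a : ZMod 4) : ZMod 2 := ((a.val / 2 : ℕ) : ZMod 2)

/-- Twice a residue modulo two. -/
def dbl : ZMod 2 →+ ZMod 4 where
  toFun a := 2 * (a.val : ZMod 4)
  map_zero' := by decide
  map_add' := by decide

theorem dbl_facts : (∀ a, 2 * a = dbl (lo a)) ∧ (∀ a b, a * dbl b = dbl (lo a * b)) ∧ (∀ a, lo (dbl a) = 0) ∧
    (∀ a, ((lo a).val : ZMod 4) + dbl (hi a) = a) ∧ (∀ a, dbl a + dbl a = 0) ∧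
    (∀ a, lo a = 0 → a = dbl (hi a)) := by decide +kernel

/-- A lift of a matrix to `ℤ/4`. -/
def liftMat (M D : Mat (ZMod 2)) : Mat (ZMod 4) := mmap (fun a => (a.val : ZMod 4)) M + mmap dbl D

theorem eq_liftMat (N : Mat (ZMod 4)) : N = liftMat (mmap lo N) (mmap hi N) := by
  simp only [liftMat, mmap, vmap, Prod.mk_add_mk, dbl_facts.2.2.2.1]

theorem mv_dbl (M : Mat (ZMod 4)) (v : Vec (ZMod 2)) : mv M (vmap dbl v) = vmap dbl (mv (mmap lo M) v) := by
  have h := dbl_facts.2.1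
  simp only [mv, vmap, mmap, map_add, Prod.mk.injEq]
  simp only [mul_comm (dbl _), h, mul_comm (lo _)]
  exact ⟨trivial, trivial, trivial⟩

/-! ### The frame over `ℤ/2` -/

/-- The element of order seven. -/
def sig : Mat (ZMod 2) := ((0, 1, 0), (0, 0, 1), (1, 1, 0))

/-- The involution. -/
def tau : Mat (ZMod 2) := ((1, 0, 0), (1, 1, 0), (0, 0, 1))

/-- The word for the element `g` of order four. -/
def wG : List Bool := [true, true, false, true, false, true]

/-- The word for the square of `g`. -/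
def wA : List Bool := wG ++ wG

/-- The word for the element of order three. -/
def wX : List Bool := [true, true, true, true, false, true, false]

/-- The word for the first conjugate of `g²`. -/
def wB : List Bool := wX ++ wA ++ wX ++ wX

/-- The word for the second conjugate of `g²`. -/
def wC : List Bool := wX ++ wB ++ wX ++ wX

/-- The relations used in the tables. -/
def rels : List (List Bool) :=
  [[false, false], [true, false, true, false, true, false, true, false],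
   [true, true, false, true, true, false, true, true, false]]

/-- The first basis vector. -/
def e0 : Vec (ZMod 2) := (1, 0, 0)

theorem frame_facts :
    wd sig tau [true, true, true, true, true, true, true] = mid ∧ sig ≠ mid ∧
    (∀ r ∈ rels, wd sig tau r = mid) ∧
    wd sig tau wG ≠ mid ∧ wd sig tau (wG ++ wG ++ wG ++ wG) = mid ∧
    wd sig tau (wX ++ wX ++ wX) = mid ∧
    wd sig tau wA = ((1, 0, 0), (0, 1, 0), (1, 0, 1)) ∧
    wd sig tau wB = tau ∧ wd sig tau wC = ((1, 0, 0), (1, 1, 0), (1, 0, 1)) ∧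
    wd sig tau (wC ++ wB) = wd sig tau wA ∧
    mv (wd sig tau wX) e0 = e0 ∧ wd sig tau [true, true, true] ≠ mid := by decide +kernel

theorem card_det : Fintype.card {M : Mat (ZMod 2) // det3 M = 1} = 168 := by decide +kernel

theorem det_of_inj : ∀ M : Mat (ZMod 2), (∀ v, mv M v = 0 → v = 0) → det3 M = 1 := by decide +kernel

theorem inj_of_det : ∀ M : Mat (ZMod 2), det3 M = 1 → ∀ v, mv M v = 0 → v = 0 := by decide +kernel

theorem trans_vec : ∀ v : Vec (ZMod 2), v ≠ 0 → ∃ M : Mat (ZMod 2), det3 M = 1 ∧ mv M e0 = v := by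
  decide +kernel

theorem commutant : ∀ M : Mat (ZMod 2), mm M sig = mm sig M → mm M tau = mm tau M → M = 0 ∨ M = mid := by
  decide +kernel

theorem line_stab : ∃ A B : Mat (ZMod 2), det3 A = 1 ∧ det3 B = 1 ∧
    mv A (1, 0, 0) = (1, 0, 0) ∧ mv A (0, 1, 0) = (0, 1, 0) ∧
    mv B (1, 0, 0) = (0, 1, 0) ∧ mv B (0, 1, 0) = (1, 1, 0) ∧
    ∀ v, mv A v = v → mv B v = v → v = 0 := by decide +kernel

theorem fix_e0 : ∀ v, (mv (wd sig tau wX) v = v ∨ mv (wd sig tau wX) v = v + e0) → v = 0 ∨ v = e0 := by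
  decide +kernel

theorem fix_g : ∀ v, mv (wd sig tau wG) v = v → v = 0 ∨ v = e0 := by decide +kernel

theorem add_transvection : ∀ w ∈ [wA, wB, wC], ∀ v, mv (wd sig tau w) v + v = 0 ∨ mv (wd sig tau w) v + v = e0 := by
  decide +kernel

theorem fix_transvection : ∀ w ∈ [wX, wA, wB, wC], mv (wd sig tau w) e0 = e0 := by decide +kernel

/-! ### The tables over `ℤ/4` -/

/-- The element of order seven over `ℤ/4`. -/
def sigF : Mat (ZMod 4) := ((0, 1, 0), (0, 0, 1), (1, 3, 2))

theorem sigF_unique : ∀ δ : Vec (ZMod 2),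
    let M : Mat (ZMod 4) := ((0, 1, 0), (0, 0, 1), (1, 1, 0) + vmap dbl δ)
    wd M M [true, true, true, true, true, true, true] = mid → M = sigF := by decide +kernel

/-- The subgroup `N` of the first table. -/
def InN1 (a : Vec (ZMod 4)) : Prop := lo a.1 = 0 ∧ a.2.1 = 0 ∧ a.2.2 = 0

/-- The subgroup `A₀` of the first table. -/
def InA1 (a : Vec (ZMod 4)) : Prop := lo a.2.1 = 0 ∧ lo a.2.2 = 0

instance : DecidablePred InN1 := fun _ => inferInstanceAs (Decidable (_ ∧ _ ∧ _))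
instance : DecidablePred InA1 := fun _ => inferInstanceAs (Decidable (_ ∧ _))

/-- What the first table asserts of the matrices of `g`, the three involutions and the element of order three. -/
def Good1 (G A B C X : Mat (ZMod 4)) : Prop :=
  (mv X (2, 0, 0) = (2, 0, 0) ∧ mv A (2, 0, 0) = (2, 0, 0) ∧ mv B (2, 0, 0) = (2, 0, 0) ∧
    mv C (2, 0, 0) = (2, 0, 0)) ∧
  (∀ d, mv G d = d → ∃ a, InN1 (d + (mv A a + a))) ∧
  (∀ r, ∃ e, InN1 (mv B e + e) ∧ InN1 (mv A (r + e) + (r + e))) ∧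
  (∀ a, InA1 a → InN1 (mv B a - a) ∧ InN1 (mv C a - a))

instance (G A B C X : Mat (ZMod 4)) : Decidable (Good1 G A B C X) :=
  inferInstanceAs (Decidable ((_ ∧ _ ∧ _ ∧ _) ∧ _ ∧ _ ∧ _))

theorem card_InN1 : Fintype.card {a // InN1 a} = 2 := by decide +kernel

theorem card_InA1 : Fintype.card {a // InA1 a} = 16 := by decide +kernel

/-- The possible lifts of the involution. -/
def cands : List (Mat (ZMod 4)) :=
  [((3,0,0),(3,1,0),(0,0,3)),
   ((1,0,0),(1,3,2),(0,0,3)),
   ((1,0,0),(3,3,0),(2,0,3)),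
   ((3,0,0),(1,1,2),(2,0,3))]

theorem table_cands : ∀ D : Mat (ZMod 2), (∀ r ∈ rels, wd sigF (liftMat tau D) r = mid) →
    liftMat tau D ∈ cands := by decide +kernel

/-- The matrices of `g`, of the three involutions and of the element of order three over `ℤ/4`. -/
def words : List (Mat (ZMod 4) × Mat (ZMod 4) × Mat (ZMod 4) × Mat (ZMod 4) × Mat (ZMod 4)) :=
  [(((1,2,0),(1,1,0),(0,1,3)),((3,0,0),(2,3,0),(1,0,1)),((3,0,0),(3,1,0),(0,0,3)),((1,0,0),(3,3,0),(3,0,3)),((3,0,2),(2,2,1),(1,3,3))),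
   (((3,0,0),(3,1,2),(2,1,1)),((1,0,0),(0,3,0),(3,2,3)),((1,0,0),(1,3,2),(0,0,3)),((1,0,0),(3,1,2),(1,2,1)),((1,0,0),(0,0,3),(1,1,3))),
   (((3,2,0),(1,1,0),(2,1,1)),((3,0,0),(0,3,0),(1,2,1)),((1,0,0),(3,3,0),(2,0,3)),((3,0,0),(1,1,0),(1,2,3)),((3,2,0),(2,2,3),(1,3,3))),
   (((1,0,0),(3,1,2),(0,1,3)),((1,0,0),(2,3,0),(3,0,3)),((3,0,0),(1,1,2),(2,0,3)),((3,0,0),(1,3,2),(3,0,1)),((1,2,2),(0,0,1),(1,1,3)))]

theorem table_words : ∀ t ∈ cands, (wd sigF t wG, wd sigF t wA, wd sigF t wB, wd sigF t wC, wd sigF t wX) ∈ words := by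
  have h : (cands.all fun t =>
      decide ((wd sigF t wG, wd sigF t wA, wd sigF t wB, wd sigF t wC, wd sigF t wX) ∈ words)) = true := by
    decide +kernel
  exact fun t ht => of_decide_eq_true (List.all_eq_true.1 h t ht)

theorem table_good1 : ∀ p ∈ words, Good1 p.1 p.2.1 p.2.2.1 p.2.2.2.1 p.2.2.2.2 := by
  have h : (words.all fun p => decide (Good1 p.1 p.2.1 p.2.2.1 p.2.2.2.1 p.2.2.2.2)) = true := by decide +kernel
  exact fun t ht => of_decide_eq_true (List.all_eq_true.1 h t ht)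

/-- The affine map on the lifts of the fixed involution. -/
def aff (M : Mat (ZMod 2)) (u v : Vec (ZMod 2)) : Vec (ZMod 2) := mv M v + u

/-- An affine word. -/
def affWd (u : Vec (ZMod 2)) : List Bool → Vec (ZMod 2) → Vec (ZMod 2)
  | [], v => v
  | b :: l, v => if b then mv sig (affWd u l v) else aff tau u (affWd u l v)

theorem table_u : ∀ u, (∀ r ∈ rels, affWd u r 0 = 0) → u = 0 ∨ u = (1, 0, 1) := by decide +kernel

/-- The subgroup `N` of the second table. -/
def InN2 (a : Vec (ZMod 4)) : Prop := lo a.1 = 0 ∧ lo a.2.1 = 0 ∧ a.2.2 = 0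

/-- The subgroup `A₀` of the second table, without the fixed involution. -/
def InA2 (a : Vec (ZMod 4)) : Prop := lo a.2.2 = 0

instance : DecidablePred InN2 := fun _ => inferInstanceAs (Decidable (_ ∧ _ ∧ _))
instance : DecidablePred InA2 := fun _ => inferInstanceAs (Decidable (_ = _))

/-- What the second table asserts: `G`, `A` are the matrices of `g`, `g²`, and `ug`, `ua` give the images
of the moved involution under them. -/
def Good2 (G A : Mat (ZMod 4)) (ug ua : Vec (ZMod 2)) : Prop :=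
  (∀ v, mv G v + vmap dbl ug ≠ v) ∧
  (∀ d, mv G d = d → ∃ a, InN2 (d + (mv A a + a))) ∧
  (∀ a, InA2 a → InN2 (mv A a - a)) ∧ InN2 (vmap dbl ua) ∧
  (∀ a, InN2 a → InN2 (mv A a))

instance (G A : Mat (ZMod 4)) (ug ua : Vec (ZMod 2)) : Decidable (Good2 G A ug ua) :=
  inferInstanceAs (Decidable (_ ∧ _ ∧ _ ∧ _ ∧ _))

theorem card_InN2 : Fintype.card {a // InN2 a} = 4 := by decide +kernel

theorem card_InA2 : Fintype.card {a // InA2 a} = 32 := by decide +kernel

theorem table_aff : affWd (1, 0, 1) wG 0 = (0, 1, 1) ∧ affWd (1, 0, 1) wA 0 = (1, 1, 0) := by decide +kernel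

theorem table_good2 : ∀ p ∈ words, Good2 p.1 p.2.1 (0, 1, 1) (1, 1, 0) := by
  have h : (words.all fun p => decide (Good2 p.1 p.2.1 (0, 1, 1) (1, 1, 0))) = true := by decide +kernel
  exact fun t ht => of_decide_eq_true (List.all_eq_true.1 h t ht)

/-! ### A module of dimension four with one fixed vector -/

/-- A word in the four-dimensional model. -/
def extWd (k : Vec (ZMod 2)) : List Bool → Vec (ZMod 2) × ZMod 2 → Vec (ZMod 2) × ZMod 2
  | [], x => x
  | b :: l, x => let y := extWd k l x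
    if b then (mv sig y.1, y.2) else (mv tau y.1, k.1 * y.1.1 + k.2.1 * y.1.2.1 + k.2.2 * y.1.2.2 + y.2)

theorem table_k : ∀ k, (∀ r ∈ rels, ∀ x, extWd k r x = x) → k = 0 ∨ k = (0, 0, 1) := by decide +kernel

/-- The involution on the combined model `(ℤ/4)³ × ℤ/2`. -/
def bigT (t : Mat (ZMod 4)) (x : Vec (ZMod 4) × ZMod 2) : Vec (ZMod 4) × ZMod 2 :=
  (mv t x.1 + (if x.2 = 1 then vmap dbl (1, 0, 1) else 0), lo x.1.2.2 + x.2)

/-- A word in the combined model. -/
def bigWd (t : Mat (ZMod 4)) : List Bool → Vec (ZMod 4) × ZMod 2 → Vec (ZMod 4) × ZMod 2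
  | [], x => x
  | b :: l, x => let y := bigWd t l x
    if b then (mv sigF y.1, y.2) else bigT t y

theorem table_big : ∀ D : Mat (ZMod 2),
    ¬ ∀ r ∈ rels, ∀ x ∈ ([((1, 0, 0), 0), ((0, 1, 0), 0), ((0, 0, 1), 0), (0, 1)] : List (Vec (ZMod 4) × ZMod 2)),
      bigWd (liftMat tau D) r x = x := by decide +kernel

/-! ### The model for a cyclic extension -/

/-- The involution on the five-dimensional model. -/
def fiveT (k u : Vec (ZMod 2)) (ε : ZMod 2) (x : Vec (ZMod 2) × ZMod 2 × ZMod 2) :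
    Vec (ZMod 2) × ZMod 2 × ZMod 2 :=
  (mv tau x.1 + (if x.2.2 = 1 then u else 0), k.1 * x.1.1 + k.2.1 * x.1.2.1 + k.2.2 * x.1.2.2 + x.2.1 + x.2.2 * ε, x.2.2)

/-- A word in the five-dimensional model. -/
def fiveWd (k u : Vec (ZMod 2)) (ε : ZMod 2) :
    List Bool → Vec (ZMod 2) × ZMod 2 × ZMod 2 → Vec (ZMod 2) × ZMod 2 × ZMod 2
  | [], x => x
  | b :: l, x => let y := fiveWd k u ε l x
    if b then (mv sig y.1, y.2) else fiveT k u ε y

theorem table_five : ∀ k u ε, (∀ r ∈ rels, ∀ x, fiveWd k u ε r x = x) → (k = 0 ∧ ε = 0) ∨ u = 0 := by decide +kernel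

theorem parity_facts : ∃ h : Mat (ZMod 2), det3 h = 1 ∧
    mm (mm (wd sig tau wG) tau) h = mm h (wd sig tau wA) ∧
    mm (wd sig tau wC) (mm (wd sig tau wG) tau) = mm (mm (wd sig tau wG) tau) tau := by decide +kernel

end CfsgLib.L32
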